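/-
Elements of order prime to the characteristic in `GL_n` over a finite field.
-/
import Cfsg.Agent.H66.Semisimple

set_option autoImplicit false

open Polynomial Module UniqueFactorizationMonoid

namespace Cfsg.Agent.H66

universe u

variable {K : Type u} [Field K] {n : Type*} [Fintype n] [DecidableEq n]

/-- An element of order prime to the characteristic is killed by a separable `X ^ m - 1`. -/
theorem exists_squarefree_aeval_toLin' (p : ℕ) [Fact p.Prime] [CharP K p] {A : Matrix n n K} {m : ℕ}
    (hA : A ^ m = 1) (hm : m.Coprime p) :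
    ∃ s : K[X], Squarefree s ∧ aeval (Matrix.toLin' A) s = 0 := by
  refine ⟨X ^ m - 1, (X_pow_sub_one_separable_iff.2 ?_).squarefree, ?_⟩
  · rw [Ne, CharP.cast_eq_zero_iff K p]
    exact ((Fact.out : p.Prime).coprime_iff_not_dvd).1 hm.symm
  · rw [aeval_toLin']
    simp [hA]

/-- Semisimple elements of `GL` with the same characteristic polynomial are conjugate. -/
theorem isConj_of_charpoly_eq (p : ℕ) [Fact p.Prime] [CharP K p]
    {g h : Matrix.GeneralLinearGroup n K} (hg : (orderOf g).Coprime p) (hh : (orderOf h).Coprime p)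
    (hc : (g : Matrix n n K).charpoly = (h : Matrix n n K).charpoly) : IsConj g h := by
  obtain ⟨s, hs, hs0⟩ := exists_squarefree_aeval_toLin' p
    (show (g : Matrix n n K) ^ orderOf g = 1 by rw [← Units.val_pow_eq_pow_val, pow_orderOf_eq_one]; rfl) hg
  obtain ⟨t, ht, ht0⟩ := exists_squarefree_aeval_toLin' p
    (show (h : Matrix n n K) ^ orderOf h = 1 by rw [← Units.val_pow_eq_pow_val, pow_orderOf_eq_one]; rfl) hh
  obtain ⟨L, hL⟩ := exists_equiv_of_charpoly_eq hs ht hs0 ht0 (by simpa [Matrix.charpoly_toLin'] using hc)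
  exact gl_isConj_iff.2 (isConj_of_equiv L fun v => hL v)

/-- The centraliser of a semisimple element has every non-zero determinant. -/
theorem exists_commute_gl_det_eq [Finite K] [Nonempty n] (p : ℕ) [Fact p.Prime] [CharP K p]
    {g : Matrix.GeneralLinearGroup n K} (hg : (orderOf g).Coprime p) {c : K} (hc : c ≠ 0) :
    ∃ z : Matrix.GeneralLinearGroup n K, z * g = g * z ∧ (z : Matrix n n K).det = c := by
  obtain ⟨s, hs, hs0⟩ := exists_squarefree_aeval_toLin' p
    (show (g : Matrix n n K) ^ orderOf g = 1 by rw [← Units.val_pow_eq_pow_val, pow_orderOf_eq_one]; rfl) hg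
  obtain ⟨L, hL, hdet⟩ := exists_commute_det_eq _ hs hs0 hc
  have hd : (LinearMap.toMatrix' L.toLinearMap).det = c := by rw [LinearMap.det_toMatrix', hdet]
  refine ⟨Matrix.GeneralLinearGroup.mkOfDetNeZero _ (hd ▸ hc), Units.ext ?_, hd⟩
  change LinearMap.toMatrix' L.toLinearMap * (g : Matrix n n K) =
    (g : Matrix n n K) * LinearMap.toMatrix' L.toLinearMap
  apply Matrix.toLin'.injective
  rw [Matrix.toLin'_mul, Matrix.toLin'_mul, Matrix.toLin'_toMatrix']
  exact LinearMap.ext fun v => hL v

/-- Conjugation in `GL` by an element of prescribed determinant. -/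
theorem exists_conj_det_eq [Finite K] [Nonempty n] (p : ℕ) [Fact p.Prime] [CharP K p]
    {g h : Matrix.GeneralLinearGroup n K} (hg : (orderOf g).Coprime p) (hgh : IsConj g h)
    {c : K} (hc : c ≠ 0) :
    ∃ z : Matrix.GeneralLinearGroup n K, z * g * z⁻¹ = h ∧ (z : Matrix n n K).det = c := by
  obtain ⟨x, hx⟩ := isConj_iff.1 hgh
  have hx0 : (x : Matrix n n K).det ≠ 0 := Matrix.GeneralLinearGroup.det_ne_zero x
  obtain ⟨z, hz, hzd⟩ := exists_commute_gl_det_eq p hg (c := c / (x : Matrix n n K).det)
    (div_ne_zero hc hx0)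
  refine ⟨x * z, ?_, ?_⟩
  · rw [← hx, mul_inv_rev, mul_assoc x z g, hz]
    group
  · rw [Units.val_mul, Matrix.det_mul, hzd, mul_div_cancel₀ _ hx0]

/-- Every monic polynomial of degree `n` with non-zero constant term is the characteristic polynomial
of an element of order prime to `p`. -/
theorem exists_gl_charpoly_eq [Fintype K] (p : ℕ) [Fact p.Prime] [CharP K p] {k : ℕ} {f : K[X]}
    (hf : f.Monic) (hdeg : f.natDegree = k) (h0 : f.coeff 0 ≠ 0) :
    ∃ g : Matrix.GeneralLinearGroup (Fin k) K,
      (g : Matrix (Fin k) (Fin k) K).charpoly = f ∧ (orderOf g).Coprime p := by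
  classical
  set P : Fin (normalizedFactors f).toList.length → K[X] :=
    fun i => (normalizedFactors f).toList[i] with hP
  have hmem : ∀ i, P i ∈ normalizedFactors f := fun i => Multiset.mem_toList.1 (List.getElem_mem _)
  have hmon : ∀ i, (P i).Monic := fun i => by
    rw [← normalize_normalized_factor _ (hmem i)]
    exact monic_normalize (irreducible_of_normalized_factor _ (hmem i)).ne_zero
  have hirr : ∀ i, Irreducible (P i) := fun i => irreducible_of_normalized_factor _ (hmem i)
  have hprod : ∏ i, P i = f := by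
    rw [hP, ← List.prod_ofFn]
    simp only [Fin.getElem_fin, List.ofFn_getElem]
    rw [Multiset.prod_toList, prod_normalizedFactors_eq hf.ne_zero, hf.normalize_eq_self]
  have hfd := fun i => finiteDimensional_cycMod (hmon i)
  have hfr : finrank K (∀ i, CycMod (P i)) = k := by
    rw [← LinearMap.charpoly_natDegree (cycMul P), charpoly_cycMul hmon, hprod, hdeg]
  let b := Module.finBasisOfFinrankEq K _ hfr
  set A := LinearMap.toMatrix b b (cycMul P) with hAdef
  have hchar : A.charpoly = f := by
    rw [hAdef, LinearMap.charpoly_toMatrix, charpoly_cycMul hmon, hprod]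
  set N := ∏ i, (Fintype.card K ^ (P i).natDegree - 1) with hN
  have hq : 1 < Fintype.card K := Fintype.one_lt_card
  have hN0 : N ≠ 0 := Finset.prod_ne_zero_iff.2 fun i _ => by
    have := Nat.one_lt_pow (hirr i).natDegree_pos.ne' hq
    omega
  have hpow : ((X : K[X]) ^ N) • (1 : ∀ i, CycMod (P i)) = 1 := by
    funext i
    have : (Ideal.span {P i}).IsMaximal := PrincipalIdealRing.isMaximal_of_irreducible (hirr i)
    let := Ideal.Quotient.field (Ideal.span {P i})
    have : Finite (CycMod (P i)) := Module.finite_of_finite K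
    have := Fintype.ofFinite (CycMod (P i))
    have hcard : Fintype.card (CycMod (P i)) = Fintype.card K ^ (P i).natDegree := by
      rw [Module.card_eq_pow_finrank (K := K), finrank_quotient_span_eq_natDegree]
    have hX : (Ideal.Quotient.mk (Ideal.span {P i}) X : CycMod (P i)) ≠ 0 := by
      rw [Ne, Ideal.Quotient.eq_zero_iff_dvd]
      intro hd
      have h1 : X ∣ P i := (hirr i).dvd_symm irreducible_X hd
      exact h0 (X_dvd_iff.1 (h1.trans (hprod ▸ Finset.dvd_prod_of_mem P (Finset.mem_univ i))))
    obtain ⟨d, hd⟩ : (Fintype.card (CycMod (P i)) - 1) ∣ N := hcard ▸ Finset.dvd_prod_of_mem _ (Finset.mem_univ i)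
    change ((X : K[X]) ^ N) • (1 : CycMod (P i)) = 1
    rw [Algebra.smul_def, mul_one, map_pow, hd, pow_mul]
    change ((Ideal.Quotient.mk (Ideal.span {P i}) X : CycMod (P i)) ^ _) ^ d = 1
    rw [FiniteField.pow_card_sub_one_eq_one _ hX, one_pow]
  have hAN : A ^ N = 1 := by
    have : cycMul P ^ N = 1 := by
      refine LinearMap.ext fun v => ?_
      have h1 := aeval_cycMul P (X ^ N) v
      simp only [aeval_X_pow] at h1
      rw [h1]
      have : ((X : K[X]) ^ N) • v = (((X : K[X]) ^ N) • (1 : ∀ i, CycMod (P i))) * v := by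
        rw [smul_one_mul]
      rw [this, hpow, one_mul]
      rfl
    change (LinearMap.toMatrixAlgEquiv b (cycMul P)) ^ N = 1
    rw [← map_pow, this, map_one]
  refine ⟨Units.ofPowEqOne A N hAN hN0, hchar, Nat.Coprime.coprime_dvd_left
    (orderOf_dvd_of_pow_eq_one (Units.ext (by simpa using hAN))) ?_⟩
  rw [hN, Nat.coprime_prod_left_iff]
  intro i _
  have hqp : p ∣ Fintype.card K ^ (P i).natDegree := by
    obtain ⟨m, hp', hq'⟩ := FiniteField.card K p
    rw [hq', ← pow_mul]
    exact dvd_pow_self p (by have := (hirr i).natDegree_pos; positivity)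
  refine ((Fact.out : p.Prime).coprime_iff_not_dvd.2 fun hd => ?_).symm
  have hle := Nat.one_le_pow (P i).natDegree (Fintype.card K) (by omega)
  have := Nat.dvd_sub hqp hd
  rw [Nat.sub_sub_self hle] at this
  exact (Fact.out : p.Prime).not_dvd_one this

end Cfsg.Agent.H66
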