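/-
Semisimple classes of `GL_n` and `SL_n` correspond to characteristic polynomials; counting.
-/
import Cfsg.Agent.H66.SemisimpleGL

set_option autoImplicit false

open Polynomial

namespace Cfsg.Agent.H66

variable {K : Type*} [Field K]

/-- Monic polynomials of degree `k` are their lower coefficients. -/
noncomputable def monicDegEquiv (k : ℕ) : {f : K[X] // f.Monic ∧ f.natDegree = k} ≃ (Fin k → K) where
  toFun f i := f.1.coeff i
  invFun c := ⟨X ^ k + ∑ i, C (c i) * X ^ (i : ℕ),
    monic_X_pow_add (degree_sum_fin_lt c),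
    natDegree_eq_of_degree_eq_some (by
      rw [degree_add_eq_left_of_degree_lt]
      · exact degree_X_pow k
      · rw [degree_X_pow]
        exact degree_sum_fin_lt c)⟩
  left_inv f := by
    obtain ⟨f, hf, rfl⟩ := f
    apply Subtype.ext
    change X ^ f.natDegree + ∑ i : Fin f.natDegree, C (f.coeff i) * X ^ (i : ℕ) = f
    rw [Fin.sum_univ_eq_sum_range fun i => C (f.coeff i) * X ^ i, ← hf.as_sum]
  right_inv c := by
    funext i
    simp [coeff_X_pow, i.2.ne, finsetSum_coeff, Fin.val_inj]

/-- Number of monic polynomials of degree `k + 1` with constant term in a given set. -/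
theorem card_monic_coeff_zero [Fintype K] (k : ℕ) (P : K → Prop) :
    Nat.card {f : K[X] // (f.Monic ∧ f.natDegree = k + 1) ∧ P (f.coeff 0)} =
      Nat.card {a : K // P a} * Fintype.card K ^ k := by
  have e : {f : K[X] // (f.Monic ∧ f.natDegree = k + 1) ∧ P (f.coeff 0)} ≃ {a : K // P a} × (Fin k → K) :=
    (Equiv.subtypeSubtypeEquivSubtypeInter (fun f : K[X] => f.Monic ∧ f.natDegree = k + 1)
      (fun f => P (f.coeff 0))).symm.trans <|
    ((monicDegEquiv (k + 1)).subtypeEquiv (q := fun c => P (c 0)) (fun f => Iff.rfl)).trans <|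
    ((Fin.consEquiv fun _ => K).symm.subtypeEquiv (q := fun c : K × (Fin k → K) => P c.1)
      (fun c => Iff.rfl)).trans
    { toFun := fun c => (⟨c.1.1, c.2⟩, c.1.2)
      invFun := fun c => ⟨(c.1.1, c.2), c.1.2⟩
      left_inv := fun _ => rfl
      right_inv := fun _ => rfl }
  rw [Nat.card_congr e, Nat.card_prod, Nat.card_fun, Nat.card_eq_fintype_card (α := Fin k),
    Fintype.card_fin, Nat.card_eq_fintype_card (α := K)]

/-- Classes with a given invariant-defined property, counted through a complete invariant. -/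
theorem card_classes_eq {G α : Type*} [Group G] (S : G → Prop) (T : α → Prop) (inv : G → α)
    (hS : ∀ g h : G, IsConj g h → S g → S h) (hinv : ∀ g h : G, IsConj g h → inv g = inv h)
    (hinj : ∀ g h : G, S g → S h → inv g = inv h → IsConj g h) (hT : ∀ g, S g → T (inv g))
    (hsurj : ∀ a, T a → ∃ g, S g ∧ inv g = a) :
    Nat.card {c : ConjClasses G // ∃ g, ConjClasses.mk g = c ∧ S g} = Nat.card {a // T a} := by
  have key : ∀ g : G, IsConj g (ConjClasses.mk g).out := fun g =>
    ConjClasses.mk_eq_mk_iff_isConj.1 (Quotient.out_eq (ConjClasses.mk g)).symm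
  refine Nat.card_eq_of_bijective (fun c => ⟨inv c.1.out, by
    obtain ⟨c, g, rfl, hg⟩ := c
    exact hT _ (hS _ _ (key g) hg)⟩) ⟨?_, ?_⟩
  · rintro ⟨-, g, rfl, hg⟩ ⟨-, h, rfl, hh⟩ he
    have : inv g = inv h := by
      rw [hinv _ _ (key g), hinv _ _ (key h)]
      exact congrArg Subtype.val he
    exact Subtype.ext (ConjClasses.mk_eq_mk_iff_isConj.2 (hinj g h hg hh this))
  · rintro ⟨a, ha⟩
    obtain ⟨g, hg, rfl⟩ := hsurj a ha
    exact ⟨⟨ConjClasses.mk g, g, rfl, hg⟩, Subtype.ext (hinv _ _ (key g)).symm⟩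

/-- Conjugate elements have the same order (coprimality version). -/
theorem coprime_orderOf_of_isConj {G : Type*} [Group G] {g h : G} (hc : IsConj g h) {p : ℕ}
    (hg : (orderOf g).Coprime p) : (orderOf h).Coprime p := by
  obtain ⟨c, hc⟩ := isConj_iff.1 hc
  rwa [← hc, ← MulAut.conj_apply, (MulAut.conj c).orderOf_eq]

/-- Semisimple elements of `SL` with the same characteristic polynomial are conjugate in `SL`. -/
theorem sl_isConj_of_charpoly_eq [Finite K] (p : ℕ) [Fact p.Prime] [CharP K p] {n : ℕ}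
    (g h : Matrix.SpecialLinearGroup (Fin n) K) (hg : (orderOf g).Coprime p) (hh : (orderOf h).Coprime p)
    (hc : (g : Matrix (Fin n) (Fin n) K).charpoly = (h : Matrix (Fin n) (Fin n) K).charpoly) :
    IsConj g h := by
  rcases Nat.eq_zero_or_pos n with rfl | hn
  · rw [Subsingleton.elim g h]
  have : Nonempty (Fin n) := ⟨⟨0, hn⟩⟩
  have hinj : Function.Injective (Matrix.SpecialLinearGroup.toGL : Matrix.SpecialLinearGroup (Fin n) K → _) :=
    fun a b e => Subtype.ext (congrArg Units.val e)
  rw [← orderOf_injective Matrix.SpecialLinearGroup.toGL hinj] at hg hh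
  obtain ⟨z, hz, hzd⟩ := exists_conj_det_eq p hg (isConj_of_charpoly_eq p hg hh hc) one_ne_zero
  let z' : Matrix.SpecialLinearGroup (Fin n) K := ⟨z, hzd⟩
  refine isConj_iff.2 ⟨z', hinj ?_⟩
  have : Matrix.SpecialLinearGroup.toGL z' = z := Units.ext rfl
  rw [map_mul, map_mul, map_inv, this, hz]

end Cfsg.Agent.H66
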