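/-
Semisimple models of isometries: a product of fields `K[X]/(P i)`, permuted by the twisted
reciprocal, with a functional `L` making `(u, v) ↦ L (u * bar v)` an invariant form.
-/
import Cfsg.Agent.H66.Semisimple
import Cfsg.Agent.H67.InvariantForm

set_option autoImplicit false

open Polynomial

namespace Cfsg.Agent.H66

variable {K : Type*} [Field K]

/-- A semisimple self-dual module with its involution and an invariant `(σ, ε)`-symmetric functional. -/
structure EtaleModel (σ : K →+* K) (ε : K) {ι : Type*} (p : ι → K[X]) where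
  /-- The involution of the algebra. -/
  bar : (∀ i, CycMod (p i)) →+* (∀ i, CycMod (p i))
  /-- The functional. -/
  L : (∀ i, CycMod (p i)) →ₗ[K] K
  bar_bar : ∀ u, bar (bar u) = u
  bar_smul : ∀ (c : K) u, bar (c • u) = σ c • bar u
  L_bar : ∀ u, L (bar u) = ε * σ (L u)
  X_mul_bar : ∀ u v, ((X : K[X]) • u) * bar ((X : K[X]) • v) = u * bar v
  sep : ∀ u, (∀ v, L (u * bar v) = 0) → u = 0
  L_fixed : σ = RingHom.id K → ε = -1 → ∀ a, bar a = a → L a = 0

/-- Existence of models. -/
theorem nonempty_etaleModel {σ : K →+* K} {ι : Type*} [Fintype ι] [DecidableEq ι] {p : ι → K[X]}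
    (hσσ : ∀ x, σ (σ x) = x) (hirr : ∀ i, Irreducible (p i)) (h0 : ∀ i, (p i).coeff 0 ≠ 0)
    (π : ι → ι) (hππ : ∀ i, π (π i) = i) (hπp : ∀ i, p (π i) = H67.dualPoly σ (p i))
    (ε : K) (hε : ε * σ ε = 1)
    (hfix : ∀ i (h : eval₂ ((H67.scal (p i)).comp σ) (H67.xInv (p i)) (p i) = 0), π i = i →
      ∃ (l : CycMod (p i) →ₗ[K] K) (w : CycMod (p i)),
        l w + ε * σ (l (H67.barHom σ _ _ h w)) ≠ 0) :
    Nonempty (EtaleModel σ ε p) := by
  classical
  have hbar : ∀ i, eval₂ ((H67.scal (p i)).comp σ) (H67.xInv (p i)) (p (π i)) = 0 := fun i =>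
    H67.eval₂_barScal_eq_zero hσσ (h0 _) (h0 i) (by rw [← hπp, hππ])
  let bar : (∀ i, CycMod (p i)) →+* (∀ i, CycMod (p i)) := RingHom.pi fun i =>
    (H67.barHom σ (p (π i)) (p i) (hbar i)).comp (Pi.evalRingHom (fun j => CycMod (p j)) (π i))
  have hbarbar : ∀ u, bar (bar u) = u := by
    intro u
    funext i
    show H67.barHom σ (p (π i)) (p i) (hbar i)
      (H67.barHom σ (p (π (π i))) (p (π i)) (hbar (π i)) (u (π (π i)))) = u i
    have key : ∀ (k : ι) (_ : k = i)
        (hb : eval₂ ((H67.scal (p (π i))).comp σ) (H67.xInv (p (π i))) (p k) = 0),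
        H67.barHom σ (p (π i)) (p i) (hbar i) (H67.barHom σ (p k) (p (π i)) hb (u k)) = u i := by
      rintro k rfl hb
      obtain ⟨φ, hφ⟩ := Ideal.Quotient.mk_surjective (u k)
      rw [← hφ]
      exact H67.barHom_barHom hσσ (h0 k) (h0 _) rfl hb (hbar k) _ φ rfl
    exact key _ (hππ i) (hbar (π i))
  have hscal : ∀ j (c : K) (v : CycMod (p j)), c • v = H67.scal (p j) c * v := fun j c v => by
    obtain ⟨φ, rfl⟩ := Ideal.Quotient.mk_surjective v
    show Ideal.Quotient.mk _ (c • φ) = Ideal.Quotient.mk _ (C c) * _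
    rw [smul_eq_C_mul, map_mul]
  have hbarc : ∀ (c : K) u, bar (c • u) = σ c • bar u := by
    intro c u
    funext i
    show H67.barHom σ _ _ (hbar i) (c • u (π i)) = σ c • H67.barHom σ _ _ (hbar i) (u (π i))
    rw [hscal, hscal, map_mul, H67.barHom_scal]
  have hsingle : ∀ j (a : CycMod (p j)) k, k ≠ π j → bar (Pi.single j a) k = 0 := by
    intro j a k hk
    show H67.barHom σ _ _ (hbar k) ((Pi.single j a : ∀ i, CycMod (p i)) (π k)) = 0
    rw [Pi.single_eq_of_ne (fun h => hk (by rw [← h, hππ])), map_zero]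
  have hbarX : ∀ i, (Ideal.Quotient.mk _ X : CycMod (p i)) *
      bar (fun j => (Ideal.Quotient.mk _ X : CycMod (p j))) i = 1 := by
    intro i
    show Ideal.Quotient.mk _ X * H67.barHom σ _ _ (hbar i) (Ideal.Quotient.mk _ X) = 1
    rw [H67.barHom_X, H67.mk_X_mul_xInv (h0 i)]
  have hXx : ∀ u : (∀ i, CycMod (p i)),
      (X : K[X]) • u = (fun j => (Ideal.Quotient.mk _ X : CycMod (p j))) * u := fun u => funext fun i =>
    Algebra.smul_def (X : K[X]) (u i)
  obtain ⟨emb⟩ : Nonempty (ι ≃ Fin (Fintype.card ι)) := ⟨Fintype.equivFin ι⟩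
  have hne : ∀ i, (1 : CycMod (p i)) ≠ 0 := fun i => by
    rw [← map_one (Ideal.Quotient.mk (Ideal.span {p i})), Ne, Ideal.Quotient.eq_zero_iff_dvd]
    exact fun h => (hirr i).not_isUnit (isUnit_of_dvd_one h)
  have hsel : ∀ i, ∃ (l : CycMod (p i) →ₗ[K] K) (w : CycMod (p i)),
      (π i ≠ i → emb i ≤ emb (π i) → l w = 1) ∧ (¬ emb i ≤ emb (π i) → l = 0) ∧
      (π i = i → l w + ε * σ (l (bar (Pi.single i w) i)) ≠ 0) := by
    intro i
    by_cases hfx : π i = i
    · obtain ⟨l, w, hl⟩ := hfix i (by have := hbar i; rwa [hfx] at this) hfx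
      refine ⟨l, w, fun h => absurd hfx h, fun h => absurd (by rw [hfx]) h, fun _ => ?_⟩
      have key : ∀ (k : ι) (_ : k = i)
          (hb' : eval₂ ((H67.scal (p i)).comp σ) (H67.xInv (p i)) (p k) = 0)
          (hb : eval₂ ((H67.scal (p i)).comp σ) (H67.xInv (p i)) (p i) = 0),
          H67.barHom σ (p k) (p i) hb' ((Pi.single i w : ∀ i, CycMod (p i)) k) =
            H67.barHom σ (p i) (p i) hb w := by
        rintro k rfl hb' hb
        rw [Pi.single_eq_same]
      rw [show bar (Pi.single i w) i = H67.barHom σ (p i) (p i) (by have := hbar i; rwa [hfx] at this) w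
        from key _ hfx (hbar i) _]
      exact hl
    · obtain ⟨f, hf⟩ := Module.Projective.exists_dual_ne_zero K (hne i)
      by_cases hr : emb i ≤ emb (π i)
      · exact ⟨(f 1)⁻¹ • f, 1, fun _ _ => by simp [hf], fun h => absurd hr h, fun h => absurd h hfx⟩
      · exact ⟨0, 1, fun _ h => absurd h hr, fun _ => rfl, fun h => absurd h hfx⟩
  choose l w hl1 hl0 hlf using hsel
  let L0 : (∀ i, CycMod (p i)) →ₗ[K] K := ∑ i, (l i).comp (LinearMap.proj i)
  have hL0 : ∀ u i, (∀ k, k ≠ i → u k = 0) → L0 u = l i (u i) := by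
    intro u i h
    simp only [L0, LinearMap.coe_sum, Finset.sum_apply, LinearMap.comp_apply, LinearMap.proj_apply]
    exact Finset.sum_eq_single i (fun j _ hj => by rw [h j hj, map_zero]) (by simp)
  let L : (∀ i, CycMod (p i)) →ₗ[K] K :=
    { toFun := fun u => L0 u + ε * σ (L0 (bar u))
      map_add' := fun a b => by simp only [map_add]; ring
      map_smul' := fun c a => by
        simp only [hbarc, map_smul, smul_eq_mul, map_mul, hσσ, RingHom.id_apply]; ring }
  have hLbar : ∀ u, L (bar u) = ε * σ (L u) := by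
    intro u
    change L0 (bar u) + ε * σ (L0 (bar (bar u))) = ε * σ (L0 u + ε * σ (L0 (bar u)))
    simp only [hbarbar, map_add, map_mul, hσσ]
    linear_combination -(L0 (bar u)) * hε
  have hLsingle : ∀ i (a : CycMod (p i)),
      L (Pi.single i a) = l i a + ε * σ (l (π i) (bar (Pi.single i a) (π i))) := by
    intro i a
    change L0 _ + ε * σ (L0 _) = _
    rw [hL0 (Pi.single i a) i (fun k hk => Pi.single_eq_of_ne hk _), Pi.single_eq_same, hL0 _ (π i) (hsingle i a)]
  have hsoc : ∀ i, ∃ z : CycMod (p i), L (Pi.single i z) ≠ 0 := by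
    intro i
    by_cases hfx : π i = i
    · refine ⟨w i, ?_⟩
      rw [hLsingle]
      have key : ∀ k, k = i → l i (w i) + ε * σ (l k (bar (Pi.single i (w i)) k)) ≠ 0 := by
        rintro k rfl
        exact hlf k hfx
      exact key _ hfx
    · by_cases hr : emb i ≤ emb (π i)
      · refine ⟨w i, ?_⟩
        rw [hLsingle, hl1 i hfx hr, hl0 (π i) (by
          rw [hππ]
          exact fun h => hfx (emb.injective (le_antisymm h hr))), LinearMap.zero_apply, map_zero,
          mul_zero, add_zero]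
        exact one_ne_zero
      · refine ⟨bar (Pi.single (π i) (w (π i))) i, ?_⟩
        have heq : (Pi.single i (bar (Pi.single (π i) (w (π i))) i) : ∀ k, CycMod (p k)) =
            bar (Pi.single (π i) (w (π i))) := by
          funext k
          rcases eq_or_ne k i with rfl | hk
          · rw [Pi.single_eq_same]
          · rw [Pi.single_eq_of_ne hk, hsingle _ _ k (by rw [hππ]; exact hk)]
        rw [heq, hLbar]
        refine mul_ne_zero (left_ne_zero_of_mul_eq_one hε) ((map_ne_zero σ).2 ?_)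
        have hle : emb (π i) ≤ emb (π (π i)) := by rw [hππ]; exact (not_le.1 hr).le
        have hne' : π (π i) ≠ π i := by rw [hππ]; exact fun h => hfx h.symm
        have h2 : l (π (π i)) = 0 := hl0 _ (by rw [hππ]; exact hr)
        rw [hLsingle, hl1 (π i) hne' hle, h2, LinearMap.zero_apply, map_zero, mul_zero, add_zero]
        exact one_ne_zero
  refine ⟨⟨bar, L, hbarbar, hbarc, hLbar, fun u v => ?_, fun u hu => ?_, fun hσ hε' a ha => ?_⟩⟩
  · have hxbar : (fun j => (Ideal.Quotient.mk _ X : CycMod (p j))) *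
        bar (fun j => (Ideal.Quotient.mk _ X : CycMod (p j))) = 1 := funext fun i => hbarX i
    rw [hXx, hXx, map_mul, mul_mul_mul_comm, hxbar, one_mul]
  · funext i
    by_contra hui
    obtain ⟨z, hz⟩ := hsoc i
    have := PrincipalIdealRing.isMaximal_of_irreducible (hirr i)
    let := Ideal.Quotient.field (Ideal.span {p i})
    apply hz
    have h := hu (bar (Pi.single i ((u i)⁻¹ * z)))
    rw [hbarbar] at h
    rw [← h]
    congr 1
    funext k
    rcases eq_or_ne k i with rfl | hk
    · rw [Pi.single_eq_same, Pi.mul_apply, Pi.single_eq_same, ← mul_assoc,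
        mul_inv_cancel₀ hui, one_mul]
    · rw [Pi.single_eq_of_ne hk, Pi.mul_apply, Pi.single_eq_of_ne hk, mul_zero]
  · change L0 a + ε * σ (L0 (bar a)) = 0
    rw [ha, hσ, hε', RingHom.id_apply]
    ring

end Cfsg.Agent.H66
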