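/-
Involutions lifting an involution of values; self-dual factorizations; semisimple powers;
counting functions invariant under a twisted involution.
-/
import Cfsg.Agent.H66.Semisimple
import Cfsg.Agent.H67.DualPoly

set_option autoImplicit false

open Polynomial UniqueFactorizationMonoid

namespace Cfsg.Agent.H66

/-- Lift an involution `τ` of values to an involution of indices when fibres over `a` and `τ a` have
the same size; without fixed points over `Bad` values with fibres of even size. -/
theorem exists_involution_lift {ι α : Type*} [Fintype ι] (m : ι → α) (τ : α → α)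
    (hττ : ∀ i, τ (τ (m i)) = m i)
    (hcard : ∀ i, Nat.card {j // m j = τ (m i)} = Nat.card {j // m j = m i}) (Bad : α → Prop)
    (hbad : ∀ i, τ (m i) = m i → Bad (m i) → Even (Nat.card {j // m j = m i})) :
    ∃ π : ι → ι, (∀ i, π (π i) = i) ∧ (∀ i, m (π i) = τ (m i)) ∧ (∀ i, Bad (m i) → π i ≠ i) := by
  classical
  let c : α → ℕ := fun a => Nat.card {j // m j = a}
  let E : ∀ a, {j // m j = a} ≃ Fin (c a) := fun a => Finite.equivFin _
  let R : α → ℕ → ℕ := fun a k => if τ a = a ∧ Bad a then c a - 1 - k else k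
  have hR : ∀ i k, k < c (m i) → R (m i) k < c (τ (m i)) := by
    intro i k hk
    have hc : c (τ (m i)) = c (m i) := hcard i
    simp only [R]
    split_ifs <;> omega
  let π : ι → ι := fun i =>
    ((E (τ (m i))).symm ⟨R (m i) (E (m i) ⟨i, rfl⟩), hR i _ (E (m i) ⟨i, rfl⟩).2⟩).1
  have hπm : ∀ i, m (π i) = τ (m i) := fun i =>
    ((E (τ (m i))).symm ⟨R (m i) (E (m i) ⟨i, rfl⟩), hR i _ (E (m i) ⟨i, rfl⟩).2⟩).2
  have hrank : ∀ i a (h : m i = a), ((E (m i) ⟨i, rfl⟩ : Fin (c (m i))) : ℕ) = E a ⟨i, h⟩ := by
    rintro i a rfl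
    rfl
  have hπr : ∀ i, ((E (m (π i)) ⟨π i, rfl⟩ : Fin _) : ℕ) = R (m i) (E (m i) ⟨i, rfl⟩) := by
    intro i
    rw [hrank (π i) _ (hπm i)]
    simp only [π, Subtype.coe_eta, Equiv.apply_symm_apply]
  refine ⟨π, fun i => ?_, hπm, fun i hb h => ?_⟩
  · have key : ∀ j, m j = m i → ((E (m j) ⟨j, rfl⟩ : Fin _) : ℕ) = E (m i) ⟨i, rfl⟩ → j = i := by
      intro j hj h
      rw [hrank j _ hj] at h
      exact congrArg Subtype.val ((E (m i)).injective (Fin.ext h))
    refine key _ (by rw [hπm, hπm, hττ]) ?_
    rw [hπr, hπr, hπm]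
    have hlt := (E (m i) ⟨i, rfl⟩).2
    simp only [R, hττ]
    by_cases hfix : τ (m i) = m i
    · rw [hfix]
      by_cases hb : Bad (m i)
      · rw [if_pos ⟨rfl, hb⟩, if_pos ⟨rfl, hb⟩]
        omega
      · rw [if_neg (fun h => hb h.2), if_neg (fun h => hb h.2)]
    · rw [if_neg (fun h => hfix (by first | exact h.1 | exact h.1.symm)),
        if_neg (fun h => hfix (by first | exact h.1 | exact h.1.symm))]
  · have hfix : τ (m i) = m i := by rw [← hπm i, h]
    have h1 := hπr i
    rw [h] at h1
    have he : Even (c (m i)) := hbad i hfix hb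
    have hlt := (E (m i) ⟨i, rfl⟩).2
    simp only [R, if_pos (And.intro hfix hb)] at h1
    obtain ⟨k, hk⟩ := he
    omega

variable {K : Type*} [Field K]

/-- A self-dual monic polynomial splits into monic irreducibles, permuted by an involution
compatible with `dualPoly`, without fixed points over `Bad` factors of even multiplicity. -/
theorem exists_dual_factorization {σ : K →+* K} (hσσ : ∀ x, σ (σ x) = x) {f : K[X]} (hf : f.Monic)
    (h0 : f.coeff 0 ≠ 0) (hdual : H67.dualPoly σ f = f) (Bad : K[X] → Prop) [DecidableEq K]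
    (hbad : ∀ P, H67.dualPoly σ P = P → Bad P → Even ((normalizedFactors f).count P)) :
    ∃ (l : ℕ) (p : Fin l → K[X]) (π : Fin l → Fin l),
      (∀ i, (p i).Monic) ∧ (∀ i, Irreducible (p i)) ∧ (∀ i, (p i).coeff 0 ≠ 0) ∧ (∏ i, p i = f) ∧
      (∀ i, π (π i) = i) ∧ (∀ i, p (π i) = H67.dualPoly σ (p i)) ∧ (∀ i, Bad (p i) → π i ≠ i) := by
  classical
  set p : Fin (normalizedFactors f).toList.length → K[X] :=
    fun i => (normalizedFactors f).toList[i] with hp
  have hmem : ∀ i, p i ∈ normalizedFactors f := fun i => Multiset.mem_toList.1 (List.getElem_mem _)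
  have hmon' : ∀ P ∈ normalizedFactors f, P.Monic := fun P hP => by
    rw [← normalize_normalized_factor _ hP]
    exact monic_normalize (irreducible_of_normalized_factor _ hP).ne_zero
  have h0' : ∀ P ∈ normalizedFactors f, P.coeff 0 ≠ 0 := fun P hP hz => by
    obtain ⟨g, hg⟩ := dvd_of_mem_normalizedFactors hP
    exact h0 (by rw [hg, mul_coeff_zero, hz, zero_mul])
  have hmap : (Finset.univ.val.map p) = normalizedFactors f := by
    simp only [hp, Fin.univ_val_map, Fin.getElem_fin, List.ofFn_getElem, Multiset.coe_toList]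
  have hprod : ∏ i, p i = f := by
    rw [Finset.prod_eq_multiset_prod, hmap, prod_normalizedFactors_eq hf.ne_zero, hf.normalize_eq_self]
  have hdualprod : ∀ s : Multiset K[X], H67.dualPoly σ s.prod = (s.map (H67.dualPoly σ)).prod := by
    intro s
    induction s using Multiset.induction_on with
    | empty => simpa using H67.dualPoly_pow (σ := σ) (1 : K[X]) 0
    | cons a s ih => rw [Multiset.prod_cons, Multiset.map_cons, Multiset.prod_cons, H67.dualPoly_mul, ih]
  have hinv : (normalizedFactors f).map (H67.dualPoly σ) = normalizedFactors f := by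
    have hirr : ∀ P ∈ (normalizedFactors f).map (H67.dualPoly σ), Irreducible P := by
      intro P hP
      obtain ⟨Q, hQ, rfl⟩ := Multiset.mem_map.1 hP
      exact H67.dualPoly_irreducible hσσ (hmon' Q hQ) (h0' Q hQ) (irreducible_of_normalized_factor _ hQ)
    have h1 : (normalizedFactors f).map (H67.dualPoly σ) =
        normalizedFactors (((normalizedFactors f).map (H67.dualPoly σ)).prod) := by
      rw [normalizedFactors_prod_eq _ hirr]
      refine (Multiset.map_congr rfl fun P hP => ?_).trans (Multiset.map_id' _) |>.symm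
      obtain ⟨Q, hQ, rfl⟩ := Multiset.mem_map.1 hP
      exact (H67.dualPoly_monic (h0' Q hQ)).normalize_eq_self
    rw [h1, ← hdualprod, prod_normalizedFactors_eq hf.ne_zero, hf.normalize_eq_self, hdual]
  have hcount : ∀ P, Nat.card {j // p j = P} = (normalizedFactors f).count P := by
    intro P
    conv_rhs => rw [← hmap]
    rw [Multiset.count_map, Nat.card_eq_fintype_card, Fintype.card_subtype]
    simp only [Finset.card_def, Finset.filter_val, eq_comm]
  obtain ⟨π, h1, h2, h3⟩ := exists_involution_lift p (H67.dualPoly σ)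
    (fun i => H67.dualPoly_dualPoly hσσ (hmon' _ (hmem i)) (h0' _ (hmem i)))
    (fun i => by
      rw [hcount, hcount]
      conv_lhs => rw [← hinv]
      refine Multiset.count_map_eq_count _ _ (fun a ha b hb hab => ?_) _ (hmem i)
      have := congrArg (H67.dualPoly σ) hab
      rwa [H67.dualPoly_dualPoly hσσ (hmon' a ha) (h0' a ha),
        H67.dualPoly_dualPoly hσσ (hmon' b hb) (h0' b hb)] at this)
    Bad (fun i hfix hb => by rw [hcount]; exact hbad _ hfix hb)
  exact ⟨_, p, π, fun i => hmon' _ (hmem i), fun i => irreducible_of_normalized_factor _ (hmem i),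
    fun i => h0' _ (hmem i), hprod, h1, h2, h3⟩

/-- A high power of `g` by powers of the field size has order prime to `p`. -/
theorem coprime_orderOf_pow_card {G : Type*} [Group G] [Finite G] (g : G) {p q : ℕ} (hp : p.Prime)
    (hq : p ∣ q) : (orderOf (g ^ q ^ orderOf g)).Coprime p := by
  have hn : orderOf g ≠ 0 := (orderOf_pos g).ne'
  rw [orderOf_pow g, Nat.coprime_comm, hp.coprime_iff_not_dvd]
  set o := orderOf g with ho
  intro hd
  have hv : p ^ (o.factorization p) ∣ Nat.gcd o (q ^ o) := by
    refine Nat.dvd_gcd (Nat.ordProj_dvd o p) ?_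
    refine (pow_dvd_pow p ?_).trans (pow_dvd_pow_of_dvd hq o)
    exact (Nat.factorization_lt p hn).le
  have := Nat.mul_dvd_of_dvd_div (Nat.gcd_dvd_left o (q ^ o)) hd
  have h4 : p * p ^ (o.factorization p) ∣ o := by
    refine (Nat.mul_dvd_mul_left p hv).trans ?_
    rwa [mul_comm] at this
  rw [← pow_succ'] at h4
  exact Nat.pow_succ_factorization_not_dvd hn hp h4

/-- Powering by powers of the field size does not change the characteristic polynomial. -/
theorem charpoly_pow_card_pow [Fintype K] {n : Type*} [Fintype n] [DecidableEq n] (M : Matrix n n K)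
    (k : ℕ) : (M ^ Fintype.card K ^ k).charpoly = M.charpoly := by
  induction k with
  | zero => simp
  | succ k ih => rw [pow_succ, pow_mul, FiniteField.Matrix.charpoly_pow_card, ih]

/-- Functions with `f k = T (f (r k))` for involutions `r`, `T`. -/
theorem card_twisted_invariant {ι β : Type*} [Fintype ι] [Finite β] [LinearOrder ι] (r : ι → ι)
    (hr : ∀ k, r (r k) = k) (T : β → β) (hT : ∀ x, T (T x) = x) :
    Nat.card {f : ι → β // ∀ k, f k = T (f (r k))} =
      Nat.card β ^ Nat.card {k // k < r k} * Nat.card {x // T x = x} ^ Nat.card {k // r k = k} := by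
  classical
  have e : {f : ι → β // ∀ k, f k = T (f (r k))} ≃
      ({k // k < r k} → β) × ({k // r k = k} → {x // T x = x}) :=
    { toFun := fun f => (fun k => f.1 k.1, fun k => ⟨f.1 k.1, by
        conv_rhs => rw [f.2 k.1, k.2]⟩)
      invFun := fun z => ⟨fun k => if h : k < r k then z.1 ⟨k, h⟩
          else if h' : r k = k then (z.2 ⟨k, h'⟩).1
          else T (z.1 ⟨r k, by rw [hr]; exact lt_of_le_of_ne (not_lt.1 h) h'⟩), fun k => by
        change dite _ _ _ = T (dite _ _ _)
        rcases lt_trichotomy k (r k) with h | h | h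
        · rw [dif_pos h, dif_neg (by rw [hr]; exact h.not_gt),
            dif_neg (by rw [hr]; exact h.ne), hT]
          simp only [hr]
        · simp only [← h]
          rw [dif_neg (lt_irrefl k), dif_pos trivial, (z.2 ⟨k, h.symm⟩).2]
        · rw [dif_neg h.not_gt, dif_neg h.ne, dif_pos (by rw [hr]; exact h)]⟩
      left_inv := fun f => Subtype.ext (funext fun k => by
        change (if h : k < r k then f.1 k else if h' : r k = k then f.1 k else T (f.1 (r k))) = f.1 k
        split_ifs
        · rfl
        · rfl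
        · exact (f.2 k).symm)
      right_inv := fun z => Prod.ext (funext fun k => dif_pos k.2) (funext fun k => Subtype.ext (by
        change dite _ _ _ = _
        rw [dif_neg (not_lt.2 k.2.le), dif_pos k.2])) }
  rw [Nat.card_congr e, Nat.card_prod, Nat.card_fun, Nat.card_fun]

end Cfsg.Agent.H66
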