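/-
Conjugacy in the general unitary group is conjugacy in the general linear group.
-/
import Cfsg.Prelude.Def_LieClassical
import Cfsg.Agent.H66.NormForm

set_option autoImplicit false

open scoped Matrix

namespace Cfsg.Agent.H66

variable {K : Type*} [Field K] [Fintype K] {q : ℕ}

/-- The involutory automorphism `x ↦ x ^ q` of a field with `q ^ 2` elements. -/
theorem exists_frobenius_sq (hK : Fintype.card K = q ^ 2) :
    ∃ σ : K →+* K, (∀ x, σ x = x ^ q) ∧ (∀ x, σ (σ x) = x) ∧ ∃ e, σ e ≠ e := by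
  classical
  obtain ⟨p, hp⟩ := CharP.exists K
  obtain ⟨m, hpp, hm⟩ := FiniteField.card K p
  have := Fact.mk hpp
  have hq1 : 1 < q := by
    have := Fintype.one_lt_card (α := K)
    rw [hK] at this
    rcases Nat.lt_or_ge 1 q with h | h
    · exact h
    · interval_cases q <;> simp at this
  have hdvd : q ∣ p ^ (m : ℕ) := by rw [← hm, hK]; exact dvd_pow_self q two_ne_zero
  obtain ⟨k, -, hk⟩ := (Nat.dvd_prime_pow hpp).1 hdvd
  have hσ : ∀ x, iterateFrobenius K p k x = x ^ q := fun x => by rw [iterateFrobenius_def, hk]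
  refine ⟨iterateFrobenius K p k, hσ, fun x => ?_, ?_⟩
  · rw [hσ, hσ, ← pow_mul, ← pow_two, ← hK, FiniteField.pow_card]
  · by_contra h
    push Not at h
    have hle : Fintype.card K ≤ (Polynomial.X ^ q - Polynomial.X : Polynomial K).natDegree := by
      refine le_trans ?_ (Polynomial.card_roots' _)
      have hne := FiniteField.X_pow_card_sub_X_ne_zero K hq1
      rw [← Finset.card_univ]
      refine le_trans (le_of_eq ?_) (Multiset.toFinset_card_le _)
      congr 1
      ext x
      simp [hne, sub_eq_zero, ← hσ x, h x]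
    rw [FiniteField.X_pow_card_sub_X_natDegree_eq K hq1, hK] at hle
    nlinarith

variable {n : ℕ}

/-- The adjoint for the Hermitian form. -/
def sigAdj (σ : K →+* K) (A : Matrix (Fin n) (Fin n) K) : Matrix (Fin n) (Fin n) K := (A.map σ)ᵀ

omit [Fintype K] in
/-- Membership of `GU`: the adjoint is the inverse. -/
theorem mem_GU_iff (σ : K →+* K) (hσ : ∀ x, σ x = x ^ q) (hσσ : ∀ x, σ (σ x) = x)
    (A : Matrix.GeneralLinearGroup (Fin n) K) :
    A ∈ Cfsg.GU n K q ↔ sigAdj σ (A : Matrix (Fin n) (Fin n) K) * A = 1 := by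
  have hform : ∀ u v, Cfsg.hermForm n K q u v = u ⬝ᵥ (fun i => σ (v i)) := fun u v => by
    simp only [Cfsg.hermForm, dotProduct, hσ]
  have hmap : ∀ (M : Matrix (Fin n) (Fin n) K) (v : Fin n → K),
      (fun i => σ ((M *ᵥ v) i)) = M.map σ *ᵥ fun i => σ (v i) := fun M v => by
    funext i
    exact σ.map_mulVec M v i
  have h0 : σ 0 = 0 := map_zero σ
  constructor
  · intro h
    have h1 : (A : Matrix (Fin n) (Fin n) K)ᵀ * (A : Matrix (Fin n) (Fin n) K).map σ = 1 := by
      ext i j
      have h2 := h (Pi.single i 1) (Pi.single j 1)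
      rw [hform, hform] at h2
      have hsingle : (fun k => σ ((Pi.single j 1 : Fin n → K) k)) = Pi.single j 1 := by
        funext k
        rcases eq_or_ne k j with rfl | hk
        · simp
        · simp [Pi.single_eq_of_ne hk]
      rw [hsingle, single_dotProduct, one_mul] at h2
      simpa [Matrix.mul_apply, dotProduct, Matrix.one_apply, Pi.single_apply] using h2
    have h2 : ((A : Matrix (Fin n) (Fin n) K)ᵀ * (A : Matrix (Fin n) (Fin n) K).map σ).map σ = 1 := by
      rw [h1, Matrix.map_one σ h0 (map_one σ)]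
    rw [Matrix.map_mul, Matrix.map_map] at h2
    have : σ ∘ σ = id := funext hσσ
    rw [this, Matrix.map_id] at h2
    exact h2
  · intro h u v
    have h2 : (A : Matrix (Fin n) (Fin n) K)ᵀ * (A : Matrix (Fin n) (Fin n) K).map σ = 1 := by
      have := congrArg (fun M => M.map σ) h
      simp only [sigAdj, Matrix.map_mul, Matrix.transpose_map, Matrix.map_map] at this
      rw [Matrix.map_one σ h0 (map_one σ)] at this
      have e : σ ∘ σ = id := funext hσσ
      rw [e, Matrix.map_id] at this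
      exact this
    change Cfsg.hermForm n K q ((A : Matrix (Fin n) (Fin n) K) *ᵥ u) ((A : Matrix (Fin n) (Fin n) K) *ᵥ v) = _
    rw [hform, hform, hmap, ← Matrix.vecMul_transpose, ← Matrix.dotProduct_mulVec,
      Matrix.mulVec_mulVec, h2, Matrix.one_mulVec]

/-- Conjugate in `GL` implies conjugate in `GU`, by a unitary conjugator built from the given one. -/
theorem gu_isConj_of_isConj (hK : Fintype.card K = q ^ 2) (A B : ↥(Cfsg.GU n K q))
    (h : IsConj (A : GL (Fin n) K) (B : GL (Fin n) K)) : IsConj A B := by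
  obtain ⟨σ, hσ, hσσ, e, he⟩ := exists_frobenius_sq hK
  obtain ⟨P, hP⟩ := isConj_iff.1 h
  set τ := sigAdj (n := n) σ with hτ
  have τadd : ∀ x y, τ (x + y) = τ x + τ y := fun x y => by
    ext i j; simp [τ, sigAdj]
  have τmul : ∀ x y, τ (x * y) = τ y * τ x := fun x y => by
    simp only [τ, sigAdj, Matrix.map_mul, Matrix.transpose_mul]
  have ττ : ∀ x, τ (τ x) = x := fun x => by
    ext i j; simp [τ, sigAdj, hσσ]
  have τ1 : τ (1 : Matrix (Fin n) (Fin n) K) = 1 := by simp [τ, sigAdj]
  have hA := (mem_GU_iff σ hσ hσσ _).1 A.2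
  have hB := (mem_GU_iff σ hσ hσσ _).1 B.2
  set a : Matrix (Fin n) (Fin n) K := ((A : GL (Fin n) K) : Matrix (Fin n) (Fin n) K) with ha
  set b : Matrix (Fin n) (Fin n) K := ((B : GL (Fin n) K) : Matrix (Fin n) (Fin n) K) with hb
  set p : Matrix (Fin n) (Fin n) K := (P : Matrix (Fin n) (Fin n) K) with hp
  have hpa : p * a = b * p := by
    have := congrArg Units.val (show P * (A : GL (Fin n) K) = (B : GL (Fin n) K) * P by rw [← hP]; group)
    exact this
  have hsA : Commute (τ p * p) a := by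
    have h1 : τ a * (τ p * p) * a = τ p * p := by
      calc τ a * (τ p * p) * a = τ (p * a) * (p * a) := by rw [τmul]; noncomm_ring
        _ = τ p * (τ b * b) * p := by rw [hpa, τmul]; noncomm_ring
        _ = τ p * p := by rw [hB, mul_one]
    have h2 : a * τ a = 1 := mul_eq_one_comm.1 hA
    calc τ p * p * a = 1 * (τ p * p * a) := (one_mul _).symm
      _ = a * (τ a * (τ p * p) * a) := by rw [← h2]; noncomm_ring
      _ = a * (τ p * p) := by rw [h1]
  have hτp : IsUnit (τ p) := by
    have h1 : p * ((P⁻¹ : GL (Fin n) K) : Matrix (Fin n) (Fin n) K) = 1 := P.mul_inv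
    have h2 := congrArg τ h1
    rw [τmul] at h2
    rw [τ1] at h2
    exact IsUnit.of_mul_eq_one _ (mul_eq_one_comm.1 h2)
  obtain ⟨y, hy, hyy, hyc, -⟩ := exists_adjoint_norm_eq τ τadd τmul ττ (s := τ p * p)
    (ε := Matrix.scalar (Fin n) e) (hτp.mul P.isUnit) (by rw [τmul, ττ])
    (Matrix.scalar_commute e (fun r => mul_comm e r) _).symm
    (Matrix.scalar_commute e (fun r => mul_comm e r) _)
    (by
      have : τ (Matrix.scalar (Fin n) e) = Matrix.scalar (Fin n) (σ e) := by
        simp [τ, sigAdj, Matrix.diagonal_map]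
      rw [this, ← map_sub]
      exact (sub_ne_zero.2 he.symm).isUnit.map _)
  have hay : Commute a y := hyc a hsA.symm (Matrix.scalar_commute e (fun r => mul_comm e r) _).symm (by
    have : τ (Matrix.scalar (Fin n) e) = Matrix.scalar (Fin n) (σ e) := by
      simp [τ, sigAdj, Matrix.diagonal_map]
    rw [this]
    exact (Matrix.scalar_commute (σ e) (fun r => mul_comm _ r) _).symm)
  set Y : GL (Fin n) K := hy.unit with hY
  have hU : P * Y⁻¹ ∈ Cfsg.GU n K q := by
    rw [mem_GU_iff σ hσ hσσ]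
    set yi : Matrix (Fin n) (Fin n) K := ((Y⁻¹ : GL (Fin n) K) : Matrix (Fin n) (Fin n) K) with hyi
    change τ (p * yi) * (p * yi) = 1
    have h0 : y * yi = 1 := Y.mul_inv
    have h1 : τ yi * τ y = 1 := by rw [← τmul, h0, τ1]
    calc τ (p * yi) * (p * yi) = τ yi * (τ p * p) * yi := by rw [τmul]; noncomm_ring
      _ = (τ yi * τ y) * (y * yi) := by rw [← hyy]; noncomm_ring
      _ = 1 := by rw [h1, h0, one_mul]
  refine isConj_iff.2 ⟨⟨P * Y⁻¹, hU⟩, Subtype.ext ?_⟩
  change P * Y⁻¹ * (A : GL (Fin n) K) * (P * Y⁻¹)⁻¹ = B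
  have hc : Commute Y⁻¹ (A : GL (Fin n) K) := (Units.ext hay.symm.eq : Y * (A : GL (Fin n) K) = A * Y) |> Commute.inv_left
  rw [mul_assoc P, hc.eq, ← hP]
  group

end Cfsg.Agent.H66
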