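/-
Semisimple elements of the unitary group: models with prescribed characteristic polynomial and
centralisers with every determinant of norm one.
-/
import Cfsg.Agent.H66.SemisimpleGL
import Cfsg.Agent.H66.EtaleForm
import Cfsg.Agent.H66.Pairing
import Cfsg.Agent.H66.Unitary
import Cfsg.Agent.H67.UnitarySimilar

set_option autoImplicit false

open Polynomial Module Cfsg

namespace Cfsg.Agent.H66

variable {K : Type*} [Field K]

/-- Determinant of multiplication by a conjugated element. -/
theorem det_lmul_semilinear {σ : K →+* K} (hσσ : ∀ x, σ (σ x) = x) {A : Type*} [CommRing A] [Algebra K A]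
    [FiniteDimensional K A] (bar : A →+* A) (hbb : ∀ u, bar (bar u) = u)
    (hbs : ∀ (c : K) u, bar (c • u) = σ c • bar u) (r : A) :
    LinearMap.det (Algebra.lmul K A (bar r)) = σ (LinearMap.det (Algebra.lmul K A r)) := by
  let b := Module.finBasis K A
  let e : A ≃ₗ[K] (Fin (Module.finrank K A) → K) :=
    { toFun := fun u k => σ (b.equivFun (bar u) k)
      map_add' := fun u v => funext fun k => by simp [map_add]
      map_smul' := fun c u => funext fun k => by simp [hbs, hσσ]
      invFun := fun v => bar (b.equivFun.symm fun k => σ (v k))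
      left_inv := fun u => by simp only [hσσ, LinearEquiv.symm_apply_apply, hbb]
      right_inv := fun v => funext fun k => by simp only [hbb, LinearEquiv.apply_symm_apply, hσσ] }
  let b' := Module.Basis.ofEquivFun e
  rw [← LinearMap.det_toMatrix b', ← LinearMap.det_toMatrix b, RingHom.map_det]
  congr 1
  ext i j
  rw [RingHom.mapMatrix_apply, Matrix.map_apply, LinearMap.toMatrix_apply, LinearMap.toMatrix_apply,
    Module.Basis.ofEquivFun_repr_apply]
  have hb' : bar (b' j) = b j := by
    rw [Module.Basis.coe_ofEquivFun]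
    change bar (bar (b.equivFun.symm fun k => σ ((Pi.single j (1 : K) : Fin _ → K) k))) = b j
    rw [hbb]
    apply b.equivFun.injective
    rw [LinearEquiv.apply_symm_apply]
    funext k
    rcases eq_or_ne k j with rfl | hk
    · simp
    · simp [Pi.single_eq_of_ne hk, Ne.symm hk]
  change σ (b.equivFun (bar (bar r * b' j)) i) = σ (b.repr (r * b j) i)
  rw [map_mul, hbb, hb', Module.Basis.equivFun_apply]

variable [Fintype K] {q n : ℕ}

/-- The characteristic polynomial of a contragredient. -/
theorem charpoly_contraMat {ι : Type*} [Fintype ι] [DecidableEq ι] (σ : K →+* K) (A : GL ι K) :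
    (H67.contraMat σ A).charpoly = H67.dualPoly σ (A : Matrix ι ι K).charpoly := by
  set M := (A : Matrix ι ι K)
  have hu : IsUnit (M.map σ).transpose := by
    rw [Matrix.isUnit_iff_isUnit_det, Matrix.det_transpose, ← RingHom.mapMatrix_apply, ← RingHom.map_det]
    exact ((Matrix.isUnit_iff_isUnit_det M).1 A.isUnit).map σ
  rw [H67.contraMat_eq, Matrix.charpoly_inv _ hu, ← Matrix.reverse_charpoly, Matrix.charpoly_transpose,
    Matrix.charpoly_map, Matrix.det_transpose, ← RingHom.mapMatrix_apply, ← RingHom.map_det,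
    H67.dualPoly, Ring.inverse_eq_inv]
  congr 1
  have h := Matrix.det_eq_sign_charpoly_coeff M
  rw [h, map_mul, map_pow, map_neg, map_one, mul_inv, ← inv_pow, inv_neg, inv_one, map_mul, map_pow,
    map_neg, map_one, ← mul_assoc, ← mul_pow, neg_mul_neg, one_mul, one_pow, one_mul]

/-- The characteristic polynomial of a unitary matrix is self-dual. -/
theorem dualPoly_charpoly_of_mem_GU (hK : Fintype.card K = q ^ 2) {g : GL (Fin n) K}
    (hg : g ∈ Cfsg.GU n K q) :
    H67.dualPoly (H3.conjQ hK) (g : Matrix (Fin n) (Fin n) K).charpoly =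
      (g : Matrix (Fin n) (Fin n) K).charpoly := by
  rw [← charpoly_contraMat, H67.contraMat_of_mem_GU hK hg]

/-- Models of self-dual polynomials in the unitary group: an element with the given characteristic
polynomial, centralised by unitary elements of every determinant of norm one. -/
theorem exists_GU_model (hK : Fintype.card K = q ^ 2) {f : K[X]} (hf : f.Monic)
    (hdeg : f.natDegree = n) (h0 : f.coeff 0 ≠ 0) (hdual : H67.dualPoly (H3.conjQ hK) f = f) :
    ∃ g : ↥(Cfsg.GU n K q), ((g : GL (Fin n) K) : Matrix (Fin n) (Fin n) K).charpoly = f ∧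
      (1 ≤ n → ∀ d : K, d ≠ 0 → ∃ z : ↥(Cfsg.GU n K q), z * g = g * z ∧
        ((z : GL (Fin n) K) : Matrix (Fin n) (Fin n) K).det = d / H3.conjQ hK d) := by
  classical
  have hσσ := H3.conjQ_conjQ hK
  obtain ⟨l, p, π, hmon, hirr, h0p, hprod, hππ, hπp, -⟩ :=
    exists_dual_factorization hσσ hf h0 hdual (fun _ => False) (fun _ _ h => h.elim)
  obtain ⟨c₀, hc₀⟩ := H3.exists_conj_ne hK
  obtain ⟨M⟩ := nonempty_etaleModel (σ := H3.conjQ hK) hσσ hirr h0p π hππ hπp 1 (by simp) (fun i h _ => by
    have hne : (1 : CycMod (p i)) ≠ 0 := by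
      rw [← map_one (Ideal.Quotient.mk (Ideal.span {p i})), Ne, Ideal.Quotient.eq_zero_iff_dvd]
      exact fun h => (hirr i).not_isUnit (isUnit_of_dvd_one h)
    obtain ⟨f, hfw⟩ := Module.Projective.exists_dual_ne_zero K hne
    by_cases hone : f 1 + H3.conjQ hK (f (H67.barHom _ _ _ h 1)) = 0
    · refine ⟨c₀ • f, 1, ?_⟩
      rw [one_mul, LinearMap.smul_apply, LinearMap.smul_apply, smul_eq_mul, smul_eq_mul, map_mul]
      intro h2
      have h3 : (c₀ - H3.conjQ hK c₀) * f 1 = 0 := by
        linear_combination h2 - H3.conjQ hK c₀ * hone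
      rcases mul_eq_zero.1 h3 with h4 | h4
      · exact hc₀ (sub_eq_zero.1 h4).symm
      · exact hfw h4
    · exact ⟨f, 1, by rwa [one_mul]⟩)
  have hfd := fun i => finiteDimensional_cycMod (hmon i)
  have hfr : Module.finrank K (∀ i, CycMod (p i)) = n := by
    rw [← LinearMap.charpoly_natDegree (cycMul p), charpoly_cycMul hmon, hprod, hdeg]
  have hsmulr : ∀ (c : K) (u v : ∀ i, CycMod (p i)), M.L (u * M.bar (c • v)) =
      H3.conjQ hK c * M.L (u * M.bar v) := fun c u v => by
    rw [M.bar_smul, mul_smul_comm, map_smul, smul_eq_mul]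
  let H : (∀ i, CycMod (p i)) →ₛₗ[H3.conjQ hK] (∀ i, CycMod (p i)) →ₗ[K] K :=
    LinearMap.mk₂'ₛₗ (H3.conjQ hK) (RingHom.id K) (fun v u => M.L (u * M.bar v))
      (fun v v' u => by rw [map_add, mul_add, map_add])
      (fun c v u => by rw [hsmulr, smul_eq_mul])
      (fun v u u' => by rw [add_mul, map_add])
      (fun c v u => by rw [smul_mul_assoc, map_smul, RingHom.id_apply])
  have hH : ∀ u v, H v u = M.L (u * M.bar v) := fun u v => rfl
  have hsymm : ∀ u v, M.L (v * M.bar u) = H3.conjQ hK (M.L (u * M.bar v)) := fun u v => by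
    rw [← one_mul (H3.conjQ hK _), ← M.L_bar, map_mul M.bar, M.bar_bar, mul_comm]
  have hherm : H3.IsHerm H q :=
    { card_eq := hK
      sigma_apply := fun x => rfl
      symm := fun x y => by rw [hH, hH, hsymm y x]
      sep := fun x hx => M.sep x fun v => by
        have h1 := hx v
        rw [hH] at h1
        rw [hsymm v x, h1, map_zero] }
  obtain ⟨b, hb⟩ := hherm.exists_orth_basis (n := n) hfr
  set E : (∀ i, CycMod (p i)) ≃ₗ[K] (Fin n → K) := b.equivFun
  have hE : ∀ u v, hermForm n K q (E u) (E v) = M.L (u * M.bar v) := by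
    intro u v
    have key : ((H3.hermB hK n).comp E.toLinearMap).compl₂ E.toLinearMap = H := by
      refine b.ext fun i => b.ext fun j => ?_
      rw [hb i j]
      simp only [LinearMap.compl₂_apply, LinearMap.comp_apply, LinearEquiv.coe_coe, E,
        Module.Basis.equivFun_self, H3.hermB_apply]
      rw [hermForm, Finset.sum_eq_single j (fun k _ hk => by simp [Ne.symm hk]) (by simp)]
      have := H3.two_le_q hK
      rcases eq_or_ne i j with rfl | hij
      · simp
      · simp [hij, zero_pow (show q ≠ 0 by omega)]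
    rw [← hH u v, ← key]
    rfl
  -- transport of isometries
  have trans : ∀ T : (∀ i, CycMod (p i)) →ₗ[K] (∀ i, CycMod (p i)),
      (∀ u v, M.L (T u * M.bar (T v)) = M.L (u * M.bar v)) →
      ∃ G : ↥(Cfsg.GU n K q), ∀ w, ((G : GL (Fin n) K) : Matrix (Fin n) (Fin n) K).mulVec w = E (T (E.symm w)) := by
    intro T hT
    have hinj : Function.Injective T := by
      rw [injective_iff_map_eq_zero]
      intro u hu
      exact M.sep u fun v => by rw [← hT u v, hu, zero_mul, map_zero]
    refine ⟨H3.guOfEquiv ((E.symm.trans (LinearEquiv.ofInjectiveEndo T hinj)).trans E) fun u v => ?_,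
      fun w => H3.guOfEquiv_mulVec _ _ w⟩
    change hermForm n K q (E (T (E.symm u))) (E (T (E.symm v))) = _
    rw [hE, hT, ← hE, E.apply_symm_apply, E.apply_symm_apply]
  obtain ⟨G, hG⟩ := trans (cycMul p) fun u v => congrArg M.L (M.X_mul_bar u v)
  have hchar : ∀ (Z : ↥(Cfsg.GU n K q)) (T : (∀ i, CycMod (p i)) →ₗ[K] (∀ i, CycMod (p i))),
      (∀ w, ((Z : GL (Fin n) K) : Matrix (Fin n) (Fin n) K).mulVec w = E (T (E.symm w))) →
      Matrix.toLin' ((Z : GL (Fin n) K) : Matrix (Fin n) (Fin n) K) = E.conj T := fun Z T h =>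
    LinearMap.ext fun w => by rw [Matrix.toLin'_apply, h]; rfl
  refine ⟨G, ?_, fun hn d hd => ?_⟩
  · rw [← Matrix.charpoly_toLin', hchar G _ hG, LinearEquiv.charpoly_conj, charpoly_cycMul hmon, hprod]
  · obtain ⟨i₀⟩ : Nonempty (Fin l) := by
      by_contra h
      rw [not_nonempty_iff] at h
      rw [Finset.univ_eq_empty, Finset.prod_empty] at hprod
      rw [← hprod, natDegree_one] at hdeg
      omega
    have := PrincipalIdealRing.isMaximal_of_irreducible (hirr i₀)
    let := Ideal.Quotient.field (Ideal.span {p i₀})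
    have : Finite (CycMod (p i₀)) := Module.finite_of_finite K
    obtain ⟨a, ha⟩ := FiniteField.norm_surjective K (CycMod (p i₀)) d
    let r : ∀ i, CycMod (p i) := Function.update (fun _ => 1) i₀ a
    have hr : LinearMap.det (Algebra.lmul K (∀ i, CycMod (p i)) r) = d := by
      have : Algebra.lmul K (∀ i, CycMod (p i)) r = LinearMap.piMap fun i => Algebra.lmul K _ (r i) := rfl
      rw [this, det_piMap_eq (fun i => Module.finBasis K _), Finset.prod_eq_single i₀]
      · simp only [r, Function.update_self]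
        rw [← ha, Algebra.norm_apply]
      · intro i _ hi
        simp only [r, Function.update_of_ne hi, map_one]
      · simp
    have hru : IsUnit r := Pi.isUnit_iff.2 fun i => by
      rcases eq_or_ne i i₀ with rfl | hi
      · simp only [r, Function.update_self]
        refine IsUnit.mk0 _ fun h => hd ?_
        rw [← ha, h, Algebra.norm_zero]
      · simp [r, Function.update_of_ne hi]
    have hbr : IsUnit (M.bar r) := hru.map M.bar
    obtain ⟨u, hu⟩ := hbr
    set s : ∀ i, CycMod (p i) := r * ↑u⁻¹ with hs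
    have hsb : s * M.bar s = 1 := by
      have h1 : M.bar (↑u⁻¹ : ∀ i, CycMod (p i)) * r = 1 := by
        have := congrArg M.bar (u.inv_mul)
        rwa [map_mul, map_one, hu, M.bar_bar] at this
      rw [hs, map_mul, ← hu, mul_assoc r, ← mul_assoc (↑u⁻¹ : ∀ i, CycMod (p i)), Units.inv_mul,
        one_mul, mul_comm, h1]
    obtain ⟨Z, hZ⟩ := trans (Algebra.lmul K (∀ i, CycMod (p i)) s) fun x y => by
      rw [Algebra.coe_lmul_eq_mul, LinearMap.mul_apply', LinearMap.mul_apply', map_mul M.bar, mul_mul_mul_comm,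
        hsb, one_mul]
    refine ⟨Z, ?_, ?_⟩
    · apply Subtype.ext
      apply Units.ext
      apply Matrix.ext_iff_mulVec.2
      intro w
      simp only [Subgroup.coe_mul, Units.val_mul, ← Matrix.mulVec_mulVec, hG, hZ, E.symm_apply_apply]
      congr 1
      funext i
      exact smul_comm (X : K[X]) (s i) _ |>.symm
    · rw [← LinearMap.det_toLin', hchar Z _ hZ, LinearEquiv.conj_apply, LinearMap.comp_assoc]
      rw [show (E : (∀ i, CycMod (p i)) →ₗ[K] Fin n → K) ∘ₗ Algebra.lmul K (∀ i, CycMod (p i)) s ∘ₗ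
        (E.symm : (Fin n → K) →ₗ[K] ∀ i, CycMod (p i)) = (E : (∀ i, CycMod (p i)) →ₗ[K] Fin n → K) ∘ₗ
          Algebra.lmul K (∀ i, CycMod (p i)) s ∘ₗ (E.symm : (Fin n → K) →ₗ[K] ∀ i, CycMod (p i)) from rfl,
        LinearMap.det_conj]
      have h1 : LinearMap.det (Algebra.lmul K (∀ i, CycMod (p i)) (M.bar r)) *
          LinearMap.det (Algebra.lmul K (∀ i, CycMod (p i)) s) = d := by
        rw [← map_mul, ← map_mul, ← hu, hs, mul_comm r, ← mul_assoc, Units.mul_inv, one_mul, hr]
      rw [det_lmul_semilinear hσσ M.bar M.bar_bar M.bar_smul, hr] at h1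
      rw [eq_div_iff ((_root_.map_ne_zero _).2 hd), mul_comm]
      exact h1

end Cfsg.Agent.H66
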