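/-
Semisimple classes of the symplectic group.
-/
import Cfsg.Agent.H66.SemisimpleUnitary
import Cfsg.Agent.H66.ClassCount
import Cfsg.Agent.H67.IsometryConjMatrix
import Cfsg.Agent.S2586

set_option autoImplicit false

open Polynomial UniqueFactorizationMonoid

namespace Cfsg.Agent.H66

/-- Self-dual monic polynomials of degree `m + 1` with constant term `s` as coefficient vectors. -/
theorem card_selfDual_polys {K : Type*} [Field K] [Finite K] {σ : K →+* K} (hσσ : ∀ x, σ (σ x) = x) {s : K}
    (hσs : σ s = s) (hss : s * s = 1) (m : ℕ) :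
    Nat.card {f : K[X] // (f.Monic ∧ f.natDegree = m + 1) ∧ H67.dualPoly σ f = f ∧ f.coeff 0 = s} =
      Nat.card {b : Fin m → K // ∀ k, b k = s * σ (b k.rev)} := by
  classical
  set n := m + 1 with hn
  have hdualco : ∀ f : K[X], f.Monic → f.natDegree = n → ∀ i,
      (H67.dualPoly σ f).coeff i = (σ (f.coeff 0))⁻¹ * σ (f.coeff (Polynomial.revAt n i)) := by
    intro f hf hd i
    rw [H67.dualPoly, coeff_C_mul, coeff_reverse, coeff_map, natDegree_map, hd]
  let T : K[X] → Prop := fun f => (f.Monic ∧ f.natDegree = n) ∧ H67.dualPoly σ f = f ∧ f.coeff 0 = s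
  have e : {f : K[X] // T f} ≃ {b : Fin m → K // ∀ k, b k = s * σ (b k.rev)} :=
    { toFun := fun f => ⟨fun k => f.1.coeff (k + 1), fun k => by
        obtain ⟨⟨hf1, hf2⟩, hd, hc0⟩ := f.2
        change f.1.coeff (k + 1) = s * σ (f.1.coeff ((k.rev : ℕ) + 1))
        conv_lhs => rw [← hd, hdualco _ hf1 hf2, hc0, hσs, inv_eq_of_mul_eq_one_left hss]
        congr 3
        rw [Polynomial.revAt_le (by omega), Fin.val_rev]
        omega⟩
      invFun := fun b => ⟨((monicDegEquiv n).symm (Fin.cons s b.1)).1, by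
        obtain ⟨hf1, hf2⟩ := ((monicDegEquiv (K := K) n).symm (Fin.cons s b.1)).2
        set F := ((monicDegEquiv (K := K) n).symm (Fin.cons s b.1)).1 with hF
        have hco : ∀ i : Fin n, F.coeff i = (Fin.cons s b.1 : Fin n → K) i := fun i =>
          congrFun ((monicDegEquiv (K := K) n).apply_symm_apply (Fin.cons s b.1)) i
        have h0 : F.coeff 0 = s := hco 0
        have hk : ∀ k : Fin m, F.coeff (k + 1) = b.1 k := fun k => by
          have := hco k.succ
          rwa [Fin.cons_succ, Fin.val_succ] at this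
        refine ⟨⟨hf1, hf2⟩, ?_, h0⟩
        ext i
        rw [hdualco _ hf1 hf2, h0, hσs, inv_eq_of_mul_eq_one_left hss]
        rcases Nat.eq_zero_or_pos i with rfl | hi
        · rw [Polynomial.revAt_le (Nat.zero_le _), Nat.sub_zero, h0]
          have : F.coeff n = 1 := hf2 ▸ hf1
          rw [this, map_one, mul_one]
        rcases lt_trichotomy i n with hlt | rfl | hgt
        · obtain ⟨k, rfl⟩ : ∃ k : Fin m, (k : ℕ) + 1 = i := ⟨⟨i - 1, by omega⟩, by simp only; omega⟩
          rw [hk, b.2 k, Polynomial.revAt_le (by omega), ← hk k.rev]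
          congr 3
          rw [Fin.val_rev]
          omega
        · rw [Polynomial.revAt_le le_rfl, Nat.sub_self, h0, hσs, hss]
          exact (hf2 ▸ hf1 : F.coeff _ = 1).symm
        · rw [Polynomial.revAt_eq_self_of_lt hgt, coeff_eq_zero_of_natDegree_lt (hf2 ▸ hgt), map_zero,
            mul_zero]⟩
      left_inv := fun f => by
        obtain ⟨f, hf, hd, hc0⟩ := f
        have : Fin.cons s (fun k : Fin m => f.coeff (k + 1)) = monicDegEquiv n ⟨f, hf⟩ := by
          funext i
          refine Fin.cases ?_ (fun k => ?_) i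
          · simp [monicDegEquiv, hc0]
          · simp [monicDegEquiv]
        apply Subtype.ext
        change ((monicDegEquiv n).symm (Fin.cons s fun k : Fin m => f.coeff (k + 1))).1 = f
        rw [this, Equiv.symm_apply_apply]
      right_inv := fun b => by
        apply Subtype.ext
        funext k
        have := congrFun ((monicDegEquiv (K := K) n).apply_symm_apply (Fin.cons s b.1)) k.succ
        rwa [Fin.cons_succ] at this }
  exact Nat.card_congr e

variable {F : Type*} [Field F] [Fintype F]

/-- The two values `X - 1` and `X + 1`. -/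
def IsPlusMinus (P : F[X]) : Prop := P = X - C 1 ∨ P = X + C 1

/-- Alternating models of self-dual polynomials. -/
theorem exists_sp_model [DecidableEq F] {f : F[X]} (hf : f.Monic) (h0 : f.coeff 0 ≠ 0)
    (hdual : H67.dualPoly (RingHom.id F) f = f)
    (hbad : ∀ P, H67.dualPoly (RingHom.id F) P = P → IsPlusMinus P → Even ((normalizedFactors f).count P)) :
    ∃ (m : ℕ) (g : Matrix.symplecticGroup (Fin m) F),
      (g : Matrix (Fin m ⊕ Fin m) (Fin m ⊕ Fin m) F).charpoly = f ∧ f.natDegree = 2 * m := by
  classical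
  have hσσ : ∀ x : F, RingHom.id F (RingHom.id F x) = x := fun _ => rfl
  obtain ⟨l, p, π, hmon, hirr, h0p, hprod, hππ, hπp, hfree⟩ :=
    exists_dual_factorization hσσ hf h0 hdual IsPlusMinus hbad
  obtain ⟨M⟩ := nonempty_etaleModel hσσ hirr h0p π hππ hπp (-1 : F) (by simp) (fun i h hfx => by
    have hne : (Ideal.Quotient.mk (Ideal.span {p i}) X : CycMod (p i)) - H67.xInv (p i) ≠ 0 := by
      intro heq
      have h1 := H67.mk_X_mul_xInv (h0p i)
      rw [← sub_eq_zero.1 heq, ← map_mul, ← map_one (Ideal.Quotient.mk (Ideal.span {p i})),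
        Ideal.Quotient.mk_eq_mk_iff_sub_mem, Ideal.mem_span_singleton] at h1
      have h2 : (X : F[X]) * X - 1 = (X - C 1) * (X + C 1) := by rw [C_1]; ring
      rw [h2] at h1
      refine hfree i ?_ hfx
      rcases (hirr i).prime.dvd_or_dvd h1 with h3 | h3
      · exact Or.inl (eq_of_monic_of_associated (hmon i) (monic_X_sub_C 1)
          ((hirr i).associated_of_dvd (irreducible_X_sub_C 1) h3))
      · refine Or.inr (eq_of_monic_of_associated (hmon i) (monic_X_add_C 1)
          ((hirr i).associated_of_dvd ?_ h3))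
        have := irreducible_X_sub_C (-1 : F)
        rwa [map_neg, sub_neg_eq_add] at this
    obtain ⟨φ, hφ⟩ := Module.Projective.exists_dual_ne_zero F hne
    refine ⟨φ, Ideal.Quotient.mk _ X, ?_⟩
    rw [H67.barHom_X, RingHom.id_apply, neg_one_mul, ← sub_eq_add_neg, ← map_sub]
    exact hφ)
  have hfd := fun i => finiteDimensional_cycMod (hmon i)
  let B : LinearMap.BilinForm F (∀ i, CycMod (p i)) :=
    LinearMap.mk₂ F (fun u v => M.L (u * M.bar v))
      (fun u u' v => by rw [add_mul, map_add])
      (fun c u v => by rw [smul_mul_assoc, map_smul])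
      (fun u v v' => by rw [map_add, mul_add, map_add])
      (fun c u v => by rw [M.bar_smul, mul_smul_comm, map_smul, RingHom.id_apply])
  have hB : ∀ u v, B u v = M.L (u * M.bar v) := fun u v => rfl
  have halt : B.IsAlt := fun u => by
    rw [hB]
    exact M.L_fixed rfl rfl _ (by rw [map_mul, M.bar_bar, mul_comm])
  have hnd : B.Nondegenerate := ⟨fun u hu => M.sep u hu, fun v hv => M.sep v fun u => by
    rw [← hB, ← LinearMap.BilinForm.IsAlt.neg_eq halt u v, hv u, neg_zero]⟩
  obtain ⟨m, E, hfr, hE⟩ := H2.exists_equiv_std B hnd halt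
  have hinj : Function.Injective (cycMul p) := by
    rw [injective_iff_map_eq_zero]
    intro u hu
    refine M.sep u fun v => ?_
    have h1 : (X : F[X]) • u = 0 := hu
    rw [← M.X_mul_bar u v, h1, zero_mul, map_zero]
  let G := (E.symm.trans (LinearEquiv.ofInjectiveEndo (cycMul p) hinj)).trans E
  have hG : ∀ x y, H2.sympBilin m F (G x) (G y) = H2.sympBilin m F x y := fun x y => by
    have hGa : ∀ z, G z = E (cycMul p (E.symm z)) := fun z => by simp [G]
    rw [H2.sympBilin_apply, H2.sympBilin_apply, hGa, hGa, hE, hB]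
    change M.L (((X : F[X]) • E.symm x) * M.bar ((X : F[X]) • E.symm y)) = _
    rw [M.X_mul_bar, ← hB, ← hE, E.apply_symm_apply, E.apply_symm_apply]
  obtain ⟨g, hg⟩ := (H2.spEquivIsometries m F).surjective ⟨G, hG⟩
  refine ⟨m, g, ?_, ?_⟩
  · have h1 : Matrix.toLin' (g : Matrix (Fin m ⊕ Fin m) (Fin m ⊕ Fin m) F) = E.conj (cycMul p) :=
      LinearMap.ext fun w => by
        rw [Matrix.toLin'_apply, ← H2.spEquivIsometries_apply, hg]
        rfl
    rw [← Matrix.charpoly_toLin', h1, LinearEquiv.charpoly_conj, charpoly_cycMul hmon, hprod]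
  · rw [← hfr, ← LinearMap.charpoly_natDegree (cycMul p), charpoly_cycMul hmon, hprod]

/-- Characteristic polynomials of symplectic matrices are self-dual. -/
theorem dualPoly_charpoly_sp {m : ℕ} (g : Matrix.symplecticGroup (Fin m) F) :
    H67.dualPoly (RingHom.id F) (g : Matrix (Fin m ⊕ Fin m) (Fin m ⊕ Fin m) F).charpoly =
      (g : Matrix (Fin m ⊕ Fin m) (Fin m ⊕ Fin m) F).charpoly := by
  let G := (Matrix.symplecticGroup (Fin m) F).subtype.toHomUnits g
  have h := charpoly_contraMat (RingHom.id F) G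
  rw [show ((G : GL (Fin m ⊕ Fin m) F) : Matrix (Fin m ⊕ Fin m) (Fin m ⊕ Fin m) F) = g from rfl] at h
  rw [← h, H67.contraMat, ← map_inv, RingHom.coe_id, Matrix.map_id, Matrix.charpoly_transpose]
  exact (charpoly_eq_of_isConj (S2586.result g)).symm

/-- Self-dual polynomials of even degree and constant term one have `X ∓ 1` with even multiplicity. -/
theorem even_count_of_selfDual [DecidableEq F] {f : F[X]} (hf : f.Monic) {n : ℕ}
    (hdeg : f.natDegree = 2 * n) (hdual : H67.dualPoly (RingHom.id F) f = f) (h0 : f.coeff 0 = 1) :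
    ∀ P, IsPlusMinus P → Even ((normalizedFactors f).count P) := by
  classical
  set s := normalizedFactors f with hs
  have hσσ : ∀ x : F, RingHom.id F (RingHom.id F x) = x := fun _ => rfl
  have hmon : ∀ P ∈ s, P.Monic := fun P hP => by
    rw [← normalize_normalized_factor _ hP]
    exact monic_normalize (irreducible_of_normalized_factor _ hP).ne_zero
  have h0' : ∀ P ∈ s, P.coeff 0 ≠ 0 := fun P hP hz => by
    obtain ⟨g, hg⟩ := dvd_of_mem_normalizedFactors hP
    rw [hg, mul_coeff_zero, hz, zero_mul] at h0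
    exact zero_ne_one h0
  have hdualprod : ∀ t : Multiset F[X],
      H67.dualPoly (RingHom.id F) t.prod = (t.map (H67.dualPoly (RingHom.id F))).prod := by
    intro t
    induction t using Multiset.induction_on with
    | empty => simpa using H67.dualPoly_pow (σ := RingHom.id F) (1 : F[X]) 0
    | cons a t ih => rw [Multiset.prod_cons, Multiset.map_cons, Multiset.prod_cons, H67.dualPoly_mul, ih]
  have hsprod : s.prod = f := by rw [hs, prod_normalizedFactors_eq hf.ne_zero, hf.normalize_eq_self]
  have hnorm : ∀ t : Multiset F[X], (∀ P ∈ t, P.Monic ∧ Irreducible P) → normalizedFactors t.prod = t := by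
    intro t ht
    rw [normalizedFactors_prod_eq _ fun P hP => (ht P hP).2]
    exact (Multiset.map_congr rfl fun P hP => (ht P hP).1.normalize_eq_self).trans (Multiset.map_id' _)
  have hinv : s.map (H67.dualPoly (RingHom.id F)) = s := by
    rw [← hnorm (s.map (H67.dualPoly (RingHom.id F))) (fun P hP => by
      obtain ⟨Q, hQ, rfl⟩ := Multiset.mem_map.1 hP
      exact ⟨H67.dualPoly_monic (h0' Q hQ), H67.dualPoly_irreducible hσσ (hmon Q hQ) (h0' Q hQ)
        (irreducible_of_normalized_factor _ hQ)⟩), ← hdualprod, hsprod, hdual]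
  have hfixbad : ∀ P : F[X], IsPlusMinus P → H67.dualPoly (RingHom.id F) P = P := by
    have key : ∀ c : F, c * c = 1 → H67.dualPoly (RingHom.id F) (X + C c) = X + C c := fun c hc => by
      have hc0 : (X + C c).coeff 0 ≠ 0 := by
        rw [coeff_add, coeff_X_zero, coeff_C_zero, zero_add]
        exact left_ne_zero_of_mul_eq_one hc
      rw [(H67.dualPoly_monic hc0).eq_X_add_C
        (by rw [H67.dualPoly_natDegree hc0, natDegree_X_add_C]),
        H67.dualPoly_coeff_zero (monic_X_add_C c)]
      simp [inv_eq_of_mul_eq_one_left hc]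
    rintro P (rfl | rfl)
    · rw [sub_eq_add_neg, ← map_neg]
      exact key (-1) (by simp)
    · exact key 1 (one_mul 1)
  set g := s.filter fun P => ¬ IsPlusMinus P with hg
  have hginv : g.map (H67.dualPoly (RingHom.id F)) = g := by
    conv_rhs => rw [hg, ← hinv, Multiset.filter_map]
    rw [hg]
    congr 1
    refine Multiset.filter_congr fun P hP => not_congr ⟨fun h => ?_, fun h => ?_⟩
    · show IsPlusMinus _; rw [hfixbad P h]; exact h
    · have := hfixbad _ h
      rw [H67.dualPoly_dualPoly hσσ (hmon P hP) (h0' P hP)] at this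
      rw [this]; exact h
  have hg0 : g.prod.coeff 0 ≠ 0 := by
    rw [coeff_zero_eq_eval_zero, eval_multiset_prod]
    refine Multiset.prod_ne_zero fun h => ?_
    obtain ⟨P, hP, hP0⟩ := Multiset.mem_map.1 h
    exact h0' P (Multiset.mem_of_mem_filter hP) (by rw [coeff_zero_eq_eval_zero]; exact hP0)
  have hgm : g.prod.Monic := by
    simpa using monic_multiset_prod_of_monic g id fun P hP => hmon P (Multiset.mem_of_mem_filter hP)
  obtain ⟨m, G, hG, hGdeg⟩ := exists_sp_model hgm hg0 (by rw [hdualprod, hginv]) (fun P _ hP => by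
    rw [hnorm g (fun Q hQ => ⟨hmon Q (Multiset.mem_of_mem_filter hQ),
      irreducible_of_normalized_factor _ (Multiset.mem_of_mem_filter hQ)⟩), hg,
      Multiset.count_filter_of_neg (fun h => h hP)]
    exact Even.zero)
  have hg1 : g.prod.coeff 0 = 1 := by
    have h := Matrix.det_eq_sign_charpoly_coeff (G : Matrix (Fin m ⊕ Fin m) (Fin m ⊕ Fin m) F)
    rw [SymplecticGroup.det_eq_one G.2, hG, Fintype.card_sum, Fintype.card_fin,
      Even.neg_one_pow ⟨m, rfl⟩, one_mul] at h
    exact h.symm
  set a := s.count (X - C 1) with ha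
  set b := s.count (X + C 1) with hb
  have hsplit : g + s.filter IsPlusMinus = s := by
    rw [add_comm, hg]; exact Multiset.filter_add_not _ _
  rcases eq_or_ne (X - C (1 : F)) (X + C 1) with hpm | hpm
  · have hbadf : s.filter IsPlusMinus = Multiset.replicate a (X - C 1) := by
      rw [ha, ← Multiset.filter_eq']
      exact Multiset.filter_congr fun P _ =>
        ⟨fun h => h.elim id fun h => h.trans hpm.symm, fun h => Or.inl h⟩
    have hd := congrArg (fun t : Multiset F[X] => t.prod.natDegree) hsplit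
    simp only [hbadf, Multiset.prod_add, Multiset.prod_replicate, hsprod, hdeg] at hd
    rw [hgm.natDegree_mul ((monic_X_sub_C 1).pow a), natDegree_pow, natDegree_X_sub_C, hGdeg] at hd
    intro P hP
    have : P = X - C 1 := hP.elim id fun h => h.trans hpm.symm
    rw [this, ← ha]
    exact ⟨n - m, by omega⟩
  · have hbadf : s.filter IsPlusMinus = Multiset.replicate a (X - C 1) + Multiset.replicate b (X + C 1) := by
      ext P
      rw [Multiset.count_add, Multiset.count_replicate, Multiset.count_replicate, Multiset.count_filter]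
      by_cases h1 : P = X - C 1
      · subst h1
        rw [if_pos (show IsPlusMinus (X - C (1 : F)) from Or.inl rfl), if_pos rfl, if_neg hpm.symm, add_zero]
      · by_cases h2 : P = X + C 1
        · subst h2
          rw [if_pos (show IsPlusMinus (X + C (1 : F)) from Or.inr rfl), if_neg hpm, if_pos rfl, zero_add]
        · rw [if_neg (fun h => h.elim h1 h2), if_neg (Ne.symm h1), if_neg (Ne.symm h2)]
    have hd := congrArg (fun t : Multiset F[X] => t.prod.natDegree) hsplit
    have hc := congrArg (fun t : Multiset F[X] => t.prod.coeff 0) hsplit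
    simp only [hbadf, Multiset.prod_add, Multiset.prod_replicate, hsprod, hdeg] at hd
    simp only [hbadf, Multiset.prod_add, Multiset.prod_replicate, hsprod, h0, mul_coeff_zero, hg1] at hc
    rw [hgm.natDegree_mul (((monic_X_sub_C 1).pow a).mul ((monic_X_add_C 1).pow b)),
      ((monic_X_sub_C 1).pow a).natDegree_mul ((monic_X_add_C 1).pow b), natDegree_pow, natDegree_pow,
      natDegree_X_sub_C, natDegree_X_add_C, hGdeg] at hd
    have hne : (-1 : F) ≠ 1 := fun h => hpm (by
      rw [sub_eq_add_neg, ← map_neg, h])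
    have hae : Even a := by
      simp only [coeff_zero_eq_eval_zero, eval_pow, eval_sub, eval_add, eval_X, eval_C, zero_sub,
        zero_add, one_pow, mul_one, one_mul] at hc
      exact (neg_one_pow_eq_one_iff_even hne).1 hc
    have hbe : Even b := by
      obtain ⟨k, hk⟩ := hae
      exact ⟨n - m - k, by omega⟩
    rintro P (rfl | rfl)
    · rwa [← ha]
    · rwa [← hb]

/-- Semisimple classes of `Sp_2n`. -/
theorem card_semisimple_classes_Sp (p : ℕ) [Fact p.Prime] [CharP F p] (k : ℕ) :
    Nat.card {c : ConjClasses ↥(Matrix.symplecticGroup (Fin (k + 1)) F) //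
      ∃ g : ↥(Matrix.symplecticGroup (Fin (k + 1)) F), ConjClasses.mk g = c ∧ (orderOf g).Coprime p} =
      Fintype.card F ^ (k + 1) := by
  classical
  have hdim : Fintype.card (Fin (k + 1) ⊕ Fin (k + 1)) = 2 * k + 1 + 1 := by simp; omega
  rw [card_classes_eq (fun g : ↥(Matrix.symplecticGroup (Fin (k + 1)) F) => (orderOf g).Coprime p)
    (fun f : F[X] => (f.Monic ∧ f.natDegree = 2 * k + 1 + 1) ∧ H67.dualPoly (RingHom.id F) f = f ∧ f.coeff 0 = 1)
    (fun g => (g : Matrix (Fin (k + 1) ⊕ Fin (k + 1)) (Fin (k + 1) ⊕ Fin (k + 1)) F).charpoly)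
    (fun g h hc hg => coprime_orderOf_of_isConj hc hg)
    (fun g h hc => charpoly_eq_of_isConj ((Matrix.symplecticGroup (Fin (k + 1)) F).subtype.map_isConj hc))
    (fun g h hg hh hc => (H67.sp_isConj_iff_matrix g h hg).2 ?_)
    (fun g _ => ⟨⟨Matrix.charpoly_monic _, by rw [Matrix.charpoly_natDegree_eq_dim, hdim]⟩,
      dualPoly_charpoly_sp g, ?_⟩)
    (fun f hf => ?_)]
  · rw [card_selfDual_polys (σ := RingHom.id F) (fun _ => rfl) rfl (one_mul 1),
      card_twisted_invariant Fin.rev Fin.rev_rev (fun x => 1 * RingHom.id F x) (fun x => by simp),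
      Nat.card_eq_fintype_card (α := F)]
    rw [Nat.card_congr (Equiv.subtypeUnivEquiv (p := fun x : F => 1 * RingHom.id F x = x) fun x => by simp),
      Nat.card_eq_fintype_card (α := F), ← pow_add]
    congr 1
    have e1 : Nat.card {i : Fin (2 * k + 1) // i < i.rev} = k := by
      rw [Nat.card_eq_fintype_card, Fintype.card_subtype]
      rw [Finset.filter_congr (q := fun i : Fin (2 * k + 1) => (i : ℕ) < k)
        (fun i _ => by rw [Fin.lt_def, Fin.val_rev]; omega), Fin.card_filter_val_lt]
      omega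
    have e2 : Nat.card {i : Fin (2 * k + 1) // i.rev = i} = 1 := by
      rw [Nat.card_eq_fintype_card, Fintype.card_subtype, Finset.card_eq_one]
      refine ⟨⟨k, by omega⟩, ?_⟩
      ext i
      simp [Fin.ext_iff, Fin.val_rev]
      omega
    rw [e1, e2]
  · obtain ⟨s, hs, hs0⟩ := exists_squarefree_aeval_toLin' p
      (show (g : Matrix (Fin (k + 1) ⊕ Fin (k + 1)) (Fin (k + 1) ⊕ Fin (k + 1)) F) ^ orderOf g = 1 by rw [← SubmonoidClass.coe_pow, pow_orderOf_eq_one]; rfl) hg
    obtain ⟨t, ht, ht0⟩ := exists_squarefree_aeval_toLin' p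
      (show (h : Matrix (Fin (k + 1) ⊕ Fin (k + 1)) (Fin (k + 1) ⊕ Fin (k + 1)) F) ^ orderOf h = 1 by rw [← SubmonoidClass.coe_pow, pow_orderOf_eq_one]; rfl) hh
    obtain ⟨L, hL⟩ := exists_equiv_of_charpoly_eq hs ht hs0 ht0 (by simpa [Matrix.charpoly_toLin'] using hc)
    exact isConj_of_equiv L fun v => hL v
  · have h := Matrix.det_eq_sign_charpoly_coeff
      (g : Matrix (Fin (k + 1) ⊕ Fin (k + 1)) (Fin (k + 1) ⊕ Fin (k + 1)) F)
    rw [SymplecticGroup.det_eq_one g.2, Fintype.card_sum, Fintype.card_fin, Even.neg_one_pow ⟨k + 1, rfl⟩,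
      one_mul] at h
    exact h.symm
  · obtain ⟨⟨hf1, hf2⟩, hd, hc0⟩ := hf
    obtain ⟨m, G, hG, hdeg⟩ := exists_sp_model hf1 (by rw [hc0]; exact one_ne_zero) hd
      (fun P _ hP => even_count_of_selfDual hf1 (n := k + 1) (by omega) hd hc0 P hP)
    obtain rfl : m = k + 1 := by omega
    have hpq : p ∣ Fintype.card F := by
      obtain ⟨j, -, hj⟩ := FiniteField.card F p
      exact hj ▸ dvd_pow_self p j.pos.ne'
    refine ⟨G ^ Fintype.card F ^ orderOf G, coprime_orderOf_pow_card G Fact.out hpq, ?_⟩
    simp only [SubmonoidClass.coe_pow]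
    rw [charpoly_pow_card_pow, hG]

end Cfsg.Agent.H66
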