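/-
Arithmetic of the `r`-parts of classical group orders for large primes `r`.
-/
import Mathlib

set_option autoImplicit false

open Polynomial

namespace Cfsg.Agent.H66

variable {r q : ℕ} [Fact r.Prime]

theorem orderOf_natCast_pos (hrq : ¬ r ∣ q) : 0 < orderOf (q : ZMod r) := by
  have h0 : (q : ZMod r) ≠ 0 := fun h => hrq ((ZMod.natCast_eq_zero_iff _ _).1 h)
  refine orderOf_pos_iff.2 (isOfFinOrder_iff_pow_eq_one.2 ⟨r - 1, ?_, ZMod.pow_card_sub_one_eq_one h0⟩)
  have := (Fact.out : r.Prime).two_le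
  omega

theorem dvd_pow_sub_one_iff (hq : 0 < q) (i : ℕ) : r ∣ q ^ i - 1 ↔ orderOf (q : ZMod r) ∣ i := by
  rw [orderOf_dvd_iff_pow_eq_one, ← ZMod.natCast_eq_zero_iff, Nat.cast_sub (Nat.one_le_pow _ _ hq),
    Nat.cast_pow, Nat.cast_one, sub_eq_zero]

/-- The valuation of `q ^ i - 1`. -/
theorem val_pow_sub_one (hq : 1 < q) (hrq : ¬ r ∣ q) {i : ℕ} (hi : 0 < i) :
    ¬ r ∣ i / orderOf (q : ZMod r) →
    padicValNat r (q ^ i - 1) =
      if orderOf (q : ZMod r) ∣ i then padicValNat r (q ^ orderOf (q : ZMod r) - 1) else 0 := by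
  set d := orderOf (q : ZMod r) with hd
  have hd0 : 0 < d := orderOf_natCast_pos hrq
  intro hk
  split_ifs with hdi
  · obtain ⟨k, rfl⟩ := hdi
    rw [Nat.mul_div_cancel_left _ hd0] at hk
    have hx : 1 ≤ q ^ d := Nat.one_le_pow _ _ (by omega)
    have hgeom : (∑ j ∈ Finset.range k, (q ^ d) ^ j) * (q ^ d - 1) = q ^ (d * k) - 1 := by
      rw [pow_mul]; exact geom_sum_mul_of_one_le hx k
    have hsum : ¬ r ∣ ∑ j ∈ Finset.range k, (q ^ d) ^ j := by
      intro h
      rw [← ZMod.natCast_eq_zero_iff] at h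
      push_cast at h
      rw [hd, pow_orderOf_eq_one] at h
      simp only [one_pow, Finset.sum_const, Finset.card_range, nsmul_eq_mul, mul_one] at h
      exact hk ((ZMod.natCast_eq_zero_iff _ _).1 h)
    have h2 : q ^ d - 1 ≠ 0 := by
      have := Nat.one_lt_pow hd0.ne' hq
      omega
    have h3 : ∑ j ∈ Finset.range k, (q ^ d) ^ j ≠ 0 := fun h => hsum (h ▸ dvd_zero r)
    rw [← hgeom, padicValNat.mul h3 h2, padicValNat.eq_zero_of_not_dvd hsum, zero_add]
  · exact padicValNat.eq_zero_of_not_dvd fun h => hdi ((dvd_pow_sub_one_iff (by omega) i).1 h)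

/-- `v_r(q^d - 1) = v_r(Φ_d(q))` for `d` the order of `q`. -/
theorem val_cyclotomic_eval (hq : 1 < q) (hrq : ¬ r ∣ q) :
    padicValNat r ((cyclotomic (orderOf (q : ZMod r)) ℤ).eval (q : ℤ)).natAbs =
      padicValNat r (q ^ orderOf (q : ZMod r) - 1) := by
  set d := orderOf (q : ZMod r) with hd
  have hd0 : 0 < d := orderOf_natCast_pos hrq
  have key : ∀ e, 0 < e → ∏ i ∈ e.divisors, ((cyclotomic i ℤ).eval (q : ℤ)).natAbs = q ^ e - 1 := by
    intro e he
    have h := congrArg (fun f : ℤ[X] => (f.eval (q : ℤ)).natAbs) (prod_cyclotomic_eq_X_pow_sub_one he ℤ)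
    simp only [eval_prod, eval_sub, eval_pow, eval_X, eval_one] at h
    rw [← Int.natAbsHom_apply, map_prod] at h
    simp only [Int.natAbsHom_apply] at h
    rw [h]
    have : 1 ≤ q ^ e := Nat.one_le_pow _ _ (by omega)
    rw [show ((q : ℤ) ^ e - 1) = ((q ^ e - 1 : ℕ) : ℤ) by push_cast [Nat.cast_sub this]; ring,
      Int.natAbs_natCast]
  have hne : ∀ i ∈ d.divisors, i ≠ d → ¬ r ∣ ((cyclotomic i ℤ).eval (q : ℤ)).natAbs := by
    intro i hi hne h
    have hi0 : 0 < i := Nat.pos_of_mem_divisors hi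
    have h1 : r ∣ q ^ i - 1 := key i hi0 ▸ h.trans (Finset.dvd_prod_of_mem _ (Nat.mem_divisors_self i hi0.ne'))
    have h2 := (dvd_pow_sub_one_iff (by omega) i).1 h1
    exact hne (Nat.dvd_antisymm (Nat.dvd_of_mem_divisors hi) h2)
  have hpos : ∀ i ∈ d.divisors, ((cyclotomic i ℤ).eval (q : ℤ)).natAbs ≠ 0 := by
    intro i hi h0
    have := key d hd0
    rw [Finset.prod_eq_zero hi h0] at this
    have := Nat.one_lt_pow hd0.ne' hq
    omega
  rw [← key d hd0, ← Finset.mul_prod_erase _ _ (Nat.mem_divisors_self d hd0.ne'),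
    padicValNat.mul (hpos _ (Nat.mem_divisors_self d hd0.ne'))
      (Finset.prod_ne_zero_iff.2 fun i hi => hpos i (Finset.mem_of_mem_erase hi)),
    padicValNat.eq_zero_of_not_dvd (n := ∏ _i ∈ _, _) ?_, add_zero]
  intro h
  obtain ⟨i, hi, h'⟩ := (Prime.dvd_finset_prod_iff (Fact.out : r.Prime).prime _).1 h
  exact hne i (Finset.mem_of_mem_erase hi) (Finset.ne_of_mem_erase hi) h'

theorem val_finset_prod {ι : Type*} (s : Finset ι) (f : ι → ℕ) (hf : ∀ i ∈ s, f i ≠ 0) :
    padicValNat r (∏ i ∈ s, f i) = ∑ i ∈ s, padicValNat r (f i) := by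
  classical
  induction s using Finset.induction_on with
  | empty => simp
  | insert a s ha ih =>
    rw [Finset.prod_insert ha, Finset.sum_insert ha,
      padicValNat.mul (hf a (Finset.mem_insert_self a s))
        (Finset.prod_ne_zero_iff.2 fun i hi => hf i (Finset.mem_insert_of_mem hi)),
      ih fun i hi => hf i (Finset.mem_insert_of_mem hi)]

/-- The valuation of a product of `q ^ (c (i+1)) - 1`. -/
theorem val_prod_pow_sub_one (hq : 1 < q) (hrq : ¬ r ∣ q) (n c : ℕ) (hc : 0 < c)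
    (hk : ∀ i, i < n → ¬ r ∣ c * (i + 1) / orderOf (q : ZMod r) ∨ ¬ orderOf (q : ZMod r) ∣ c * (i + 1)) :
    padicValNat r (∏ i ∈ Finset.range n, (q ^ (c * (i + 1)) - 1)) =
      ((Finset.range n).filter fun i => orderOf (q : ZMod r) ∣ c * (i + 1)).card *
        padicValNat r (q ^ orderOf (q : ZMod r) - 1) := by
  have h0 : ∀ i, q ^ (c * (i + 1)) - 1 ≠ 0 := fun i => by
    have := Nat.one_lt_pow (Nat.mul_ne_zero hc.ne' (Nat.succ_ne_zero i)) hq
    rw [Nat.succ_eq_add_one] at this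
    omega
  rw [val_finset_prod _ _ fun i _ => h0 i, Finset.card_filter, Finset.sum_mul]
  refine Finset.sum_congr rfl fun i hi => ?_
  rcases hk i (Finset.mem_range.1 hi) with h | h
  · rw [val_pow_sub_one hq hrq (Nat.mul_pos hc (Nat.succ_pos i)) h]
    split_ifs <;> simp
  · rw [if_neg h, zero_mul]
    exact padicValNat.eq_zero_of_not_dvd fun h' => h ((dvd_pow_sub_one_iff (by omega) _).1 h')

theorem card_range_filter_dvd (n d : ℕ) : ((Finset.range n).filter fun i => d ∣ i + 1).card = n / d :=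
  Nat.card_multiples n d

theorem card_range_filter_dvd_two_mul (n d : ℕ) :
    ((Finset.range n).filter fun i => d ∣ 2 * (i + 1)).card =
      if Even d then n / (d / 2) else n / d := by
  split_ifs with h
  · obtain ⟨e, rfl⟩ := h
    rw [show (e + e) / 2 = e by omega, ← card_range_filter_dvd n e]
    exact congrArg Finset.card (Finset.filter_congr fun i _ => by
      rw [← two_mul]; exact Nat.mul_dvd_mul_iff_left two_pos)
  · rw [← card_range_filter_dvd n d]
    exact congrArg Finset.card (Finset.filter_congr fun i _ =>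
      (Nat.coprime_two_right.2 (Nat.not_even_iff_odd.1 h)).dvd_mul_left)

theorem card_Icc_filter (P : ℕ → Prop) [DecidablePred P] (n : ℕ) :
    ((Finset.Icc 1 n).filter P).card = ((Finset.range n).filter fun i => P (i + 1)).card := by
  have h : (Finset.Icc 1 n).filter P = ((Finset.range n).filter fun i => P (i + 1)).map (addRightEmbedding 1) := by
    ext x
    simp only [Finset.mem_map, Finset.mem_filter, Finset.mem_range, Finset.mem_Icc, addRightEmbedding_apply]
    constructor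
    · rintro ⟨⟨h1, h2⟩, h3⟩
      exact ⟨x - 1, ⟨by omega, by rwa [Nat.sub_add_cancel h1]⟩, by omega⟩
    · rintro ⟨i, ⟨h1, h2⟩, rfl⟩
      exact ⟨⟨by omega, by omega⟩, h2⟩
  rw [h, Finset.card_map]

theorem card_Icc_two_filter (n d : ℕ) :
    ((Finset.Icc 2 n).filter fun i => d ∣ i).card = if d = 1 then n - 1 else n / d := by
  split_ifs with h
  · subst h; simp
  · rw [← card_range_filter_dvd n d, ← card_Icc_filter (fun i => d ∣ i)]
    congr 1
    ext x
    simp only [Finset.mem_filter, Finset.mem_Icc]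
    refine ⟨fun hx => ⟨⟨by omega, hx.1.2⟩, hx.2⟩, fun hx => ⟨⟨?_, hx.1.2⟩, hx.2⟩⟩
    by_contra hlt
    exact h (Nat.dvd_one.1 (show x = 1 by omega ▸ hx.2))

end Cfsg.Agent.H66
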