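/-
Homocyclic Sylow subgroups of `GL`, `SL`, `Sp` for large primes.
-/
import Cfsg.Agent.H66.SylowArith
import Cfsg.Agent.H66.SemisimpleSp
import Cfsg.Agent.H66.SemisimpleGL
import Cfsg.Agent.H1.Orders
import Cfsg.Agent.H1.Triangular
import Cfsg.Agent.H2.Card

set_option autoImplicit false

open Polynomial Matrix

namespace Cfsg.Agent.H66

/-- Homocyclic Sylow subgroup from an embedding. -/
theorem sylow_homocyclic {G : Type*} [Group G] [Finite G] {r : ℕ} [Fact r.Prime] {a v : ℕ}
    (hv : padicValNat r (Nat.card G) = a * v) (φ : (Fin a → Multiplicative (ZMod (r ^ v))) →* G)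
    (hinj : Function.Injective φ) (P : Sylow r G) :
    Nonempty (↥(P : Subgroup G) ≃* (Fin a → Multiplicative (ZMod (r ^ v)))) := by
  have hcard : Nat.card φ.range = r ^ (Nat.card G).factorization r := by
    rw [← Nat.card_congr (MonoidHom.ofInjective hinj).toEquiv, Nat.card_fun, Nat.factorization_def _ Fact.out, hv,
      Nat.card_fin, Nat.card_congr Multiplicative.toAdd, Nat.card_zmod, ← pow_mul, mul_comm]
  exact ⟨(P.equiv (Sylow.ofCard φ.range hcard)).trans (MonoidHom.ofInjective hinj).symm⟩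

/-- A cyclic group of given order mapped by an element of that order. -/
theorem exists_cyclic_hom {H : Type*} [Monoid H] {N : ℕ} [NeZero N] {g : H} (hg : g ^ N = 1)
    (hg' : ∀ i < N, g ^ i = 1 → i = 0) :
    ∃ f : Multiplicative (ZMod N) →* H, Function.Injective f := by
  refine ⟨⟨⟨fun x => g ^ (Multiplicative.toAdd x).val, by simp⟩, fun x y => ?_⟩, fun x y hxy => ?_⟩
  · show g ^ (Multiplicative.toAdd (x * y)).val = _
    rw [toAdd_mul, ZMod.val_add, ← pow_eq_pow_mod _ hg, pow_add]
  · change g ^ (Multiplicative.toAdd x).val = g ^ (Multiplicative.toAdd y).val at hxy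
    have hx := ZMod.val_lt (Multiplicative.toAdd x)
    have hy := ZMod.val_lt (Multiplicative.toAdd y)
    have hz : g ^ (Multiplicative.toAdd (x * y⁻¹)).val = 1 := by
      rw [toAdd_mul, toAdd_inv, ← sub_eq_add_neg]
      have h1 : g ^ (Multiplicative.toAdd x - Multiplicative.toAdd y).val * g ^ (Multiplicative.toAdd y).val =
          g ^ (Multiplicative.toAdd x).val := by
        rw [← pow_add, pow_eq_pow_mod _ hg, ← ZMod.val_add, sub_add_cancel]
      have hu : IsUnit (g ^ (Multiplicative.toAdd y).val) :=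
        (IsUnit.of_pow_eq_one hg (NeZero.ne N)).pow _
      exact hu.mul_right_cancel (by rw [h1, one_mul, hxy])
    have := hg' _ (ZMod.val_lt _) hz
    rwa [ZMod.val_eq_zero, toAdd_eq_zero, mul_inv_eq_one] at this

variable {F : Type*} [Field F] [Fintype F] {r : ℕ} [Fact r.Prime]

/-- An irreducible polynomial whose roots have order `r ^ v`. -/
theorem exists_root_poly (hrq : ¬ r ∣ Fintype.card F) {v : ℕ} (hv : 0 < v)
    (hdvd : r ^ v ∣ Fintype.card F ^ orderOf (Fintype.card F : ZMod r) - 1) :
    ∃ f : F[X], f.Monic ∧ Irreducible f ∧ f.natDegree = orderOf (Fintype.card F : ZMod r) ∧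
      f.coeff 0 ≠ 0 ∧ f ∣ X ^ r ^ v - 1 ∧ (∀ i < r ^ v, f ∣ X ^ i - 1 → i = 0) ∧
      (Even (orderOf (Fintype.card F : ZMod r)) → H67.dualPoly (RingHom.id F) f = f) := by
  classical
  obtain ⟨p, hchar⟩ := CharP.exists F
  have hpp : p.Prime := (CharP.char_is_prime_or_zero F p).resolve_right fun h => by
    subst h; have := CharP.charP_to_charZero F; exact not_finite F
  have := Fact.mk hpp
  set q := Fintype.card F with hq
  set d := orderOf (q : ZMod r) with hd
  have hd0 : 0 < d := orderOf_natCast_pos hrq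
  have := NeZero.of_pos hd0
  let L := FiniteField.Extension F p d
  have hL : Module.finrank F L = d := FiniteField.finrank_extension F p d
  have : Finite L := Module.finite_of_finite F
  have hLcard : Nat.card L = q ^ d := by
    rw [FiniteField.natCard_extension, Nat.card_eq_fintype_card]
  obtain ⟨γ, hγ⟩ := IsCyclic.exists_generator (α := Lˣ)
  have hγo : orderOf γ = q ^ d - 1 := by
    rw [orderOf_eq_card_of_forall_mem_zpowers hγ, Nat.card_units, hLcard]
  obtain ⟨k, hk⟩ := hdvd
  have hk0 : k ≠ 0 := by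
    rintro rfl
    have := Nat.one_lt_pow hd0.ne' (Fintype.one_lt_card (α := F))
    rw [← hq] at this
    omega
  set ζ := γ ^ k with hζ
  have hζo : orderOf ζ = r ^ v := by
    rw [hζ, orderOf_pow' _ hk0, hγo, hk, Nat.gcd_mul_left_left, Nat.mul_div_cancel _ (Nat.pos_of_ne_zero hk0)]
  have hζ0 : (ζ : L) ≠ 0 := ζ.ne_zero
  have hint : IsIntegral F (ζ : L) := IsIntegral.of_finite F _
  set f := minpoly F (ζ : L) with hf
  have hroot : aeval (ζ : L) f = 0 := minpoly.aeval F _
  have hXN : ∀ i, f ∣ X ^ i - 1 ↔ r ^ v ∣ i := fun i => by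
    rw [← hζo, orderOf_dvd_iff_pow_eq_one, minpoly.dvd_iff, map_sub, map_pow, aeval_X, map_one,
      sub_eq_zero, ← Units.val_pow_eq_pow_val, Units.val_eq_one]
  have h0 : f.coeff 0 ≠ 0 := minpoly.coeff_zero_ne_zero hint hζ0
  have hdeg : f.natDegree = d := by
    refine le_antisymm (hL ▸ minpoly.natDegree_le _) (Nat.le_of_dvd (minpoly.natDegree_pos hint) ?_)
    let E := IntermediateField.adjoin F {(ζ : L)}
    have hE : Module.finrank F E = f.natDegree := IntermediateField.adjoin.finrank hint
    have : Finite E := Subtype.finite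
    have := Fintype.ofFinite E
    have hEc : Fintype.card E = q ^ f.natDegree := by
      rw [Fintype.card_eq_nat_card, Module.natCard_eq_pow_finrank (K := F), Nat.card_eq_fintype_card, hE]
    let z : E := ⟨(ζ : L), IntermediateField.mem_adjoin_simple_self F _⟩
    have hz : z ≠ 0 := fun h => hζ0 (congrArg Subtype.val h)
    have h1 := FiniteField.pow_card_sub_one_eq_one z hz
    rw [hEc] at h1
    have h2 : (ζ : L) ^ (q ^ f.natDegree - 1) = 1 := congrArg Subtype.val h1
    rw [← Units.val_pow_eq_pow_val, Units.val_eq_one, ← orderOf_dvd_iff_pow_eq_one, hζo] at h2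
    exact (dvd_pow_sub_one_iff Fintype.card_pos _).1 ((dvd_pow_self r hv.ne').trans h2)
  refine ⟨f, minpoly.monic hint, minpoly.irreducible hint, hdeg, h0, (hXN _).2 dvd_rfl,
    fun i hi h => Nat.eq_zero_of_dvd_of_lt ((hXN i).1 h) hi, ?_⟩
  rintro ⟨e, he⟩
  have he0 : 0 < e := by omega
  have hplus : r ^ v ∣ q ^ e + 1 := by
    have hprod : q ^ d - 1 = (q ^ e + 1) * (q ^ e - 1) := by
      rw [← Nat.sq_sub_sq, one_pow, ← pow_mul, he]
      ring_nf
    have hne : ¬ r ∣ q ^ e - 1 := fun h => by
      have := Nat.le_of_dvd he0 ((dvd_pow_sub_one_iff Fintype.card_pos e).1 h)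
      rw [← hd] at this
      omega
    refine (Nat.Coprime.dvd_of_dvd_mul_right ?_ (hprod ▸ Dvd.intro k hk.symm))
    exact ((Fact.out : r.Prime).coprime_iff_not_dvd.2 hne).pow_left v
  have hinv : (ζ : L) ^ q ^ e = ((ζ⁻¹ : Lˣ) : L) := by
    rw [← Units.val_pow_eq_pow_val, Units.val_inj, eq_inv_iff_mul_eq_one, ← pow_succ,
      ← orderOf_dvd_iff_pow_eq_one, hζo]
    exact hplus
  have hroots : ∀ j, aeval ((ζ : L) ^ q ^ j) f = 0 := by
    intro j
    induction j with
    | zero => simpa using hroot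
    | succ j ih =>
      have h := congrArg (aeval ((ζ : L) ^ q ^ j)) (FiniteField.expand_card f)
      rw [expand_aeval, ← pow_mul, ← pow_succ, map_pow, ih, zero_pow Fintype.card_ne_zero] at h
      exact h
  have hσσ : ∀ x : F, RingHom.id F (RingHom.id F x) = x := fun _ => rfl
  have hmon := minpoly.monic hint
  have hd00 : (H67.dualPoly (RingHom.id F) f).coeff 0 ≠ 0 := by
    rw [H67.dualPoly_coeff_zero hmon]; simpa using h0
  have hdualroot : aeval (ζ : L) (H67.dualPoly (RingHom.id F) f) = 0 := by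
    have h1 := H67.eval₂_inv_dual_eq_zero (σ := RingHom.id F) (P := H67.dualPoly (RingHom.id F) f)
      (algebraMap F L) ((ζ⁻¹ : Lˣ) : L) (ζ : L) (Units.inv_mul ζ) hσσ
      (by rw [H67.dualPoly_dualPoly hσσ hmon h0, ← aeval_def, ← hinv]; exact hroots e) hd00
    simpa [aeval_def] using h1
  exact (eq_of_monic_of_dvd_of_natDegree_le hmon (H67.dualPoly_monic h0) (minpoly.dvd F _ hdualroot)
    (by rw [H67.dualPoly_natDegree h0]))

omit [Fintype F] [Fact r.Prime] in
/-- A matrix with irreducible characteristic polynomial. -/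
theorem pow_eq_one_iff_dvd {n : Type*} [Fintype n] [DecidableEq n] {A : Matrix n n F} {f : F[X]}
    (hf : f.Monic) (hirr : Irreducible f) (hA : A.charpoly = f) (i : ℕ) : A ^ i = 1 ↔ f ∣ X ^ i - 1 := by
  have hne : Nonempty n := by
    by_contra h
    rw [not_nonempty_iff] at h
    have := hirr.natDegree_pos
    rw [← hA, Matrix.charpoly_natDegree_eq_dim, Fintype.card_eq_zero] at this
    omega
  have hm : minpoly F A = f := by
    refine eq_of_monic_of_associated (minpoly.monic (Algebra.IsIntegral.isIntegral A)) hf ?_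
    rcases hirr.dvd_iff.1 (hA ▸ Matrix.minpoly_dvd_charpoly A) with h | h
    · exact absurd h (minpoly.not_isUnit F A)
    · exact h.symm
  rw [← hm, minpoly.dvd_iff, map_sub, map_pow, aeval_X, map_one, sub_eq_zero]

/-- Block diagonal embedding of a power of a matrix monoid. -/
noncomputable def powEmbed {a : ℕ} {I R X : Type*} [Fintype I] [DecidableEq I] [Fintype R] [DecidableEq R] [Fintype X]
    [DecidableEq X] (ψ : (I × Fin a) ⊕ R ≃ X) : (Fin a → Matrix I I F) →* Matrix X X F where
  toFun g := Matrix.reindex ψ ψ (Matrix.fromBlocks (Matrix.blockDiagonal g) 0 0 1)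
  map_one' := by
    rw [Matrix.blockDiagonal_one, Matrix.fromBlocks_one, Matrix.reindex_apply, Matrix.submatrix_one_equiv]
  map_mul' g h := by
    rw [Matrix.reindex_apply, Matrix.reindex_apply, Matrix.reindex_apply, Matrix.submatrix_mul_equiv,
      Matrix.fromBlocks_multiply]
    simp [Pi.mul_def, Matrix.blockDiagonal_mul]

omit [Fintype F] in
theorem powEmbed_injective {a : ℕ} {I R X : Type*} [Fintype I] [DecidableEq I] [Fintype R] [DecidableEq R]
    [Fintype X] [DecidableEq X] (ψ : (I × Fin a) ⊕ R ≃ X) : Function.Injective (powEmbed (F := F) ψ) := by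
  intro g h e
  have h1 := congrArg Matrix.toBlocks₁₁ ((Matrix.reindex ψ ψ).injective e)
  rw [Matrix.toBlocks_fromBlocks₁₁, Matrix.toBlocks_fromBlocks₁₁] at h1
  exact Matrix.blockDiagonal_injective h1

omit [Fintype F] in
theorem powEmbed_apply {a : ℕ} {I R X : Type*} [Fintype I] [DecidableEq I] [Fintype R] [DecidableEq R]
    [Fintype X] [DecidableEq X] (ψ : (I × Fin a) ⊕ R ≃ X) (g : Fin a → Matrix I I F) :
    powEmbed ψ g = Matrix.reindex ψ ψ (Matrix.fromBlocks (Matrix.blockDiagonal g) 0 0 1) := rfl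

/-- Valuation of the order of `GL_n`. -/
theorem val_card_GL (n : ℕ) (hrn : n < r) (hrq : ¬ r ∣ Fintype.card F) :
    padicValNat r (Nat.card (GL (Fin n) F)) =
      n / orderOf (Fintype.card F : ZMod r) *
        padicValNat r (Fintype.card F ^ orderOf (Fintype.card F : ZMod r) - 1) := by
  set q := Fintype.card F with hq
  have hq1 : 1 < q := Fintype.one_lt_card
  rw [H1.card_GL_eq_pow_mul hq.symm n]
  have hrev : ∏ i : Fin n, (q ^ (n - (i : ℕ)) - 1) = ∏ i ∈ Finset.range n, (q ^ (1 * (i + 1)) - 1) := by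
    rw [← Fin.prod_univ_eq_prod_range (fun i => q ^ (1 * (i + 1)) - 1)]
    refine Fintype.prod_equiv Fin.revPerm _ _ fun i => ?_
    simp only [Fin.revPerm_apply, Fin.val_rev, one_mul]
    congr 2
    omega
  have hne : ∏ i ∈ Finset.range n, (q ^ (1 * (i + 1)) - 1) ≠ 0 :=
    Finset.prod_ne_zero_iff.2 fun i _ => by
      have := Nat.one_lt_pow (show 1 * (i + 1) ≠ 0 by omega) hq1
      omega
  rw [hrev, padicValNat.mul (pow_ne_zero _ (by omega)) hne,
    padicValNat.eq_zero_of_not_dvd (n := q ^ (n * (n - 1) / 2))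
      (fun h => hrq ((Fact.out : r.Prime).dvd_of_dvd_pow h)), zero_add,
    val_prod_pow_sub_one hq1 hrq n 1 one_pos]
  · congr 1
    rw [← card_range_filter_dvd n]
    simp
  · intro i hi
    by_cases h : orderOf (q : ZMod r) ∣ 1 * (i + 1)
    · obtain ⟨k, hk⟩ := h
      left
      have hd0 := orderOf_natCast_pos (r := r) hrq
      rw [hk, Nat.mul_div_cancel_left _ hd0]
      intro hdv
      have hk0 : 0 < k := by
        rcases Nat.eq_zero_or_pos k with rfl | h
        · simp at hk
        · exact h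
      have := Nat.le_of_dvd hk0 hdv
      have : k ≤ orderOf (q : ZMod r) * k := Nat.le_mul_of_pos_left k hd0
      omega
    · exact Or.inr h

/-- The valuation is positive. -/
theorem val_pos (hrq : ¬ r ∣ Fintype.card F) :
    0 < padicValNat r (Fintype.card F ^ orderOf (Fintype.card F : ZMod r) - 1) := by
  have hq1 : 1 < Fintype.card F := Fintype.one_lt_card
  refine one_le_padicValNat_of_dvd ?_ ((dvd_pow_sub_one_iff (by omega) _).2 dvd_rfl)
  have := Nat.one_lt_pow (orderOf_natCast_pos (r := r) hrq).ne' hq1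
  omega

/-- A homocyclic `r`-subgroup of `GL_n`. -/
theorem exists_GL_hom (hrq : ¬ r ∣ Fintype.card F) (n : ℕ) :
    ∃ φ : (Fin (n / orderOf (Fintype.card F : ZMod r)) → Multiplicative
        (ZMod (r ^ padicValNat r (Fintype.card F ^ orderOf (Fintype.card F : ZMod r) - 1)))) →* GL (Fin n) F,
      Function.Injective φ := by
  classical
  set d := orderOf (Fintype.card F : ZMod r) with hd
  set v := padicValNat r (Fintype.card F ^ d - 1) with hv
  obtain ⟨p, hchar⟩ := CharP.exists F
  have hpp : p.Prime := (CharP.char_is_prime_or_zero F p).resolve_right fun h => by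
    subst h; have := CharP.charP_to_charZero F; exact not_finite F
  have := Fact.mk hpp
  have : NeZero (r ^ v) := ⟨pow_ne_zero _ (Fact.out : r.Prime).ne_zero⟩
  obtain ⟨f, hf, hirr, hdeg, h0, hN, hN', -⟩ := exists_root_poly (F := F) hrq (val_pos hrq) pow_padicValNat_dvd
  obtain ⟨g, hg, -⟩ := exists_gl_charpoly_eq p hf hdeg h0
  obtain ⟨c, hc⟩ := exists_cyclic_hom (g := (g : Matrix (Fin d) (Fin d) F)) (N := r ^ v)
    ((pow_eq_one_iff_dvd hf hirr hg _).2 hN) fun i hi h => hN' i hi ((pow_eq_one_iff_dvd hf hirr hg i).1 h)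
  obtain ⟨ψ⟩ : Nonempty ((Fin d × Fin (n / d)) ⊕ Fin (n % d) ≃ Fin n) :=
    ⟨Fintype.equivOfCardEq (by simp [Nat.div_add_mod n d])⟩
  refine ⟨((powEmbed ψ).comp (c.compLeft (Fin (n / d)))).toHomUnits, fun x y h => ?_⟩
  have h1 := powEmbed_injective ψ (congrArg Units.val h)
  exact funext fun i => hc (congrFun h1 i)

theorem val_card_SL (n : ℕ) (hrn : n < r) (hrq : ¬ r ∣ Fintype.card F) :
    padicValNat r (Nat.card (Matrix.SpecialLinearGroup (Fin n) F)) =
      ((Finset.Icc 2 n).filter fun i => orderOf (Fintype.card F : ZMod r) ∣ i).card *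
        padicValNat r (Fintype.card F ^ orderOf (Fintype.card F : ZMod r) - 1) := by
  rcases Nat.eq_zero_or_pos n with rfl | hn
  · rw [show Nat.card (Matrix.SpecialLinearGroup (Fin 0) F) = 1 from
      Nat.card_eq_one_iff_unique.2 ⟨⟨fun a b => Subtype.ext (Subsingleton.elim _ _)⟩, ⟨1⟩⟩]
    simp
  have : Nonempty (Fin n) := ⟨⟨0, hn⟩⟩
  set q := Fintype.card F with hq
  have hq1 : 1 < q := Fintype.one_lt_card
  have h1 := val_card_GL (r := r) (F := F) n hrn hrq
  rw [← H1.card_units_mul_card_SL, H1.natCard_units hq.symm,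
    padicValNat.mul (by omega) Nat.card_pos.ne'] at h1
  have h2 : padicValNat r (q - 1) = if orderOf (q : ZMod r) = 1 then
      padicValNat r (q ^ orderOf (q : ZMod r) - 1) else 0 := by
    split_ifs with hd
    · rw [hd, pow_one]
    · refine padicValNat.eq_zero_of_not_dvd fun h => hd (Nat.dvd_one.1 ?_)
      exact (dvd_pow_sub_one_iff (by omega) 1).1 (by rwa [pow_one])
  rw [card_Icc_two_filter]
  rw [h2] at h1
  split_ifs with hd
  · simp only [← hq, hd, if_true, Nat.div_one, pow_one] at h1 ⊢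
    rw [Nat.sub_one_mul]
    omega
  · simp only [← hq, if_neg hd] at h1 ⊢
    omega

/-- A homocyclic `r`-subgroup of `SL_n`. -/
theorem exists_SL_hom (hrq : ¬ r ∣ Fintype.card F) (n : ℕ) :
    ∃ φ : (Fin ((Finset.Icc 2 n).filter fun i => orderOf (Fintype.card F : ZMod r) ∣ i).card → Multiplicative
        (ZMod (r ^ padicValNat r (Fintype.card F ^ orderOf (Fintype.card F : ZMod r) - 1)))) →*
        Matrix.SpecialLinearGroup (Fin n) F, Function.Injective φ := by
  classical
  rw [card_Icc_two_filter]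
  set d := orderOf (Fintype.card F : ZMod r) with hd
  set v := padicValNat r (Fintype.card F ^ d - 1) with hv
  have : NeZero (r ^ v) := ⟨pow_ne_zero _ (Fact.out : r.Prime).ne_zero⟩
  by_cases hd1 : d = 1
  · rw [if_pos hd1]
    obtain ⟨γ, hγ⟩ := IsCyclic.exists_generator (α := Fˣ)
    have hγo : orderOf γ = Fintype.card F - 1 := by
      rw [orderOf_eq_card_of_forall_mem_zpowers hγ, Nat.card_units, Nat.card_eq_fintype_card]
    have hdvd : r ^ v ∣ orderOf γ := by
      rw [hγo, hv, hd1, pow_one]; exact pow_padicValNat_dvd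
    obtain ⟨k, hk⟩ := hdvd
    have hk0 : k ≠ 0 := by
      rintro rfl
      have := Fintype.one_lt_card (α := F)
      omega
    have hco : orderOf (γ ^ k) = r ^ v := by
      rw [orderOf_pow' _ hk0, hk, Nat.gcd_mul_left_left, Nat.mul_div_cancel _ (Nat.pos_of_ne_zero hk0)]
    obtain ⟨c, hc⟩ := exists_cyclic_hom (g := γ ^ k) (N := r ^ v) (hco ▸ pow_orderOf_eq_one _)
      fun i hi h => Nat.eq_zero_of_dvd_of_lt (hco ▸ orderOf_dvd_of_pow_eq_one h) hi
    rcases Nat.eq_zero_or_pos n with rfl | hn
    · exact ⟨1, fun x y _ => funext fun i => i.elim0⟩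
    obtain ⟨m, rfl⟩ := Nat.exists_eq_add_of_le' hn
    rw [Nat.add_sub_cancel]
    let w : (Fin m → Multiplicative (ZMod (r ^ v))) → Fin (m + 1) → Fˣ :=
      fun x => Fin.cons (c (∏ i, x i))⁻¹ fun i => c (x i)
    have hw1 : w 1 = 1 := funext fun i => by refine Fin.cases ?_ (fun i => ?_) i <;> simp [w]
    have hwm : ∀ x y, w (x * y) = w x * w y := fun x y => funext fun i => by
      refine Fin.cases ?_ (fun i => ?_) i
      · simp [w, Finset.prod_mul_distrib, mul_comm]
      · simp [w]
    refine ⟨MonoidHom.mk' (fun x => ⟨Matrix.diagonal fun i => (w x i : F), ?_⟩) (fun x y => Subtype.ext ?_), ?_⟩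
    · rw [Matrix.det_diagonal, Fin.prod_univ_succ]
      simp [w, map_prod]
      exact inv_mul_cancel₀ (Finset.prod_ne_zero_iff.2 fun i _ => Units.ne_zero _)
    · show Matrix.diagonal (fun i => ((w (x * y) i : Fˣ) : F)) = Matrix.diagonal _ * Matrix.diagonal _
      rw [Matrix.diagonal_mul_diagonal, hwm]
      simp
    · intro x y h
      have h1 : (fun i => (w x i : F)) = fun i => (w y i : F) :=
        Matrix.diagonal_injective (congrArg Subtype.val h)
      refine funext fun i => hc (Units.ext ?_)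
      simpa [w] using congrFun h1 i.succ
  · rw [if_neg hd1]
    obtain ⟨φ, hφ⟩ := exists_GL_hom (F := F) hrq n
    have hdet : ∀ x, (φ x : Matrix (Fin n) (Fin n) F).det = 1 := by
      intro x
      set δ := Matrix.GeneralLinearGroup.det (φ x) with hδ
      have h1 : δ ^ (r ^ v) = 1 := by
        rw [hδ, ← map_pow, ← map_pow, show x ^ (r ^ v) = 1 from funext fun i => ?_, map_one, map_one]
        rw [Pi.pow_apply, Pi.one_apply]
        refine Multiplicative.toAdd.injective ?_
        simp
      have h2 : δ ^ (Fintype.card F - 1) = 1 := by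
        rw [← Fintype.card_units]; exact pow_card_eq_one
      have hcop : (r ^ v).gcd (Fintype.card F - 1) = 1 := by
        refine Nat.Coprime.pow_left _ ((Fact.out : r.Prime).coprime_iff_not_dvd.2 fun h => hd1 ?_)
        rw [← Nat.dvd_one, hd]
        exact (dvd_pow_sub_one_iff Fintype.card_pos 1).1 (by rwa [pow_one])
      have h3 := pow_gcd_eq_one.2 ⟨h1, h2⟩
      rw [hcop, pow_one, hδ] at h3
      exact congrArg Units.val h3
    refine ⟨MonoidHom.mk' (fun x => ⟨(φ x : Matrix (Fin n) (Fin n) F), hdet x⟩)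
      (fun x y => Subtype.ext (by show (φ (x * y) : Matrix (Fin n) (Fin n) F) = _ * _; rw [map_mul, Units.val_mul])), fun x y h => hφ (Units.ext (congrArg Subtype.val h))⟩

theorem val_card_Sp (n : ℕ) (hr2 : r ≠ 2) (hrn : n < r) (hrq : ¬ r ∣ Fintype.card F) :
    padicValNat r (Nat.card (Matrix.symplecticGroup (Fin n) F)) =
      ((Finset.Icc 1 n).filter fun i => orderOf (Fintype.card F : ZMod r) ∣ 2 * i).card *
        padicValNat r (Fintype.card F ^ orderOf (Fintype.card F : ZMod r) - 1) := by
  set q := Fintype.card F with hq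
  have hq1 : 1 < q := Fintype.one_lt_card
  have hd0 := orderOf_natCast_pos (r := r) hrq
  rw [H2.card_sp, Nat.card_eq_fintype_card, ← hq, card_Icc_filter fun i => orderOf (q : ZMod r) ∣ 2 * i]
  have hne : ∏ i ∈ Finset.range n, (q ^ (2 * (i + 1)) - 1) ≠ 0 :=
    Finset.prod_ne_zero_iff.2 fun i _ => by
      have := Nat.one_lt_pow (show 2 * (i + 1) ≠ 0 by omega) hq1
      omega
  rw [padicValNat.mul (pow_ne_zero _ (by omega)) hne,
    padicValNat.eq_zero_of_not_dvd (n := q ^ (n ^ 2))
      (fun h => hrq ((Fact.out : r.Prime).dvd_of_dvd_pow h)), zero_add]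
  refine val_prod_pow_sub_one hq1 hrq n 2 two_pos fun i hi => ?_
  by_cases h : orderOf (q : ZMod r) ∣ 2 * (i + 1)
  · left
    intro hdv
    set d := orderOf (q : ZMod r) with hd
    obtain ⟨k, hk⟩ := h
    rw [hk, Nat.mul_div_cancel_left _ hd0] at hdv
    have : r ∣ i + 1 := by
      refine (((Nat.coprime_primes (Fact.out : r.Prime) Nat.prime_two).2 hr2).dvd_of_dvd_mul_left ?_)
      rw [hk]; exact Dvd.dvd.mul_left hdv d
    have := Nat.le_of_dvd (Nat.succ_pos i) this
    omega
  · exact Or.inr h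

/-- A homocyclic `r`-subgroup of `Sp_2n`. -/
theorem exists_Sp_hom (hrq : ¬ r ∣ Fintype.card F) (hr2 : r ≠ 2) (n : ℕ) :
    ∃ φ : (Fin ((Finset.Icc 1 n).filter fun i => orderOf (Fintype.card F : ZMod r) ∣ 2 * i).card → Multiplicative
        (ZMod (r ^ padicValNat r (Fintype.card F ^ orderOf (Fintype.card F : ZMod r) - 1)))) →*
        ↥(Matrix.symplecticGroup (Fin n) F), Function.Injective φ := by
  classical
  rw [card_Icc_filter fun i => orderOf (Fintype.card F : ZMod r) ∣ 2 * i, card_range_filter_dvd_two_mul]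
  set d := orderOf (Fintype.card F : ZMod r) with hd
  set v := padicValNat r (Fintype.card F ^ d - 1) with hv
  have : NeZero (r ^ v) := ⟨pow_ne_zero _ (Fact.out : r.Prime).ne_zero⟩
  by_cases hev : Even d
  · rw [if_pos hev]
    obtain ⟨f, hf, hirr, hdeg, h0, hN, hN', hdual⟩ :=
      exists_root_poly (F := F) hrq (val_pos hrq) pow_padicValNat_dvd
    have hcnt : ∀ P, H67.dualPoly (RingHom.id F) P = P → IsPlusMinus P →
        Even ((UniqueFactorizationMonoid.normalizedFactors f).count P) := by
      intro P _ hP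
      have hPdeg : P.natDegree = 1 := by
        rcases hP with rfl | rfl
        · exact natDegree_X_sub_C 1
        · exact natDegree_X_add_C 1
      have hd2 : 2 ≤ d := by
        obtain ⟨e, he⟩ := hev
        have := orderOf_natCast_pos (r := r) (q := Fintype.card F) hrq
        rw [← hd] at this
        omega
      rw [UniqueFactorizationMonoid.normalizedFactors_irreducible hirr, hf.normalize_eq_self,
        Multiset.count_singleton, if_neg]
      · exact Even.zero
      · intro he
        rw [he, hdeg, ← hd] at hPdeg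
        omega
    obtain ⟨m, g, hg, hm⟩ := exists_sp_model hf h0 (hdual hev) hcnt
    rw [hdeg, ← hd] at hm
    obtain ⟨c, hc⟩ := exists_cyclic_hom (g := g) (N := r ^ v)
      (Subtype.ext (by rw [SubmonoidClass.coe_pow, (pow_eq_one_iff_dvd hf hirr hg _).2 hN]; rfl))
      fun i hi h => hN' i hi ((pow_eq_one_iff_dvd hf hirr hg i).1 (by rw [← SubmonoidClass.coe_pow, h]; rfl))
    rw [show d / 2 = m by omega]
    obtain ⟨e⟩ : Nonempty ((Fin m × Fin (n / m)) ⊕ Fin (n % m) ≃ Fin n) :=
      ⟨Fintype.equivOfCardEq (by simp [Nat.div_add_mod n m])⟩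
    let ψ : ((Fin m ⊕ Fin m) × Fin (n / m)) ⊕ (Fin (n % m) ⊕ Fin (n % m)) ≃ Fin n ⊕ Fin n :=
      ((Equiv.sumCongr (Equiv.sumProdDistrib _ _ _) (Equiv.refl _)).trans
        (Equiv.sumSumSumComm _ _ _ _)).trans (Equiv.sumCongr e e)
    let Φ := (powEmbed (F := F) ψ).comp
      ((Matrix.symplecticGroup (Fin m) F).subtype.comp c |>.compLeft (Fin (n / m)))
    have hJ : Matrix.J (Fin n) F = Matrix.reindex ψ ψ (Matrix.fromBlocks
        (Matrix.blockDiagonal fun _ : Fin (n / m) => Matrix.J (Fin m) F) 0 0 (Matrix.J (Fin (n % m)) F)) := by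
      rw [eq_comm, ← Equiv.eq_symm_apply, Matrix.reindex_symm]
      ext x y
      rcases x with ⟨x | x, i⟩ | x | x <;> rcases y with ⟨y | y, j⟩ | y | y <;>
        simp [ψ, Matrix.J, Matrix.blockDiagonal_apply, Matrix.one_apply, Prod.ext_iff, ite_and] <;>
        split_ifs <;> simp_all
    have hmem : ∀ x, Φ x ∈ Matrix.symplecticGroup (Fin n) F := by
      intro x
      rw [SymplecticGroup.mem_iff, hJ]
      simp only [Φ, MonoidHom.coe_comp, Function.comp_apply, powEmbed_apply]
      rw [Matrix.transpose_reindex, Matrix.reindex_apply, Matrix.reindex_apply, Matrix.reindex_apply,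
        Matrix.submatrix_mul_equiv, Matrix.submatrix_mul_equiv]
      congr 1
      rw [Matrix.fromBlocks_transpose, Matrix.fromBlocks_multiply, Matrix.fromBlocks_multiply]
      simp only [Matrix.mul_zero, Matrix.zero_mul, add_zero, zero_add, Matrix.transpose_zero,
        Matrix.transpose_one, Matrix.mul_one, Matrix.one_mul, Matrix.blockDiagonal_transpose,
        ← Matrix.blockDiagonal_mul]
      congr 2
      funext i
      exact SymplecticGroup.mem_iff.1 (c (x i)).2
    refine ⟨Φ.codRestrict _ hmem, fun x y h => ?_⟩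
    have h1 := powEmbed_injective ψ (congrArg Subtype.val h)
    exact funext fun i => hc (Subtype.ext (congrFun h1 i))
  · rw [if_neg hev]
    obtain ⟨φ, hφ⟩ := exists_GL_hom (F := F) hrq n
    let Φ : (Fin (n / d) → Multiplicative (ZMod (r ^ v))) →* Matrix (Fin n ⊕ Fin n) (Fin n ⊕ Fin n) F :=
      { toFun := fun x => Matrix.fromBlocks (φ x : Matrix (Fin n) (Fin n) F) 0 0
          (((φ x)⁻¹ : GL (Fin n) F) : Matrix (Fin n) (Fin n) F).transpose
        map_one' := by simp [Matrix.fromBlocks_one]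
        map_mul' := fun x y => by
          rw [Matrix.fromBlocks_multiply]
          simp only [map_mul, _root_.mul_inv_rev, Units.val_mul, Matrix.transpose_mul, Matrix.mul_zero,
            Matrix.zero_mul, add_zero, zero_add] }
    have hmem : ∀ x, Φ x ∈ Matrix.symplecticGroup (Fin n) F := by
      intro x
      rw [SymplecticGroup.mem_iff]
      simp only [Φ, MonoidHom.coe_mk, OneHom.coe_mk]
      rw [Matrix.J, Matrix.fromBlocks_transpose, Matrix.fromBlocks_multiply, Matrix.fromBlocks_multiply]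
      simp [← Matrix.transpose_mul, ← Units.val_mul]
    refine ⟨Φ.codRestrict _ hmem, fun x y h => hφ (Units.ext ?_)⟩
    exact congrArg Matrix.toBlocks₁₁ (congrArg Subtype.val h)

end Cfsg.Agent.H66
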