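/-
Invariant bilinear and quadratic forms of unipotent Jordan matrices.
-/
import Cfsg.Agent.H66.Jordan
import Cfsg.Agent.H2.Basis

set_option autoImplicit false

open Matrix

namespace Cfsg.Agent.H66

variable {K : Type*} [Field K] {t : ℕ} {d : Fin t → ℕ}

/-- Matrix entries extended by zero. -/
def extEntry (M : Matrix ((k : Fin t) × Fin (d k)) ((k : Fin t) × Fin (d k)) K)
    (a : Fin t) (i : ℕ) (b : Fin t) (j : ℕ) : K :=
  if h : i < d a ∧ j < d b then M ⟨a, ⟨i, h.1⟩⟩ ⟨b, ⟨j, h.2⟩⟩ else 0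

theorem extEntry_of_lt (M : Matrix ((k : Fin t) × Fin (d k)) ((k : Fin t) × Fin (d k)) K)
    {a : Fin t} {i : ℕ} {b : Fin t} {j : ℕ} (hi : i < d a) (hj : j < d b) :
    extEntry M a i b j = M ⟨a, ⟨i, hi⟩⟩ ⟨b, ⟨j, hj⟩⟩ := dif_pos ⟨hi, hj⟩

theorem extEntry_coe (M : Matrix ((k : Fin t) × Fin (d k)) ((k : Fin t) × Fin (d k)) K)
    (x y : (k : Fin t) × Fin (d k)) : extEntry M x.1 x.2 y.1 y.2 = M x y :=
  extEntry_of_lt M x.2.2 y.2.2

theorem extEntry_transpose (M : Matrix ((k : Fin t) × Fin (d k)) ((k : Fin t) × Fin (d k)) K)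
    (a : Fin t) (i : ℕ) (b : Fin t) (j : ℕ) : extEntry M.transpose a i b j = extEntry M b j a i := by
  unfold extEntry
  split_ifs with h1 h2 h2
  · rfl
  · exact absurd h1.symm h2
  · exact absurd h2.symm h1
  · rfl

theorem mul_jordan_apply {κ : Type*} (M : Matrix κ ((k : Fin t) × Fin (d k)) K) (x : κ) (b : Fin t)
    (j : Fin (d b)) : (M * Cfsg.jordanTypeMatrix d K) x ⟨b, j⟩ =
      M x ⟨b, j⟩ + if h : (j : ℕ) + 1 < d b then M x ⟨b, ⟨(j : ℕ) + 1, h⟩⟩ else 0 := by
  classical
  set J := Cfsg.jordanTypeMatrix d K with hJ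
  have hN : ∀ w z, (J - 1) w z = if w.1 = z.1 ∧ (w.2 : ℕ) = (z.2 : ℕ) + 1 then (1 : K) else 0 := fun w z => by
    have := jordanTypeMatrix_sub_one_pow_apply (K := K) d 1 w z
    rwa [pow_one] at this
  have hdec : M * J = M + M * (J - 1) := by
    rw [Matrix.mul_sub, Matrix.mul_one]; abel
  rw [hdec, Matrix.add_apply]
  congr 1
  rw [Matrix.mul_apply]
  split_ifs with h
  · rw [Finset.sum_eq_single ⟨b, ⟨(j : ℕ) + 1, h⟩⟩]
    · rw [hN, if_pos ⟨rfl, rfl⟩, mul_one]
    · rintro ⟨l, c⟩ _ hne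
      rw [hN, if_neg, mul_zero]
      rintro ⟨h1, h2⟩
      cases h1
      exact hne (Sigma.ext rfl (heq_of_eq (Fin.ext h2)))
    · simp
  · refine Finset.sum_eq_zero fun z _ => ?_
    obtain ⟨l, c⟩ := z
    rw [hN, if_neg, mul_zero]
    rintro ⟨h1, h2⟩
    cases h1
    change (c : ℕ) = (j : ℕ) + 1 at h2
    exact h (h2 ▸ c.2)

theorem jordan_congr_apply (M : Matrix ((k : Fin t) × Fin (d k)) ((k : Fin t) × Fin (d k)) K)
    (a : Fin t) (i : Fin (d a)) (b : Fin t) (j : Fin (d b)) :
    ((Cfsg.jordanTypeMatrix d K).transpose * M * Cfsg.jordanTypeMatrix d K) ⟨a, i⟩ ⟨b, j⟩ =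
      extEntry M a i b j + extEntry M a (i + 1) b j + extEntry M a i b (j + 1) +
        extEntry M a (i + 1) b (j + 1) := by
  set J := Cfsg.jordanTypeMatrix d K with hJ
  rw [show J.transpose * M * J = (((M * J).transpose) * J).transpose by
    rw [Matrix.transpose_mul, Matrix.transpose_transpose, Matrix.mul_assoc]]
  rw [Matrix.transpose_apply, mul_jordan_apply, Matrix.transpose_apply, mul_jordan_apply]
  rw [extEntry_of_lt M i.2 j.2]
  by_cases hi : (i : ℕ) + 1 < d a
  · rw [dif_pos hi, Matrix.transpose_apply, mul_jordan_apply, extEntry_of_lt M hi j.2]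
    by_cases hj : (j : ℕ) + 1 < d b
    · rw [dif_pos hj, dif_pos hj, extEntry_of_lt M i.2 hj, extEntry_of_lt M hi hj]; ring
    · rw [dif_neg hj, dif_neg hj, extEntry, dif_neg (fun h => hj h.2), extEntry,
        dif_neg (fun h => hj h.2)]; ring
  · have h1 : extEntry M a ((i : ℕ) + 1) b j = 0 := dif_neg fun h => hi h.1
    have h2 : extEntry M a ((i : ℕ) + 1) b ((j : ℕ) + 1) = 0 := dif_neg fun h => hi h.1
    rw [dif_neg hi, h1, h2]
    by_cases hj : (j : ℕ) + 1 < d b
    · rw [dif_pos hj, extEntry_of_lt M i.2 hj]; ring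
    · rw [dif_neg hj, extEntry, dif_neg (fun h => hj h.2)]; ring

/-- The recursion satisfied by the entries of an invariant matrix. -/
def StepRel (M : Matrix ((k : Fin t) × Fin (d k)) ((k : Fin t) × Fin (d k)) K) : Prop :=
  ∀ a i b j, extEntry M a (i + 1) b j + extEntry M a i b (j + 1) + extEntry M a (i + 1) b (j + 1) = 0

theorem jordan_congr_eq_of_stepRel {M : Matrix ((k : Fin t) × Fin (d k)) ((k : Fin t) × Fin (d k)) K}
    (h : StepRel M) : (Cfsg.jordanTypeMatrix d K).transpose * M * Cfsg.jordanTypeMatrix d K = M := by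
  ext ⟨a, i⟩ ⟨b, j⟩
  rw [jordan_congr_apply]
  have h1 := h a i b j
  have h2 : extEntry M a i b j = M ⟨a, i⟩ ⟨b, j⟩ := extEntry_of_lt M i.2 j.2
  linear_combination h1 + h2

theorem stepRel_of_jordan_congr_eq {M : Matrix ((k : Fin t) × Fin (d k)) ((k : Fin t) × Fin (d k)) K}
    (h : (Cfsg.jordanTypeMatrix d K).transpose * M * Cfsg.jordanTypeMatrix d K = M) : StepRel M := by
  intro a i b j
  by_cases hij : i < d a ∧ j < d b
  · have h1 := congrFun (congrFun h ⟨a, ⟨i, hij.1⟩⟩) ⟨b, ⟨j, hij.2⟩⟩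
    rw [jordan_congr_apply] at h1
    have h2 : extEntry M a i b j = M ⟨a, ⟨i, hij.1⟩⟩ ⟨b, ⟨j, hij.2⟩⟩ := extEntry_of_lt M hij.1 hij.2
    simp only at h1
    linear_combination h1 - h2
  · rw [extEntry, dif_neg (fun h => hij ⟨by omega, h.2⟩), extEntry,
      dif_neg (fun h => hij ⟨h.1, by omega⟩), extEntry, dif_neg (fun h => hij ⟨by omega, by omega⟩)]
    ring

theorem StepRel.transpose {M : Matrix ((k : Fin t) × Fin (d k)) ((k : Fin t) × Fin (d k)) K}
    (h : StepRel M) : StepRel M.transpose := by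
  intro a i b j
  rw [extEntry_transpose, extEntry_transpose, extEntry_transpose]
  linear_combination h b j a i

theorem StepRel.eq_zero_left {M : Matrix ((k : Fin t) × Fin (d k)) ((k : Fin t) × Fin (d k)) K}
    (h : StepRel M) (a b : Fin t) : ∀ j i, d a ≤ i + j → extEntry M a i b j = 0 := by
  intro j
  induction j with
  | zero => exact fun i hi => dif_neg fun h' => by omega
  | succ j ih =>
    have key : ∀ s i, d a ≤ i + s → d a ≤ i + j + 1 → extEntry M a i b (j + 1) = 0 := by
      intro s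
      induction s with
      | zero => exact fun i hi _ => dif_neg fun h' => by omega
      | succ s ihs =>
        intro i hi hij
        have h1 := ih (i + 1) (by omega)
        have h2 := ihs (i + 1) (by omega) (by omega)
        linear_combination h a i b j - h1 - h2
    exact fun i hi => key (d a) i (by omega) (by omega)

theorem StepRel.eq_zero_right {M : Matrix ((k : Fin t) × Fin (d k)) ((k : Fin t) × Fin (d k)) K}
    (h : StepRel M) (a b : Fin t) (i j : ℕ) (hij : d b ≤ i + j) : extEntry M a i b j = 0 := by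
  rw [← extEntry_transpose]
  exact h.transpose.eq_zero_left b a i j (by omega)

theorem StepRel.antidiag {M : Matrix ((k : Fin t) × Fin (d k)) ((k : Fin t) × Fin (d k)) K}
    (h : StepRel M) (a b : Fin t) : ∀ j i, i + j + 1 = d a →
      extEntry M a i b j = (-1) ^ j * extEntry M a (d a - 1) b 0 := by
  intro j
  induction j with
  | zero => intro i hi; rw [pow_zero, one_mul, show d a - 1 = i by omega]
  | succ j ih =>
    intro i hi
    have h1 := ih (i + 1) (by omega)
    have h2 := h.eq_zero_left a b (j + 1) (i + 1) (by omega)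
    rw [pow_succ]
    linear_combination h a i b j - h1 - h2

/-- An alternating invertible matrix has even size. -/
theorem even_card_of_alternating {ι : Type*} [Fintype ι] [DecidableEq ι] (M : Matrix ι ι K)
    (hskew : M.transpose = -M) (hdiag : ∀ x, M x x = 0) (hdet : M.det ≠ 0) : Even (Fintype.card ι) := by
  have halt : (Matrix.toBilin' M).IsAlt := by
    intro v
    rw [Matrix.toBilin'_apply]
    classical
    let r := Fintype.equivFin ι
    have hxy : ∀ x y, M y x = -M x y := fun x y => congrFun (congrFun hskew x) y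
    rw [← Finset.sum_product', Finset.univ_product_univ]
    refine Finset.sum_involution (fun z _ => z.swap) (fun z _ => ?_) (fun z _ hz => ?_)
      (fun z _ => Finset.mem_univ _) fun z _ => Prod.swap_swap z
    · simp only [Prod.fst_swap, Prod.snd_swap]
      rw [hxy z.1 z.2]
      ring
    · intro he
      apply hz
      have hz1 : z.1 = z.2 := (congrArg Prod.fst he).symm
      rw [hz1, hdiag]
      ring
  obtain ⟨m, -, hm, -⟩ := H2.exists_equiv_std (Matrix.toBilin' M)
    (LinearMap.BilinForm.nondegenerate_toBilin'_of_det_ne_zero' _ hdet) halt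
  rw [Module.finrank_pi] at hm
  exact ⟨m, by omega⟩

/-- Parity forced by a non-degenerate invariant matrix. -/
theorem even_card_blocks_of_invariant {M : Matrix ((k : Fin t) × Fin (d k)) ((k : Fin t) × Fin (d k)) K}
    (hinv : (Cfsg.jordanTypeMatrix d K).transpose * M * Cfsg.jordanTypeMatrix d K = M)
    (hdet : M.det ≠ 0) (hd : ∀ k, 1 ≤ d k) {ε : K} (hsym : ∀ x y, M y x = ε * M x y) {s : ℕ}
    (hs : 1 ≤ s) (hε : (-1 : K) ^ (s - 1) * ε = -1)
    (hdiag : (2 : K) ≠ 0 ∨ (Odd s ∧ ∀ x, M x x = 0)) :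
    Even (Finset.univ.filter fun k : Fin t => d k = s).card := by
  classical
  have h := stepRel_of_jordan_congr_eq hinv
  have hext : ∀ a i b j, extEntry M b j a i = ε * extEntry M a i b j := by
    intro a i b j
    unfold extEntry
    split_ifs with h1 h2 h2
    · exact hsym _ _
    · exact absurd h1.symm h2
    · exact absurd h2.symm h1
    · rw [mul_zero]
  let W : Matrix (Fin t) (Fin t) K := fun b a => extEntry M a 0 b (d b - 1)
  have htri : W.BlockTriangular d := fun b a hlt => h.eq_zero_left a b _ _ (by omega)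
  have hW : W.det ≠ 0 := by
    rw [← Matrix.det_transpose]
    intro h0
    obtain ⟨c, hc, hc0⟩ := Matrix.exists_mulVec_eq_zero_iff.2 h0
    let v : ((k : Fin t) × Fin (d k)) → K := fun x => if (x.2 : ℕ) = d x.1 - 1 then c x.1 else 0
    have hv : M *ᵥ v = 0 := by
      funext x
      obtain ⟨a, i⟩ := x
      rw [Matrix.mulVec, dotProduct, Fintype.sum_sigma]
      have hterm : ∀ b, ∑ j : Fin (d b), M ⟨a, i⟩ ⟨b, j⟩ * v ⟨b, j⟩ = extEntry M a i b (d b - 1) * c b := by
        intro b
        have hb : d b - 1 < d b := by have := hd b; omega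
        rw [Finset.sum_eq_single ⟨d b - 1, hb⟩]
        · rw [extEntry_of_lt M i.2 hb]; simp [v]
        · intro j _ hj
          simp only [v]
          rw [if_neg (fun h' => hj (Fin.ext h')), mul_zero]
        · simp
      rw [Finset.sum_congr rfl fun b _ => hterm b]
      rcases Nat.eq_zero_or_pos (i : ℕ) with hi | hi
      · rw [hi]
        exact congrFun hc0 a
      · refine Finset.sum_eq_zero fun b _ => ?_
        rw [h.eq_zero_right a b _ _ (by omega), zero_mul]
    obtain ⟨a, ha⟩ := Function.ne_iff.1 hc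
    have := congrFun (Matrix.eq_zero_of_mulVec_eq_zero hdet hv) ⟨a, ⟨d a - 1, by have := hd a; omega⟩⟩
    simp only [v, if_pos, Pi.zero_apply] at this
    exact ha this
  rw [← Fintype.card_subtype]
  by_cases hmem : s ∈ Finset.univ.image d
  · refine even_card_of_alternating (W.toSquareBlock d s) ?_ ?_ ?_
    · ext ⟨a, ha⟩ ⟨b, hb⟩
      show extEntry M a 0 b (d b - 1) = -extEntry M b 0 a (d a - 1)
      rw [h.antidiag a b (d b - 1) 0 (by omega), hext b 0 a (d a - 1), hb, ha]
      linear_combination extEntry M b 0 a (s - 1) * hε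
    · rintro ⟨a, ha⟩
      show extEntry M a 0 a (d a - 1) = 0
      rcases hdiag with h2 | ⟨⟨k, hk⟩, h0⟩
      · have h1 := h.antidiag a a (d a - 1) 0 (by omega)
        rw [hext a 0 a (d a - 1), ha] at h1
        have h3 : (2 : K) * extEntry M a 0 a (d a - 1) = 0 := by
          rw [ha]; linear_combination h1 + extEntry M a 0 a (s - 1) * hε
        exact (mul_eq_zero.1 h3).resolve_left h2
      · have h1 := h.antidiag a a k k (by omega)
        rw [extEntry_of_lt M (by omega) (by omega), h0, eq_comm, mul_eq_zero,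
          or_iff_right (pow_ne_zero _ (by simp))] at h1
        rw [h.antidiag a a (d a - 1) 0 (by omega), h1, mul_zero]
    · rw [htri.det] at hW
      exact Finset.prod_ne_zero_iff.1 hW s hmem
  · have : IsEmpty {k : Fin t // d k = s} :=
      ⟨fun k => hmem (Finset.mem_image.2 ⟨k.1, Finset.mem_univ _, k.2⟩)⟩
    simp

/-- Binomial entries. -/
def binEntry (n : ℤ) (e i j : ℕ) : ℤ :=
  if i + j + 1 ≤ e then (-1) ^ j * Ring.choose (n - (j : ℤ)) (e - 1 - i - j) else 0

theorem binEntry_eq_zero (n : ℤ) (e i j : ℕ) (h : e ≤ i + j) : binEntry n e i j = 0 :=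
  if_neg (by omega)

theorem binEntry_antidiag (n : ℤ) (e i j : ℕ) (h : i + j + 1 = e) : binEntry n e i j = (-1) ^ j := by
  rw [binEntry, if_pos (by omega), show e - 1 - i - j = 0 by omega, Ring.choose_zero_right, mul_one]

theorem binEntry_step (n : ℤ) (e i j : ℕ) :
    binEntry n e (i + 1) j + binEntry n e i (j + 1) + binEntry n e (i + 1) (j + 1) = 0 := by
  rcases lt_trichotomy (i + j + 2) e with h | h | h
  · obtain ⟨m, hm⟩ : ∃ m, e = i + j + 3 + m := ⟨e - (i + j + 3), by omega⟩
    rw [binEntry, if_pos (by omega), binEntry, if_pos (by omega), binEntry, if_pos (by omega),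
      show e - 1 - (i + 1) - j = m + 1 by omega, show e - 1 - i - (j + 1) = m + 1 by omega,
      show e - 1 - (i + 1) - (j + 1) = m by omega,
      show n - (j : ℤ) = (n - ((j + 1 : ℕ) : ℤ)) + 1 by push_cast; ring, Ring.choose_succ_succ, pow_succ]
    ring
  · rw [binEntry_eq_zero n e (i + 1) (j + 1) (by omega), binEntry_antidiag n e (i + 1) j (by omega),
      binEntry_antidiag n e i (j + 1) (by omega), pow_succ]
    ring
  · rw [binEntry_eq_zero n e (i + 1) (j + 1) (by omega), binEntry_eq_zero n e (i + 1) j (by omega),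
      binEntry_eq_zero n e i (j + 1) (by omega)]
    ring

theorem binEntry_swap (n : ℤ) (e i j : ℕ) :
    binEntry n e j i = (-1) ^ (e + 1) * binEntry ((e : ℤ) - 2 - n) e i j := by
  by_cases h : i + j + 1 ≤ e
  · obtain ⟨m, hm⟩ : ∃ m, e = i + j + 1 + m := ⟨e - (i + j + 1), by omega⟩
    rw [binEntry, if_pos (by omega), binEntry, if_pos h, show e - 1 - j - i = m by omega,
      show e - 1 - i - j = m by omega, show n - (i : ℤ) = -((i : ℤ) - n) by ring, Ring.choose_neg,
      show (i : ℤ) - n + (m : ℤ) - 1 = (e : ℤ) - 2 - n - (j : ℤ) by rw [hm]; push_cast; ring,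
      Units.smul_def, Int.coe_negOnePow_natCast, smul_eq_mul, ← mul_assoc, ← mul_assoc, ← pow_add, ← pow_add]
    congr 1
    exact neg_one_pow_congr (by simp only [Nat.even_iff]; omega)
  · rw [binEntry_eq_zero n e j i (by omega), binEntry_eq_zero _ e i j (by omega), mul_zero]

/-- A pairing of the blocks of the sizes in `bad`. -/
theorem exists_block_pairing (d : Fin t → ℕ) (bad : ℕ → Prop)
    (h : ∀ s, bad s → Even (Finset.univ.filter fun k : Fin t => d k = s).card) :
    ∃ π : Fin t → Fin t, (∀ a, π (π a) = a) ∧ (∀ a, d (π a) = d a) ∧ (∀ a, π a = a → ¬ bad (d a)) := by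
  classical
  have hσ : ∀ s, ∃ σ : {k : Fin t // d k = s} → {k : Fin t // d k = s},
      (∀ a, σ (σ a) = a) ∧ (bad s → ∀ a, σ a ≠ a) := by
    intro s
    by_cases hb : bad s
    · obtain ⟨m, hm⟩ := h s hb
      obtain ⟨E⟩ : Nonempty ({k : Fin t // d k = s} ≃ Fin m ⊕ Fin m) :=
        ⟨Fintype.equivOfCardEq (by rw [Fintype.card_subtype, hm, Fintype.card_sum, Fintype.card_fin])⟩
      refine ⟨fun a => E.symm (E a).swap, fun a => by simp, fun _ a he => ?_⟩
      have := congrArg E he
      rw [E.apply_symm_apply] at this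
      rcases hEa : E a with x | x <;> rw [hEa] at this <;> simp at this
    · exact ⟨id, fun a => rfl, fun hb' => absurd hb' hb⟩
  choose σ hσ1 hσ2 using hσ
  let f : ℕ → Fin t → Fin t := fun s a => if ha : d a = s then (σ s ⟨a, ha⟩).1 else a
  have hf : ∀ a, f (d a) a = (σ (d a) ⟨a, rfl⟩).1 := fun a => dif_pos rfl
  have hfd : ∀ a, d (f (d a) a) = d a := fun a => by rw [hf]; exact (σ (d a) ⟨a, rfl⟩).2
  refine ⟨fun a => f (d a) a, fun a => ?_, hfd, fun a he hb => ?_⟩
  · show f (d (f (d a) a)) (f (d a) a) = a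
    rw [hfd]
    conv_lhs => rw [hf a]
    show (if ha : d (σ (d a) ⟨a, rfl⟩).1 = d a then _ else _) = a
    rw [dif_pos (σ (d a) ⟨a, rfl⟩).2]
    exact congrArg Subtype.val (hσ1 _ _)
  · exact hσ2 (d a) hb ⟨a, rfl⟩ (Subtype.ext ((hf a).symm.trans he))

/-- Existence of non-degenerate invariant matrices. -/
theorem exists_invariant_matrix (d : Fin t → ℕ) (π : Fin t → Fin t) (hππ : ∀ a, π (π a) = a)
    (hπd : ∀ a, d (π a) = d a) {ε : K} (hεε : ε * ε = 1)
    (hfix : ∀ a, π a = a → (ε = -1 ∧ Even (d a)) ∨ (ε = 1 ∧ Odd (d a) ∧ (2 : K) ≠ 0)) :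
    ∃ M : Matrix ((k : Fin t) × Fin (d k)) ((k : Fin t) × Fin (d k)) K, M.det ≠ 0 ∧
      (∀ x y, M y x = ε * M x y) ∧
      (Cfsg.jordanTypeMatrix d K).transpose * M * Cfsg.jordanTypeMatrix d K = M ∧
      (ε = -1 → ∀ x, M x x = 0) := by
  classical
  have h2 : ∀ a, π a = a → ¬ Even (d a) → (2 : K) ≠ 0 := fun a ha he => by
    rcases hfix a ha with h | h
    · exact absurd h.2 he
    · exact h.2.2
  let fe : Fin t → ℕ → ℕ → ℤ := fun a i j =>
    if Even (d a) then binEntry (((d a / 2 : ℕ) : ℤ) - 1) (d a) i j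
    else binEntry ((d a / 2 : ℕ) : ℤ) (d a) i j + binEntry (((d a / 2 : ℕ) : ℤ) - 1) (d a) i j
  let C : Fin t → ℕ → ℕ → K := fun a i j =>
    if π a = a then (fe a i j : K)
    else if a < π a then (binEntry 0 (d a) i j : K) else ε * (binEntry 0 (d a) j i : K)
  have hC0 : ∀ a i j, d a ≤ i + j → C a i j = 0 := fun a i j hij => by
    simp only [C, fe]
    split_ifs <;> simp [binEntry_eq_zero _ _ i j hij, binEntry_eq_zero _ _ j i (by omega : d a ≤ j + i)]
  have hCstep : ∀ a i j, C a (i + 1) j + C a i (j + 1) + C a (i + 1) (j + 1) = 0 := fun a i j => by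
    simp only [C, fe]
    split_ifs
    · have h1 := congrArg (fun z : ℤ => (z : K)) (binEntry_step (((d a / 2 : ℕ) : ℤ) - 1) (d a) i j)
      push_cast at h1 ⊢
      linear_combination h1
    · have h1 := binEntry_step ((d a / 2 : ℕ) : ℤ) (d a) i j
      have h1' := binEntry_step (((d a / 2 : ℕ) : ℤ) - 1) (d a) i j
      have h1K := congrArg (fun z : ℤ => (z : K)) h1
      have h1K' := congrArg (fun z : ℤ => (z : K)) h1'
      push_cast at h1K h1K' ⊢
      linear_combination h1K + h1K'
    · have h1 := congrArg (fun z : ℤ => (z : K)) (binEntry_step 0 (d a) i j)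
      push_cast at h1 ⊢
      linear_combination h1
    · have h1 := congrArg (fun z : ℤ => (z : K)) (binEntry_step 0 (d a) j i)
      push_cast at h1
      linear_combination ε * h1
  have hCsym : ∀ a i j, C (π a) j i = ε * C a i j := fun a i j => by
    by_cases ha : π a = a
    · simp only [C, fe, ha, if_true]
      rcases hfix a ha with ⟨hε, hev⟩ | ⟨hε, hod, -⟩
      · rw [if_pos hev, if_pos hev, binEntry_swap, hε]
        obtain ⟨k, hk⟩ := hev
        rw [show ((d a : ℤ) - 2 - (((d a / 2 : ℕ) : ℤ) - 1)) = ((d a / 2 : ℕ) : ℤ) - 1 by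
          rw [hk, show (k + k) / 2 = k by omega]; push_cast; ring]
        rw [Odd.neg_one_pow ⟨k, by omega⟩]
        push_cast; ring
      · rw [if_neg (Nat.not_even_iff_odd.2 hod), if_neg (Nat.not_even_iff_odd.2 hod), binEntry_swap,
          binEntry_swap (((d a / 2 : ℕ) : ℤ) - 1), hε]
        obtain ⟨k, hk⟩ := hod
        rw [show ((d a : ℤ) - 2 - ((d a / 2 : ℕ) : ℤ)) = ((d a / 2 : ℕ) : ℤ) - 1 by
          rw [hk, show (2 * k + 1) / 2 = k by omega]; push_cast; ring,
          show ((d a : ℤ) - 2 - (((d a / 2 : ℕ) : ℤ) - 1)) = ((d a / 2 : ℕ) : ℤ) by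
          rw [hk, show (2 * k + 1) / 2 = k by omega]; push_cast; ring]
        rw [Even.neg_one_pow ⟨k + 1, by omega⟩]
        push_cast; ring
    · simp only [C, hππ, hπd, Ne.symm ha, ha, if_false]
      rcases lt_or_gt_of_ne ha with h | h
      · rw [if_pos h, if_neg (not_lt.2 h.le), ← mul_assoc, hεε, one_mul]
      · rw [if_neg (not_lt.2 h.le), if_pos h]
  have hCne : ∀ a i j, i + j + 1 = d a → C a i j ≠ 0 := fun a i j hij => by
    have hε0 : ε ≠ 0 := left_ne_zero_of_mul_eq_one hεε
    have hu : ∀ m : ℕ, ((((-1 : ℤ)) ^ m : ℤ) : K) ≠ 0 := fun m => by simp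
    simp only [C, fe]
    split_ifs with ha he hlt
    · rw [binEntry_antidiag _ _ i j hij]; exact hu j
    · rw [binEntry_antidiag _ _ i j hij, binEntry_antidiag _ _ i j hij, ← two_mul]
      push_cast
      exact mul_ne_zero (h2 a ha he) (pow_ne_zero _ (by simp))
    · rw [binEntry_antidiag _ _ i j hij]; exact hu j
    · rw [binEntry_antidiag _ _ j i (by omega)]; exact mul_ne_zero hε0 (hu i)
  let M : Matrix ((k : Fin t) × Fin (d k)) ((k : Fin t) × Fin (d k)) K :=
    fun x y => if y.1 = π x.1 then C x.1 x.2 y.2 else 0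
  have hext : ∀ a i b j, extEntry M a i b j = if b = π a then C a i j else 0 := by
    intro a i b j
    by_cases h : i < d a ∧ j < d b
    · rw [extEntry_of_lt M h.1 h.2]
    · rw [extEntry, dif_neg h]
      split_ifs with hb
      · subst hb
        rw [hπd] at h
        exact (hC0 a i j (by omega)).symm
      · rfl
  refine ⟨M, ?_, ?_, jordan_congr_eq_of_stepRel ?_, ?_⟩
  · intro h0
    obtain ⟨v, hv, hv0⟩ := Matrix.exists_mulVec_eq_zero_iff.2 h0
    apply hv
    have key : ∀ j b, ∀ hj : j < d b, v ⟨b, ⟨j, hj⟩⟩ = 0 := by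
      intro j
      induction j using Nat.strong_induction_on with
      | _ j ih =>
        intro b hj
        have hi : d b - 1 - j < d (π b) := by rw [hπd]; omega
        have h1 := congrFun hv0 ⟨π b, ⟨d b - 1 - j, hi⟩⟩
        rw [Matrix.mulVec, dotProduct, Finset.sum_eq_single ⟨b, ⟨j, hj⟩⟩] at h1
        · simp only [M, hππ, if_true, Pi.zero_apply, mul_eq_zero] at h1
          exact h1.resolve_left (hCne _ _ _ (by rw [hπd]; omega))
        · rintro ⟨c, l⟩ _ hne
          simp only [M, hππ]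
          split_ifs with hc
          · subst hc
            rcases lt_trichotomy (l : ℕ) j with hl | hl | hl
            · rw [show v ⟨c, l⟩ = 0 from ih l hl c l.2, mul_zero]
            · exact absurd (show (⟨c, l⟩ : (k : Fin t) × Fin (d k)) = ⟨c, ⟨j, hj⟩⟩ from Sigma.ext rfl (heq_of_eq (Fin.ext hl))) hne
            · rw [hC0 _ _ _ (by rw [hπd]; omega), zero_mul]
          · rw [zero_mul]
        · simp
    funext x
    exact key x.2 x.1 x.2.2
  · rintro ⟨a, i⟩ ⟨b, j⟩
    simp only [M]
    split_ifs with h1 h2 h2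
    · subst h2; exact hCsym a i j
    · exact absurd (by rw [h1, hππ]) h2
    · exact absurd (by rw [h2, hππ]) h1
    · rw [mul_zero]
  · intro a i b j
    rw [hext, hext, hext]
    split_ifs
    · exact hCstep a i j
    · simp
  · intro hε x
    simp only [M]
    split_ifs with hx
    · simp only [C, fe, if_pos hx.symm]
      rcases hfix x.1 hx.symm with ⟨-, hev⟩ | ⟨hε1, -, h2'⟩
      · rw [if_pos hev]
        have h0 : binEntry (((d x.1 / 2 : ℕ) : ℤ) - 1) (d x.1) x.2 x.2 = 0 := by
          have := binEntry_swap (((d x.1 / 2 : ℕ) : ℤ) - 1) (d x.1) x.2 x.2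
          obtain ⟨k, hk⟩ := hev
          rw [show ((d x.1 : ℤ) - 2 - (((d x.1 / 2 : ℕ) : ℤ) - 1)) = ((d x.1 / 2 : ℕ) : ℤ) - 1 by
            rw [hk, show (k + k) / 2 = k by omega]; push_cast; ring, Odd.neg_one_pow ⟨k, by omega⟩] at this
          omega
        rw [h0, Int.cast_zero]
      · exact absurd (by linear_combination hε1.symm.trans hε : (2 : K) = 0) h2'
    · rfl

/-- Existence of invariant quadratic forms with prescribed polar matrix. -/
theorem exists_invariant_quad (M : Matrix ((k : Fin t) × Fin (d k)) ((k : Fin t) × Fin (d k)) K)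
    (hsym : ∀ x y, M y x = M x y)
    (hinv : (Cfsg.jordanTypeMatrix d K).transpose * M * Cfsg.jordanTypeMatrix d K = M)
    (halt : (2 : K) = 0 → ∀ x, M x x = 0) :
    ∃ U : Matrix ((k : Fin t) × Fin (d k)) ((k : Fin t) × Fin (d k)) K, U + U.transpose = M ∧
      ∀ v, (Cfsg.jordanTypeMatrix d K *ᵥ v) ⬝ᵥ (U *ᵥ (Cfsg.jordanTypeMatrix d K *ᵥ v)) = v ⬝ᵥ (U *ᵥ v) := by
  classical
  have hmv : ∀ (A : Matrix ((k : Fin t) × Fin (d k)) ((k : Fin t) × Fin (d k)) K) v,
      (Cfsg.jordanTypeMatrix d K *ᵥ v) ⬝ᵥ (A *ᵥ (Cfsg.jordanTypeMatrix d K *ᵥ v)) =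
        v ⬝ᵥ (((Cfsg.jordanTypeMatrix d K).transpose * A * Cfsg.jordanTypeMatrix d K) *ᵥ v) := fun A v => by
    rw [← Matrix.mulVec_mulVec, ← Matrix.mulVec_mulVec, Matrix.dotProduct_mulVec v, Matrix.vecMul_transpose]
  by_cases h2 : (2 : K) = 0
  swap
  · refine ⟨(2 : K)⁻¹ • M, ?_, fun v => ?_⟩
    · ext x y
      simp only [Matrix.add_apply, Matrix.transpose_apply, Matrix.smul_apply, smul_eq_mul, hsym x y]
      field_simp
      ring
    · rw [hmv, Matrix.mul_smul, Matrix.smul_mul, hinv]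
  · let r := Fintype.equivFin ((k : Fin t) × Fin (d k))
    let qv : ((k : Fin t) × Fin (d k)) → K := fun x =>
      if 0 < (x.2 : ℕ) then extEntry M x.1 ((x.2 : ℕ) - 1) x.1 x.2 else 0
    let U : Matrix ((k : Fin t) × Fin (d k)) ((k : Fin t) × Fin (d k)) K := fun x y =>
      if x = y then qv x else if r x < r y then M x y else 0
    have hUU : U + U.transpose = M := by
      ext x y
      rw [Matrix.add_apply, Matrix.transpose_apply]
      simp only [U]
      by_cases hxy : x = y
      · subst hxy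
        rw [if_pos rfl, halt h2, ← two_mul, h2, zero_mul]
      · rw [if_neg hxy, if_neg (Ne.symm hxy)]
        rcases lt_or_gt_of_ne (fun h => hxy (r.injective h)) with h | h
        · rw [if_pos h, if_neg (not_lt.2 h.le), add_zero]
        · rw [if_neg (not_lt.2 h.le), if_pos h, zero_add, hsym]
    refine ⟨U, hUU, fun v => ?_⟩
    rw [hmv]
    set D := (Cfsg.jordanTypeMatrix d K).transpose * U * Cfsg.jordanTypeMatrix d K - U with hD
    have hDsym : ∀ x y, D x y + D y x = 0 := by
      intro x y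
      have h1 : D + D.transpose = 0 := by
        rw [hD, Matrix.transpose_sub, Matrix.transpose_mul, Matrix.transpose_mul, Matrix.transpose_transpose,
          ← Matrix.mul_assoc, sub_add_sub_comm, ← Matrix.add_mul, ← Matrix.mul_add, hUU, hinv, sub_self]
      exact congrFun (congrFun h1 x) y
    have hDdiag : ∀ x, D x x = 0 := by
      rintro ⟨a, i⟩
      rw [hD, Matrix.sub_apply, jordan_congr_apply, extEntry_of_lt U i.2 i.2]
      by_cases hi : (i : ℕ) + 1 < d a
      · rw [extEntry_of_lt U hi i.2, extEntry_of_lt U i.2 hi, extEntry_of_lt U hi hi]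
        have hne : (⟨a, ⟨(i : ℕ) + 1, hi⟩⟩ : (k : Fin t) × Fin (d k)) ≠ ⟨a, i⟩ := fun h => by
          have := congrArg (fun z : (k : Fin t) × Fin (d k) => (z.2 : ℕ)) h
          simp only at this
          omega
        have h1 := congrFun (congrFun hUU ⟨a, i⟩) ⟨a, ⟨(i : ℕ) + 1, hi⟩⟩
        have h3 : U ⟨a, ⟨(i : ℕ) + 1, hi⟩⟩ ⟨a, ⟨(i : ℕ) + 1, hi⟩⟩ = M ⟨a, i⟩ ⟨a, ⟨(i : ℕ) + 1, hi⟩⟩ := by
          simp only [U, qv, if_pos, Nat.succ_pos, Nat.add_sub_cancel]
          rw [extEntry_of_lt M i.2 hi]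
        simp only [Matrix.add_apply, Matrix.transpose_apply, Fin.eta] at h1 ⊢
        linear_combination h1 + h3 + M ⟨a, i⟩ ⟨a, ⟨(i : ℕ) + 1, hi⟩⟩ * h2
      · have hz : ∀ p q, (p = (i : ℕ) + 1 ∨ q = (i : ℕ) + 1) → extEntry U a p a q = 0 :=
          fun p q h => dif_neg fun h' => by omega
        rw [hz _ _ (Or.inl rfl), hz _ _ (Or.inr rfl), hz _ _ (Or.inl rfl)]
        simp
    have hzero : v ⬝ᵥ (D *ᵥ v) = 0 := by
      simp only [dotProduct, Matrix.mulVec, Finset.mul_sum]
      rw [← Finset.sum_product', Finset.univ_product_univ]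
      refine Finset.sum_involution (fun z _ => z.swap) (fun z _ => ?_) (fun z _ hz => ?_)
        (fun z _ => Finset.mem_univ _) fun z _ => Prod.swap_swap z
      · simp only [Prod.fst_swap, Prod.snd_swap]
        linear_combination v z.1 * v z.2 * hDsym z.1 z.2
      · intro he
        apply hz
        have hz1 : z.1 = z.2 := (congrArg Prod.fst he).symm
        rw [hz1, hDdiag]
        ring
    rw [hD, Matrix.sub_mulVec, dotProduct_sub, sub_eq_zero] at hzero
    exact hzero

end Cfsg.Agent.H66
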