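/-
Jordan types in symplectic and orthogonal groups.
-/
import Cfsg.Agent.H66.JordanForms
import Cfsg.Prelude.Def_Classical

set_option autoImplicit false

open Matrix

namespace Cfsg.Agent.H66

variable {K : Type*} [Field K] {t : ℕ} {d : Fin t → ℕ}

/-- A similarity to a reindexed Jordan matrix as an equivalence of spaces. -/
theorem exists_jordan_transport {n : Type*} [Fintype n] [DecidableEq n]
    (e : ((k : Fin t) × Fin (d k)) ≃ n) {A : Matrix n n K}
    (h : IsConj (Matrix.reindex e e (Cfsg.jordanTypeMatrix d K)) A) :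
    ∃ φ : (((k : Fin t) × Fin (d k)) → K) ≃ₗ[K] (n → K),
      ∀ v, φ (Cfsg.jordanTypeMatrix d K *ᵥ v) = A *ᵥ φ v := by
  obtain ⟨L, hL⟩ := exists_equiv_of_isConj h
  refine ⟨(LinearEquiv.funCongrLeft K K e.symm).trans L, fun v => ?_⟩
  have h1 := hL (LinearEquiv.funCongrLeft K K e.symm v)
  rw [Matrix.reindex_apply, Matrix.submatrix_mulVec_equiv] at h1
  have h2 : (LinearEquiv.funCongrLeft K K e.symm v : n → K) ∘ ⇑e.symm.symm = v := by
    funext x; simp [LinearEquiv.funCongrLeft_apply, LinearMap.funLeft_apply]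
  rw [h2] at h1
  exact h1

/-- The Gram matrix pulled back to the Jordan basis. -/
theorem exists_invariant_of_isometry {n : Type*} [Fintype n] [DecidableEq n]
    (G : LinearMap.BilinForm K (n → K)) (hG : G.Nondegenerate) {ε : K}
    (hsym : ∀ u v, G v u = ε * G u v) {A : Matrix n n K} (hA : ∀ u v, G (A *ᵥ u) (A *ᵥ v) = G u v)
    (e : ((k : Fin t) × Fin (d k)) ≃ n) (h : IsConj (Matrix.reindex e e (Cfsg.jordanTypeMatrix d K)) A) :
    ∃ M : Matrix ((k : Fin t) × Fin (d k)) ((k : Fin t) × Fin (d k)) K, M.det ≠ 0 ∧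
      (Cfsg.jordanTypeMatrix d K).transpose * M * Cfsg.jordanTypeMatrix d K = M ∧
      (∀ x y, M y x = ε * M x y) ∧ ((∀ u, G u u = 0) → ∀ x, M x x = 0) := by
  obtain ⟨φ, hφ⟩ := exists_jordan_transport e h
  let M : Matrix ((k : Fin t) × Fin (d k)) ((k : Fin t) × Fin (d k)) K :=
    fun x y => G (φ (Pi.single x 1)) (φ (Pi.single y 1))
  have hM : Matrix.toBilin' M = G.compl₁₂ φ.toLinearMap φ.toLinearMap :=
    (Pi.basisFun K _).ext fun x => (Pi.basisFun K _).ext fun y => by
      rw [Pi.basisFun_apply, Pi.basisFun_apply, Matrix.toBilin'_single]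
      rfl
  have hMv : ∀ u v, u ⬝ᵥ (M *ᵥ v) = G (φ u) (φ v) := fun u v => by
    rw [← Matrix.toBilin'_apply', hM]; rfl
  refine ⟨M, ?_, ?_, fun x y => hsym _ _, fun h0 x => h0 _⟩
  · intro h0
    obtain ⟨v, hv, hv0⟩ := Matrix.exists_mulVec_eq_zero_iff.2 h0
    refine hv (φ.map_eq_zero_iff.1 (hG.2 _ fun u => ?_))
    rw [← φ.apply_symm_apply u, ← hMv, hv0, dotProduct_zero]
  · ext x y
    have h1 := hA (φ (Pi.single x 1)) (φ (Pi.single y 1))
    rw [← hφ, ← hφ, ← hMv, ← hMv, Matrix.mulVec_mulVec, Matrix.dotProduct_mulVec, Matrix.vecMul_mulVec,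
      ← Matrix.dotProduct_mulVec, ← Matrix.mul_assoc] at h1
    simpa [Matrix.mulVec_single_one] using h1

/-- Jordan types in the symplectic group. -/
theorem sp_jordan_iff {m : ℕ} (d : Fin t → ℕ) (hd : ∀ k, 1 ≤ d k) (hsum : ∑ k, d k = 2 * m) :
    (∃ e : ((k : Fin t) × Fin (d k)) ≃ (Fin m ⊕ Fin m), ∃ A : Matrix.symplecticGroup (Fin m) K,
      IsConj (Matrix.reindex e e (Cfsg.jordanTypeMatrix d K)) (A : Matrix (Fin m ⊕ Fin m) (Fin m ⊕ Fin m) K)) ↔
      ∀ j : ℕ, Odd j → Even (Finset.univ.filter (fun k : Fin t => d k = j)).card := by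
  classical
  constructor
  · rintro ⟨e, A, hA⟩ j hj
    obtain ⟨M, hdet, hinv, hsym, hdiag⟩ := exists_invariant_of_isometry (H2.sympBilin m K)
      (H2.sympBilin_nondegenerate m K) (ε := -1)
      (fun u v => by rw [neg_one_mul, ← LinearMap.BilinForm.IsAlt.neg_eq (H2.sympBilin_isAlt m K) u v])
      (fun u v => by
        have h := (H2.spEquivIsometries m K A).2 u v
        rwa [H2.spEquivIsometries_apply, H2.spEquivIsometries_apply] at h) e hA
    refine even_card_blocks_of_invariant hinv hdet hd hsym hj.pos ?_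
      (Or.inr ⟨hj, hdiag fun u => H2.sympBilin_isAlt m K u⟩)
    obtain ⟨k, hk⟩ := hj
    rw [hk, Nat.add_sub_cancel, Even.neg_one_pow ⟨k, by omega⟩, one_mul]
  · intro h
    obtain ⟨π, hππ, hπd, hfix⟩ := exists_block_pairing d Odd h
    obtain ⟨M, hdet, hsym, hinv, hdiag⟩ := exists_invariant_matrix d π hππ hπd (ε := (-1 : K)) (by simp)
      fun a ha => Or.inl ⟨rfl, Nat.not_odd_iff_even.1 (hfix a ha)⟩
    have hskew : M.transpose = -M := by
      ext x y
      rw [Matrix.transpose_apply, Matrix.neg_apply, hsym, neg_one_mul]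
    have halt : (Matrix.toBilin' M).IsAlt := by
      intro v
      rw [Matrix.toBilin'_apply, ← Finset.sum_product', Finset.univ_product_univ]
      refine Finset.sum_involution (fun z _ => z.swap) (fun z _ => ?_) (fun z _ hz => ?_)
        (fun z _ => Finset.mem_univ _) fun z _ => Prod.swap_swap z
      · simp only [Prod.fst_swap, Prod.snd_swap]
        rw [hsym z.1 z.2]
        ring
      · intro he
        apply hz
        have hz1 : z.1 = z.2 := (congrArg Prod.fst he).symm
        rw [hz1, hdiag rfl]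
        ring
    obtain ⟨m', E, hm', hE⟩ := H2.exists_equiv_std (Matrix.toBilin' M)
      (LinearMap.BilinForm.nondegenerate_toBilin'_of_det_ne_zero' _ hdet) halt
    obtain rfl : m' = m := by
      rw [Module.finrank_pi, Fintype.card_sigma] at hm'
      simp only [Fintype.card_fin] at hm'
      omega
    set J := Cfsg.jordanTypeMatrix d K with hJ
    have hJinv : ∀ u v, Matrix.toBilin' M (J *ᵥ u) (J *ᵥ v) = Matrix.toBilin' M u v := fun u v => by
      rw [Matrix.toBilin'_apply', Matrix.toBilin'_apply', Matrix.mulVec_mulVec, Matrix.dotProduct_mulVec,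
        Matrix.vecMul_mulVec, ← Matrix.dotProduct_mulVec, ← Matrix.mul_assoc, hinv]
    have hinj : Function.Injective (Matrix.toLin' J) := by
      rw [injective_iff_map_eq_zero]
      intro u hu
      refine (LinearMap.BilinForm.nondegenerate_toBilin'_of_det_ne_zero' M hdet).1 u fun v => ?_
      rw [← hJinv, ← Matrix.toLin'_apply J u, hu, map_zero, LinearMap.zero_apply]
    let G := (E.symm.trans (LinearEquiv.ofInjectiveEndo (Matrix.toLin' J) hinj)).trans E
    have hGa : ∀ z, G z = E (J *ᵥ E.symm z) := fun z => by simp [G]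
    have hG : ∀ x y, H2.sympBilin m' K (G x) (G y) = H2.sympBilin m' K x y := fun x y => by
      rw [H2.sympBilin_apply, H2.sympBilin_apply, hGa, hGa, hE, hJinv, ← hE, E.apply_symm_apply,
        E.apply_symm_apply]
    obtain ⟨g, hg⟩ := (H2.spEquivIsometries m' K).surjective ⟨G, hG⟩
    obtain ⟨e⟩ : Nonempty (((k : Fin t) × Fin (d k)) ≃ (Fin m' ⊕ Fin m')) :=
      ⟨Fintype.equivOfCardEq (by simp [Fintype.card_sigma, hsum]; omega)⟩
    refine ⟨e, g, isConj_of_equiv ((LinearEquiv.funCongrLeft K K e).trans E) fun v => ?_⟩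
    rw [← H2.spEquivIsometries_apply, hg]
    show E (LinearEquiv.funCongrLeft K K e (Matrix.reindex e e J *ᵥ v)) = G (E (LinearEquiv.funCongrLeft K K e v))
    rw [hGa, E.symm_apply_apply, Matrix.reindex_apply, Matrix.submatrix_mulVec_equiv]
    have hw : ∀ w : Fin m' ⊕ Fin m' → K, LinearEquiv.funCongrLeft K K e w = w ∘ e := fun w => rfl
    rw [hw, hw, Equiv.symm_symm, Function.comp_assoc, Equiv.symm_comp_self, Function.comp_id]

/-- Existence part for orthogonal groups. -/
theorem exists_orth_jordan {n : ℕ} (d : Fin t → ℕ) (hsum : ∑ k, d k = n)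
    (M : Matrix ((k : Fin t) × Fin (d k)) ((k : Fin t) × Fin (d k)) K) (hdet : M.det ≠ 0)
    (hsym : ∀ x y, M y x = M x y)
    (hinv : (Cfsg.jordanTypeMatrix d K).transpose * M * Cfsg.jordanTypeMatrix d K = M)
    (halt : (2 : K) = 0 → ∀ x, M x x = 0) :
    ∃ Q : QuadraticForm K (Fin n → K), (QuadraticMap.polarBilin Q).Nondegenerate ∧
      ∃ e : ((k : Fin t) × Fin (d k)) ≃ Fin n, ∃ A : ↥(Cfsg.isometryGroup K ⇑Q),
        IsConj (Matrix.reindex e e (Cfsg.jordanTypeMatrix d K))
          ((A : Matrix.GeneralLinearGroup (Fin n) K) : Matrix (Fin n) (Fin n) K) := by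
  classical
  obtain ⟨U, hU, hQ⟩ := exists_invariant_quad M hsym hinv halt
  set J := Cfsg.jordanTypeMatrix d K with hJ
  obtain ⟨e⟩ : Nonempty (((k : Fin t) × Fin (d k)) ≃ Fin n) :=
    ⟨Fintype.equivOfCardEq (by simp [Fintype.card_sigma, hsum])⟩
  let U' := Matrix.reindex e e U
  let Q : QuadraticForm K (Fin n → K) := LinearMap.BilinMap.toQuadraticMap (Matrix.toBilin' U')
  have hQv : ∀ v : Fin n → K, Q v = (v ∘ e) ⬝ᵥ (U *ᵥ (v ∘ e)) := fun v => by
    show Matrix.toBilin' U' v v = _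
    simp only [U', Matrix.reindex_apply]
    rw [Matrix.toBilin'_apply', Matrix.submatrix_mulVec_equiv, Equiv.symm_symm,
      ← dotProduct_comp_equiv_symm]
  have hJv : ∀ v : Fin n → K, (Matrix.reindex e e J *ᵥ v) ∘ e = J *ᵥ (v ∘ e) := fun v => by
    rw [Matrix.reindex_apply, Matrix.submatrix_mulVec_equiv, Equiv.symm_symm]
    funext x
    simp
  have hJdet : (Matrix.reindex e e J).det ≠ 0 := by
    rw [Matrix.det_reindex_self]
    intro h0
    have := congrArg Matrix.det hinv
    rw [Matrix.det_mul, Matrix.det_mul, h0] at this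
    exact hdet (by rw [← this, mul_zero])
  refine ⟨Q, ?_, e, ⟨GeneralLinearGroup.mkOfDetNeZero _ hJdet, fun u _ => ?_⟩, IsConj.refl _⟩
  · have h1 : QuadraticMap.polarBilin Q = Matrix.toBilin' (Matrix.reindex e e M) := by
      show QuadraticMap.polarBilin (LinearMap.BilinMap.toQuadraticMap (Matrix.toBilin' U')) = _
      rw [LinearMap.BilinMap.polarBilin_toQuadraticMap]
      refine (Pi.basisFun K _).ext fun x => (Pi.basisFun K _).ext fun y => ?_
      simp [U', ← hU, Matrix.toBilin'_single]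
    rw [h1]
    exact LinearMap.BilinForm.nondegenerate_toBilin'_of_det_ne_zero' _ (by rwa [Matrix.det_reindex_self])
  · show Q (Matrix.reindex e e J *ᵥ u) = Q u
    rw [hQv, hQv, hJv, hQ]

/-- The polar form of an isometry is preserved. -/
theorem polar_isometry {n : ℕ} {Q : QuadraticForm K (Fin n → K)} (A : ↥(Cfsg.isometryGroup K ⇑Q))
    (u v : Fin n → K) :
    QuadraticMap.polarBilin Q (((A : Matrix.GeneralLinearGroup (Fin n) K) : Matrix (Fin n) (Fin n) K) *ᵥ u)
      (((A : Matrix.GeneralLinearGroup (Fin n) K) : Matrix (Fin n) (Fin n) K) *ᵥ v) =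
      QuadraticMap.polarBilin Q u v := by
  have h : ∀ w, Q (((A : Matrix.GeneralLinearGroup (Fin n) K) : Matrix (Fin n) (Fin n) K) *ᵥ w) = Q w :=
    fun w => A.2 w w
  simp only [QuadraticMap.polarBilin_apply_apply, QuadraticMap.polar, ← Matrix.mulVec_add, h]

/-- Jordan types in orthogonal groups, odd characteristic. -/
theorem orth_jordan_iff_odd (h2 : (2 : K) ≠ 0) {n : ℕ} (d : Fin t → ℕ) (hd : ∀ k, 1 ≤ d k)
    (hsum : ∑ k, d k = n) :
    (∃ Q : QuadraticForm K (Fin n → K), (QuadraticMap.polarBilin Q).Nondegenerate ∧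
      ∃ e : ((k : Fin t) × Fin (d k)) ≃ Fin n, ∃ A : ↥(Cfsg.isometryGroup K ⇑Q),
        IsConj (Matrix.reindex e e (Cfsg.jordanTypeMatrix d K))
          ((A : Matrix.GeneralLinearGroup (Fin n) K) : Matrix (Fin n) (Fin n) K)) ↔
      ∀ j : ℕ, Even j → 0 < j → Even (Finset.univ.filter (fun k : Fin t => d k = j)).card := by
  constructor
  · rintro ⟨Q, hQ, e, A, hA⟩ j hj hj0
    obtain ⟨M, hdet, hinv, hsym, -⟩ := exists_invariant_of_isometry (QuadraticMap.polarBilin Q) hQ
      (ε := 1) (fun u v => by rw [one_mul]; exact QuadraticMap.polar_comm _ _ _) (polar_isometry A) e hA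
    refine even_card_blocks_of_invariant hinv hdet hd hsym hj0 ?_ (Or.inl h2)
    obtain ⟨k, hk⟩ := hj
    rw [Odd.neg_one_pow ⟨k - 1, by omega⟩, mul_one]
  · intro h
    obtain ⟨π, hππ, hπd, hfix⟩ := exists_block_pairing d (fun j => Even j ∧ 0 < j) fun s hs => h s hs.1 hs.2
    obtain ⟨M, hdet, hsym, hinv, -⟩ := exists_invariant_matrix d π hππ hπd (ε := (1 : K)) (by simp)
      fun a ha => Or.inr ⟨rfl, Nat.not_even_iff_odd.1 fun he => hfix a ha ⟨he, hd a⟩, h2⟩
    exact exists_orth_jordan d hsum M hdet (fun x y => by rw [hsym, one_mul]) hinv fun h => absurd h h2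

/-- Jordan types in orthogonal groups, characteristic two. -/
theorem orth_jordan_iff_two [CharP K 2] {m : ℕ} (d : Fin t → ℕ) (hd : ∀ k, 1 ≤ d k)
    (hsum : ∑ k, d k = 2 * m) :
    (∃ Q : QuadraticForm K (Fin (2 * m) → K), (QuadraticMap.polarBilin Q).Nondegenerate ∧
      ∃ e : ((k : Fin t) × Fin (d k)) ≃ Fin (2 * m), ∃ A : ↥(Cfsg.isometryGroup K ⇑Q),
        IsConj (Matrix.reindex e e (Cfsg.jordanTypeMatrix d K))
          ((A : Matrix.GeneralLinearGroup (Fin (2 * m)) K) : Matrix (Fin (2 * m)) (Fin (2 * m)) K)) ↔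
      ∀ j : ℕ, Odd j → Even (Finset.univ.filter (fun k : Fin t => d k = j)).card := by
  have h2 : (2 : K) = 0 := CharTwo.two_eq_zero
  have hone : (-1 : K) = 1 := CharTwo.neg_eq 1
  constructor
  · rintro ⟨Q, hQ, e, A, hA⟩ j hj
    obtain ⟨M, hdet, hinv, hsym, hdiag⟩ := exists_invariant_of_isometry (QuadraticMap.polarBilin Q) hQ
      (ε := 1) (fun u v => by rw [one_mul]; exact QuadraticMap.polar_comm _ _ _) (polar_isometry A) e hA
    refine even_card_blocks_of_invariant hinv hdet hd hsym hj.pos ?_ (Or.inr ⟨hj, hdiag fun u => ?_⟩)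
    · simp [hone]
    · rw [QuadraticMap.polarBilin_apply_apply, QuadraticMap.polar_self, two_smul, CharTwo.add_self_eq_zero]
  · intro h
    obtain ⟨π, hππ, hπd, hfix⟩ := exists_block_pairing d Odd h
    obtain ⟨M, hdet, hsym, hinv, hdiag⟩ := exists_invariant_matrix d π hππ hπd (ε := (-1 : K)) (by simp)
      fun a ha => Or.inl ⟨rfl, Nat.not_odd_iff_even.1 (hfix a ha)⟩
    exact exists_orth_jordan d hsum M hdet (fun x y => by rw [hsym, hone, one_mul]) hinv fun _ => hdiag rfl

end Cfsg.Agent.H66
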