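/-
Leading parts of invariant matrices of unipotent Jordan matrices.
-/
import Cfsg.Agent.H66.JordanForms
import Cfsg.Agent.H66.JordanCentralizer

set_option autoImplicit false

open Matrix

namespace Cfsg.Agent.H66.Lead

variable {K : Type*} [Field K] {t : ℕ} {d : Fin t → ℕ}

/-- The weight of a basis vector of a Jordan block. -/
def wt (x : (k : Fin t) × Fin (d k)) : ℤ := 2 * ((x.2 : ℕ) : ℤ) + 1 - (d x.1 : ℤ)

/-- Invariance of a matrix under a Jordan matrix. -/
def Inv (M : Matrix ((k : Fin t) × Fin (d k)) ((k : Fin t) × Fin (d k)) K) : Prop :=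
  (Cfsg.jordanTypeMatrix d K).transpose * M * Cfsg.jordanTypeMatrix d K = M

/-- The leading part of an invariant matrix on the blocks of size `s`. -/
def lead (M : Matrix ((k : Fin t) × Fin (d k)) ((k : Fin t) × Fin (d k)) K) (s : ℕ) :
    Matrix {a : Fin t // d a = s} {a : Fin t // d a = s} K :=
  fun a b => extEntry M a.1 0 b.1 (s - 1)

/-- The Levi part of a matrix commuting with a Jordan matrix. -/
def levi (C : Matrix ((k : Fin t) × Fin (d k)) ((k : Fin t) × Fin (d k)) K) (s : ℕ) :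
    Matrix {a : Fin t // d a = s} {a : Fin t // d a = s} K :=
  fun a b => extEntry C a.1 0 b.1 0

theorem entry_ne_zero {M : Matrix ((k : Fin t) × Fin (d k)) ((k : Fin t) × Fin (d k)) K} (hM : Inv M)
    {x y : (k : Fin t) × Fin (d k)} (h : M x y ≠ 0) :
    (x.2 : ℕ) + y.2 < d x.1 ∧ (x.2 : ℕ) + y.2 < d y.1 := by
  rw [← extEntry_coe M x y] at h
  have hs := stepRel_of_jordan_congr_eq hM
  exact ⟨not_le.1 fun hle => h (hs.eq_zero_left _ _ _ _ hle),
    not_le.1 fun hle => h (hs.eq_zero_right _ _ _ _ hle)⟩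

theorem wt_add_nonpos {M : Matrix ((k : Fin t) × Fin (d k)) ((k : Fin t) × Fin (d k)) K} (hM : Inv M)
    {x y : (k : Fin t) × Fin (d k)} (h : M x y ≠ 0) : wt x + wt y ≤ 0 := by
  have := entry_ne_zero hM h
  unfold wt
  omega

theorem eq_of_wt_add {M : Matrix ((k : Fin t) × Fin (d k)) ((k : Fin t) × Fin (d k)) K} (hM : Inv M)
    {x y : (k : Fin t) × Fin (d k)} (h : M x y ≠ 0) (hw : wt x + wt y = 0) :
    d x.1 = d y.1 ∧ (x.2 : ℕ) + y.2 + 1 = d x.1 := by
  have := entry_ne_zero hM h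
  unfold wt at hw
  omega

/-- The antidiagonal entries in terms of the leading part. -/
theorem antidiag_eq {M : Matrix ((k : Fin t) × Fin (d k)) ((k : Fin t) × Fin (d k)) K} (hM : Inv M)
    (a b : Fin t) {s : ℕ} (ha : d a = s) (i j : ℕ) (hij : i + j + 1 = s) :
    extEntry M a i b j = (-1) ^ i * extEntry M a 0 b (s - 1) := by
  have hs := stepRel_of_jordan_congr_eq hM
  rw [hs.antidiag a b j i (by omega), hs.antidiag a b (s - 1) 0 (by omega), ← mul_assoc, ← pow_add]
  congr 1
  exact neg_one_pow_congr (by simp only [Nat.even_iff]; omega)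

/-- Vectors annihilated in high weights vanish in low weights. -/
theorem eq_zero_of_mulVec {M : Matrix ((k : Fin t) × Fin (d k)) ((k : Fin t) × Fin (d k)) K} (hM : Inv M)
    (hW : ∀ s, (lead M s).det ≠ 0) (u : ((k : Fin t) × Fin (d k)) → K) (c : ℤ)
    (h : ∀ x, -c ≤ wt x → (M *ᵥ u) x = 0) : ∀ y, wt y ≤ c → u y = 0 := by
  classical
  have key : ∀ n : ℕ, ∀ y : (k : Fin t) × Fin (d k),
      (wt y + (Finset.univ.sup d : ℕ)).toNat = n → wt y ≤ c → u y = 0 := by
    intro n
    induction n using Nat.strong_induction_on with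
    | _ n ih =>
    rintro ⟨b, i⟩ hn hc
    have hlow : ∀ z : (k : Fin t) × Fin (d k), wt z < wt (⟨b, i⟩ : (k : Fin t) × Fin (d k)) → u z = 0 := by
      intro z hz
      have hzb : d z.1 ≤ Finset.univ.sup d := Finset.le_sup (Finset.mem_univ _)
      refine ih _ ?_ z rfl (hz.le.trans hc)
      rw [← hn]
      unfold wt at hz ⊢
      simp only at hz ⊢
      omega
    have hzero : lead M (d b) *ᵥ (fun b' => u ⟨b'.1, ⟨i, by rw [b'.2]; exact i.2⟩⟩) = 0 := by
      funext a
      have hi : d b - 1 - (i : ℕ) < d a.1 := by rw [a.2]; omega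
      have hxw : wt (⟨a.1, ⟨d b - 1 - (i : ℕ), hi⟩⟩ : (k : Fin t) × Fin (d k)) =
          -wt (⟨b, i⟩ : (k : Fin t) × Fin (d k)) := by
        have := a.2
        have := i.2
        unfold wt
        simp only
        omega
      have h0 := h ⟨a.1, ⟨d b - 1 - (i : ℕ), hi⟩⟩ (by rw [hxw]; omega)
      rw [Matrix.mulVec, dotProduct] at h0
      rw [← Fintype.sum_of_injective
        (fun b' : {b' : Fin t // d b' = d b} => (⟨b'.1, ⟨i, by rw [b'.2]; exact i.2⟩⟩ : (k : Fin t) × Fin (d k)))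
        (fun b₁ b₂ he => Subtype.ext (congrArg Sigma.fst he))
        (fun b' => (-1) ^ (d b - 1 - (i : ℕ)) * (lead M (d b) a b' * u ⟨b'.1, ⟨i, by rw [b'.2]; exact i.2⟩⟩))
        (fun z => M ⟨a.1, ⟨d b - 1 - (i : ℕ), hi⟩⟩ z * u z) ?_ ?_] at h0
      · rw [← Finset.mul_sum] at h0
        exact (mul_eq_zero.1 h0).resolve_left (pow_ne_zero _ (by simp))
      · intro z hz
        by_contra hne
        obtain ⟨h1, h2⟩ := mul_ne_zero_iff.1 hne
        have hle : wt z ≤ wt (⟨b, i⟩ : (k : Fin t) × Fin (d k)) := by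
          have := wt_add_nonpos hM h1
          omega
        have heq : wt z = wt (⟨b, i⟩ : (k : Fin t) × Fin (d k)) :=
          hle.eq_of_not_lt fun hlt => h2 (hlow z hlt)
        obtain ⟨hd', hj⟩ := eq_of_wt_add hM h1 (by omega)
        refine hz ⟨⟨z.1, by simpa [a.2] using hd'.symm⟩, ?_⟩
        obtain ⟨z1, z2⟩ := z
        simp only [Sigma.mk.injEq, heq_eq_eq, true_and]
        ext
        simp only [a.2] at hj
        have := i.2
        simp only at hd' ⊢
        omega
      · intro b'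
        rw [← extEntry_of_lt M hi (show (i : ℕ) < d b'.1 by rw [b'.2]; exact i.2),
          antidiag_eq hM a.1 b'.1 a.2 _ _ (by have := i.2; omega)]
        exact (mul_assoc _ _ _).symm
    exact congrFun (Matrix.eq_zero_of_mulVec_eq_zero (hW _) hzero) ⟨b, rfl⟩
  exact fun y hy => key _ y rfl hy

theorem det_ne_zero_of_lead {M : Matrix ((k : Fin t) × Fin (d k)) ((k : Fin t) × Fin (d k)) K} (hM : Inv M)
    (hW : ∀ s, (lead M s).det ≠ 0) : M.det ≠ 0 := by
  classical
  intro h0
  obtain ⟨u, hu, hu0⟩ := Matrix.exists_mulVec_eq_zero_iff.2 h0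
  exact hu (funext fun y => eq_zero_of_mulVec hM hW u (wt y) (fun x _ => congrFun hu0 x) y le_rfl)

theorem lead_det_ne_zero {M : Matrix ((k : Fin t) × Fin (d k)) ((k : Fin t) × Fin (d k)) K} (hM : Inv M)
    (hdet : M.det ≠ 0) (hd : ∀ k, 1 ≤ d k) (s : ℕ) : (lead M s).det ≠ 0 := by
  classical
  have h := stepRel_of_jordan_congr_eq hM
  let W : Matrix (Fin t) (Fin t) K := fun b a => extEntry M a 0 b (d b - 1)
  have htri : W.BlockTriangular d := fun b a hlt => h.eq_zero_left a b _ _ (by omega)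
  have hW : W.det ≠ 0 := by
    rw [← Matrix.det_transpose]
    intro h0
    obtain ⟨c, hc, hc0⟩ := Matrix.exists_mulVec_eq_zero_iff.2 h0
    let v : ((k : Fin t) × Fin (d k)) → K := fun x => if (x.2 : ℕ) = d x.1 - 1 then c x.1 else 0
    have hv : M *ᵥ v = 0 := by
      funext x
      obtain ⟨a, i⟩ := x
      rw [Matrix.mulVec, dotProduct, Fintype.sum_sigma]
      have hterm : ∀ b, ∑ j : Fin (d b), M ⟨a, i⟩ ⟨b, j⟩ * v ⟨b, j⟩ = extEntry M a i b (d b - 1) * c b := by
        intro b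
        have hb : d b - 1 < d b := by have := hd b; omega
        rw [Finset.sum_eq_single ⟨d b - 1, hb⟩]
        · rw [extEntry_of_lt M i.2 hb]; simp [v]
        · intro j _ hj
          simp only [v]
          rw [if_neg (fun h' => hj (Fin.ext h')), mul_zero]
        · simp
      rw [Finset.sum_congr rfl fun b _ => hterm b]
      rcases Nat.eq_zero_or_pos (i : ℕ) with hi | hi
      · rw [hi]
        exact congrFun hc0 a
      · refine Finset.sum_eq_zero fun b _ => ?_
        rw [h.eq_zero_right a b _ _ (by omega), zero_mul]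
    obtain ⟨a, ha⟩ := Function.ne_iff.1 hc
    have := congrFun (Matrix.eq_zero_of_mulVec_eq_zero hdet hv) ⟨a, ⟨d a - 1, by have := hd a; omega⟩⟩
    simp only [v, if_pos, Pi.zero_apply] at this
    exact ha this
  by_cases hmem : s ∈ Finset.univ.image d
  · have he : lead M s = (W.toSquareBlock d s).transpose := by
      ext a ⟨b, hb⟩
      show extEntry M a.1 0 b (s - 1) = extEntry M a.1 0 b (d b - 1)
      rw [hb]
    rw [htri.det] at hW
    rw [he, Matrix.det_transpose]
    exact Finset.prod_ne_zero_iff.1 hW s hmem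
  · have : IsEmpty {k : Fin t // d k = s} :=
      ⟨fun k => hmem (Finset.mem_image.2 ⟨k.1, Finset.mem_univ _, k.2⟩)⟩
    rw [Matrix.det_isEmpty]
    exact one_ne_zero

theorem comm_step {C : Matrix ((k : Fin t) × Fin (d k)) ((k : Fin t) × Fin (d k)) K}
    (hC : Commute C (Cfsg.jordanTypeMatrix d K)) (a : Fin t) (i : ℕ) (b : Fin t) (j : ℕ)
    (hi : i < d a) (hj : j < d b) :
    extEntry C a i b (j + 1) = if 1 ≤ i then extEntry C a (i - 1) b j else 0 := by
  have h : C * (Cfsg.jordanTypeMatrix d K - 1) = (Cfsg.jordanTypeMatrix d K - 1) * C :=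
    (hC.sub_right (Commute.one_right C)).eq
  have h1 := congrFun (congrFun h ⟨a, ⟨i, hi⟩⟩) ⟨b, ⟨j, hj⟩⟩
  rw [mul_sub_one_apply, sub_one_mul_apply] at h1
  have hL : extEntry C a i b (j + 1) =
      if h : j + 1 < d b then C ⟨a, ⟨i, hi⟩⟩ ⟨b, ⟨j + 1, h⟩⟩ else 0 := by
    unfold extEntry
    by_cases h2 : j + 1 < d b
    · rw [dif_pos ⟨hi, h2⟩, dif_pos h2]
    · rw [dif_neg h2, dif_neg fun h' => h2 h'.2]
  rw [hL, h1]
  split_ifs with h2
  · exact (extEntry_of_lt C (by omega) hj).symm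
  · rfl

theorem comm_upper {C : Matrix ((k : Fin t) × Fin (d k)) ((k : Fin t) × Fin (d k)) K}
    (hC : Commute C (Cfsg.jordanTypeMatrix d K)) (a b : Fin t) :
    ∀ k i j, j + k + 1 = d b → i + k + 1 < d a → extEntry C a i b j = 0 := by
  intro k
  induction k with
  | zero =>
    intro i j hj hi
    have h := comm_step hC a (i + 1) b j (by omega) (by omega)
    rw [if_pos (by omega), Nat.add_sub_cancel, extEntry, dif_neg (fun h' => by omega)] at h
    exact h.symm
  | succ k ih =>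
    intro i j hj hi
    have h := comm_step hC a (i + 1) b j (by omega) (by omega)
    rw [if_pos (by omega), Nat.add_sub_cancel, ih (i + 1) (j + 1) (by omega) (by omega)] at h
    exact h.symm

theorem comm_shift {C : Matrix ((k : Fin t) × Fin (d k)) ((k : Fin t) × Fin (d k)) K}
    (hC : Commute C (Cfsg.jordanTypeMatrix d K)) (a b : Fin t) :
    ∀ j i, i < d a → j < d b → extEntry C a i b j = if j ≤ i then extEntry C a (i - j) b 0 else 0 := by
  intro j
  induction j with
  | zero => intro i _ _; simp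
  | succ j ih =>
    intro i hi hj
    rw [comm_step hC a i b j hi (by omega)]
    by_cases h1 : 1 ≤ i
    · rw [if_pos h1, ih (i - 1) (by omega) (by omega)]
      by_cases h2 : j + 1 ≤ i
      · rw [if_pos h2, if_pos (by omega), show i - 1 - j = i - (j + 1) by omega]
      · rw [if_neg h2, if_neg (by omega)]
    · rw [if_neg h1, if_neg (by omega)]

theorem comm_entry_ne_zero {C : Matrix ((k : Fin t) × Fin (d k)) ((k : Fin t) × Fin (d k)) K}
    (hC : Commute C (Cfsg.jordanTypeMatrix d K)) {x y : (k : Fin t) × Fin (d k)} (h : C x y ≠ 0) :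
    (y.2 : ℕ) ≤ x.2 ∧ d x.1 + y.2 ≤ x.2 + d y.1 := by
  rw [← extEntry_coe C x y] at h
  constructor
  · by_contra hle
    rw [comm_shift hC _ _ _ _ x.2.2 y.2.2, if_neg hle] at h
    exact h rfl
  · by_contra hle
    have := y.2.2
    exact h (comm_upper hC _ _ (d y.1 - 1 - y.2) _ _ (by omega) (by omega))

theorem comm_wt_le {C : Matrix ((k : Fin t) × Fin (d k)) ((k : Fin t) × Fin (d k)) K}
    (hC : Commute C (Cfsg.jordanTypeMatrix d K)) {x y : (k : Fin t) × Fin (d k)} (h : C x y ≠ 0) :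
    wt y ≤ wt x := by
  have := comm_entry_ne_zero hC h
  unfold wt
  omega

theorem comm_eq_of_wt {C : Matrix ((k : Fin t) × Fin (d k)) ((k : Fin t) × Fin (d k)) K}
    (hC : Commute C (Cfsg.jordanTypeMatrix d K)) {x y : (k : Fin t) × Fin (d k)} (h : C x y ≠ 0)
    (hw : wt x = wt y) : d x.1 = d y.1 ∧ (x.2 : ℕ) = y.2 := by
  have := comm_entry_ne_zero hC h
  unfold wt at hw
  omega

theorem inv_congr {C D M : Matrix ((k : Fin t) × Fin (d k)) ((k : Fin t) × Fin (d k)) K} (hM : Inv M)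
    (hC : Commute C (Cfsg.jordanTypeMatrix d K)) (hD : Commute D (Cfsg.jordanTypeMatrix d K)) :
    Inv (C.transpose * M * D) := by
  unfold Inv at *
  rw [show (Cfsg.jordanTypeMatrix d K).transpose * (C.transpose * M * D) * Cfsg.jordanTypeMatrix d K =
      (C * Cfsg.jordanTypeMatrix d K).transpose * M * (D * Cfsg.jordanTypeMatrix d K) by
    rw [Matrix.transpose_mul]; simp only [Matrix.mul_assoc]]
  rw [hC.eq, hD.eq, Matrix.transpose_mul,
    show C.transpose * (Cfsg.jordanTypeMatrix d K).transpose * M * (Cfsg.jordanTypeMatrix d K * D) =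
      C.transpose * ((Cfsg.jordanTypeMatrix d K).transpose * M * Cfsg.jordanTypeMatrix d K) * D by
    simp only [Matrix.mul_assoc], hM]

/-- The leading part of a congruent matrix. -/
theorem lead_congr {C D M : Matrix ((k : Fin t) × Fin (d k)) ((k : Fin t) × Fin (d k)) K} (hM : Inv M)
    (hC : Commute C (Cfsg.jordanTypeMatrix d K)) (hD : Commute D (Cfsg.jordanTypeMatrix d K))
    (hd : ∀ k, 1 ≤ d k) (s : ℕ) :
    lead (C.transpose * M * D) s = (levi C s).transpose * lead M s * levi D s := by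
  classical
  ext ⟨a, ha⟩ ⟨b, hb⟩
  have ha0 : 0 < d a := hd a
  have hb1 : s - 1 < d b := by have := hd b; omega
  show extEntry _ a 0 b (s - 1) = _
  rw [extEntry_of_lt _ ha0 hb1, Matrix.mul_apply]
  have hwx : wt (⟨a, ⟨0, ha0⟩⟩ : (k : Fin t) × Fin (d k)) = 1 - (s : ℤ) := by
    unfold wt; simp only; omega
  have hwy : wt (⟨b, ⟨s - 1, hb1⟩⟩ : (k : Fin t) × Fin (d k)) = (s : ℤ) - 1 := by
    have := hd b
    unfold wt; simp only; omega
  have hterm : ∀ v : (k : Fin t) × Fin (d k),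
      (C.transpose * M) ⟨a, ⟨0, ha0⟩⟩ v * D v ⟨b, ⟨s - 1, hb1⟩⟩ ≠ 0 →
        wt v = (s : ℤ) - 1 ∧ d v.1 = s ∧ (v.2 : ℕ) = s - 1 := by
    intro v hv
    obtain ⟨h1, h2⟩ := mul_ne_zero_iff.1 hv
    rw [Matrix.mul_apply] at h1
    obtain ⟨u, -, hu⟩ := Finset.exists_ne_zero_of_sum_ne_zero h1
    obtain ⟨h3, h4⟩ := mul_ne_zero_iff.1 hu
    rw [Matrix.transpose_apply] at h3
    have e1 := comm_wt_le hC h3
    have e2 := comm_wt_le hD h2
    have e3 := wt_add_nonpos hM h4
    have hv' : wt v = (s : ℤ) - 1 := by omega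
    have e4 := comm_eq_of_wt hD h2 (by omega)
    simp only at e4
    exact ⟨hv', by omega, e4.2⟩
  rw [Matrix.mul_apply]
  refine (Fintype.sum_of_injective
    (fun b' : {b' : Fin t // d b' = s} =>
      (⟨b'.1, ⟨s - 1, by have := b'.2; have := hd b'.1; omega⟩⟩ : (k : Fin t) × Fin (d k)))
    (fun b₁ b₂ he => Subtype.ext (congrArg Sigma.fst he)) _ _ ?_ ?_).symm
  · intro v hv
    by_contra hne
    obtain ⟨-, hvd, hvj⟩ := hterm v hne
    refine hv ⟨⟨v.1, hvd⟩, ?_⟩
    obtain ⟨v1, v2⟩ := v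
    simp only [Sigma.mk.injEq, heq_eq_eq, true_and]
    exact Fin.ext hvj.symm
  · intro b'
    have hb' : s - 1 < d b'.1 := by have := b'.2; have := hd b'.1; omega
    have hDl : D ⟨b'.1, ⟨s - 1, hb'⟩⟩ ⟨b, ⟨s - 1, hb1⟩⟩ = levi D s b' ⟨b, hb⟩ := by
      rw [← extEntry_of_lt D hb' hb1, comm_shift hD _ _ _ _ hb' hb1, if_pos le_rfl, Nat.sub_self]
      rfl
    rw [hDl]
    congr 1
    rw [Matrix.mul_apply, Matrix.mul_apply]
    refine Fintype.sum_of_injective
      (fun a' : {a' : Fin t // d a' = s} => (⟨a'.1, ⟨0, hd a'.1⟩⟩ : (k : Fin t) × Fin (d k)))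
      (fun b₁ b₂ he => Subtype.ext (congrArg Sigma.fst he)) _ _ ?_ ?_
    · intro u hu
      by_contra hne
      obtain ⟨h3, h4⟩ := mul_ne_zero_iff.1 hne
      rw [Matrix.transpose_apply] at h3
      have e1 := comm_wt_le hC h3
      have e3 := wt_add_nonpos hM h4
      have hwv : wt (⟨b'.1, ⟨s - 1, hb'⟩⟩ : (k : Fin t) × Fin (d k)) = (s : ℤ) - 1 := by
        have := b'.2; have := hd b'.1
        unfold wt; simp only; omega
      have e4 := comm_eq_of_wt hC h3 (by omega)
      obtain ⟨u1, u2⟩ := u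
      simp only at e4
      refine hu ⟨⟨u1, e4.1.trans ha⟩, ?_⟩
      simp only [Sigma.mk.injEq, heq_eq_eq, true_and]
      exact Fin.ext e4.2.symm
    · intro a'
      rw [Matrix.transpose_apply, Matrix.transpose_apply, ← extEntry_of_lt C (hd a'.1) ha0,
        ← extEntry_of_lt M (hd a'.1) hb']
      rfl

theorem extEntry_add (M N : Matrix ((k : Fin t) × Fin (d k)) ((k : Fin t) × Fin (d k)) K)
    (a : Fin t) (i : ℕ) (b : Fin t) (j : ℕ) :
    extEntry (M + N) a i b j = extEntry M a i b j + extEntry N a i b j := by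
  unfold extEntry
  split_ifs
  · rfl
  · rw [add_zero]

theorem lead_add (M N : Matrix ((k : Fin t) × Fin (d k)) ((k : Fin t) × Fin (d k)) K) (s : ℕ) :
    lead (M + N) s = lead M s + lead N s := by
  ext a b
  exact extEntry_add M N _ _ _ _

theorem lead_smul (c : K) (M : Matrix ((k : Fin t) × Fin (d k)) ((k : Fin t) × Fin (d k)) K) (s : ℕ) :
    lead (c • M) s = c • lead M s := by
  ext a b
  show extEntry (c • M) _ _ _ _ = c * extEntry M _ _ _ _
  unfold extEntry
  split_ifs
  · rfl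
  · rw [mul_zero]

theorem levi_one (hd : ∀ k, 1 ≤ d k) (s : ℕ) :
    levi (1 : Matrix ((k : Fin t) × Fin (d k)) ((k : Fin t) × Fin (d k)) K) s = 1 := by
  classical
  ext a b
  show extEntry _ a.1 0 b.1 0 = _
  rw [extEntry_of_lt _ (hd a.1) (hd b.1)]
  rcases eq_or_ne a b with rfl | h
  · simp
  · rw [Matrix.one_apply_ne h, Matrix.one_apply_ne fun he => h (Subtype.ext (congrArg Sigma.fst he))]

theorem lead_transpose_of_skew {M : Matrix ((k : Fin t) × Fin (d k)) ((k : Fin t) × Fin (d k)) K}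
    (hM : Inv M) (hskew : M.transpose = -M) (hd : ∀ k, 1 ≤ d k) (s : ℕ) :
    (lead M s).transpose = (-1 : K) ^ s • lead M s := by
  ext a b
  have hs : s - 1 + 0 + 1 = s := by have := a.2; have := hd a.1; omega
  show extEntry M b.1 0 a.1 (s - 1) = (-1 : K) ^ s * extEntry M a.1 0 b.1 (s - 1)
  rw [← extEntry_transpose, hskew]
  have hneg : extEntry (-M) a.1 (s - 1) b.1 0 = -extEntry M a.1 (s - 1) b.1 0 := by
    unfold extEntry
    split_ifs
    · rfl
    · rw [neg_zero]
  rw [hneg, antidiag_eq hM a.1 b.1 a.2 (s - 1) 0 hs]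
  have hp : (-1 : K) ^ s = (-1) ^ (s - 1) * (-1) := by
    rw [← pow_succ]
    congr 1
    omega
  rw [hp]
  ring

/-- A matrix acting on the blocks and trivially inside them. -/
def blockExtend (d : Fin t → ℕ) (Q : Matrix (Fin t) (Fin t) K) :
    Matrix ((k : Fin t) × Fin (d k)) ((k : Fin t) × Fin (d k)) K :=
  fun x y => if (x.2 : ℕ) = y.2 ∧ d x.1 = d y.1 then Q x.1 y.1 else 0

theorem commute_blockExtend (Q : Matrix (Fin t) (Fin t) K) :
    Commute (blockExtend d Q) (Cfsg.jordanTypeMatrix d K) := by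
  have h : Commute (blockExtend d Q) (Cfsg.jordanTypeMatrix d K - 1) := by
    refine Matrix.ext fun x y => ?_
    obtain ⟨a, i⟩ := x
    obtain ⟨b, j⟩ := y
    rw [mul_sub_one_apply, sub_one_mul_apply]
    have := i.2
    have := j.2
    simp only [blockExtend]
    split_ifs <;> first | rfl | omega
  simpa using h.add_right (Commute.one_right _)

theorem levi_blockExtend (hd : ∀ k, 1 ≤ d k) (Q : Matrix (Fin t) (Fin t) K) (s : ℕ) :
    levi (blockExtend d Q) s = Q.submatrix Subtype.val Subtype.val := by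
  ext a b
  show extEntry _ a.1 0 b.1 0 = _
  rw [extEntry_of_lt _ (hd a.1) (hd b.1)]
  simp [blockExtend, a.2, b.2]

theorem exists_levi (hd : ∀ k, 1 ≤ d k)
    (P : ∀ s, Matrix {a : Fin t // d a = s} {a : Fin t // d a = s} K) :
    ∃ C : Matrix ((k : Fin t) × Fin (d k)) ((k : Fin t) × Fin (d k)) K,
      Commute C (Cfsg.jordanTypeMatrix d K) ∧ ∀ s, levi C s = P s := by
  classical
  refine ⟨blockExtend d (Matrix.of fun a b => if h : d a = d b then P (d b) ⟨a, h⟩ ⟨b, rfl⟩ else 0),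
    commute_blockExtend _, fun s => (levi_blockExtend hd _ s).trans ?_⟩
  ext ⟨a, ha⟩ ⟨b, hb⟩
  subst hb
  rw [Matrix.submatrix_apply, Matrix.of_apply, dif_pos ha]

end Cfsg.Agent.H66.Lead
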