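/-
Unipotent classes of symplectic groups in odd characteristic.
-/
import Cfsg.Agent.H66.UnipotentLead
import Cfsg.Agent.H66.JordanClassical
import Cfsg.Agent.H4.SquareClass

set_option autoImplicit false

open Matrix

namespace Cfsg.Agent.H66.Lead

variable {K : Type*} [Field K] {t : ℕ} {d : Fin t → ℕ}

theorem isAlt_toBilin' {ι : Type*} [Fintype ι] [DecidableEq ι] {M : Matrix ι ι K} (h2 : (2 : K) ≠ 0)
    (h : M.transpose = -M) : (Matrix.toBilin' M).IsAlt := by
  intro v
  have h1 : v ⬝ᵥ (M *ᵥ v) = -(v ⬝ᵥ (M *ᵥ v)) := by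
    conv_lhs => rw [Matrix.dotProduct_mulVec, ← Matrix.mulVec_transpose, h, Matrix.neg_mulVec,
      neg_dotProduct, dotProduct_comm]
  rw [Matrix.toBilin'_apply']
  refine (mul_eq_zero.1 (show (2 : K) * (v ⬝ᵥ (M *ᵥ v)) = 0 from ?_)).resolve_left h2
  linear_combination h1

theorem mul_congr_eq {ι : Type*} [Fintype ι] [DecidableEq ι] {M N P : Matrix ι ι K}
    (h : ∀ u v, (P *ᵥ u) ⬝ᵥ (M *ᵥ (P *ᵥ v)) = u ⬝ᵥ (N *ᵥ v)) : P.transpose * M * P = N := by
  ext i j
  have h1 := h (Pi.single i 1) (Pi.single j 1)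
  rw [Matrix.mulVec_mulVec, Matrix.dotProduct_mulVec, Matrix.vecMul_mulVec, ← Matrix.dotProduct_mulVec,
    ← Matrix.mul_assoc] at h1
  simpa using h1

/-- Skew invertible matrices are congruent. -/
theorem exists_congr_skew {ι : Type*} [Fintype ι] [DecidableEq ι] (h2 : (2 : K) ≠ 0) (W₁ W₂ : Matrix ι ι K)
    (hs₁ : W₁.transpose = -W₁) (hs₂ : W₂.transpose = -W₂) (hd₁ : W₁.det ≠ 0) (hd₂ : W₂.det ≠ 0) :
    ∃ P : Matrix ι ι K, P.transpose * W₁ * P = W₂ := by
  obtain ⟨m, E₁, hm₁, hE₁⟩ := H2.exists_equiv_std (Matrix.toBilin' W₁)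
    (LinearMap.BilinForm.nondegenerate_toBilin'_of_det_ne_zero' _ hd₁) (isAlt_toBilin' h2 hs₁)
  obtain ⟨m', E₂, hm₂, hE₂⟩ := H2.exists_equiv_std (Matrix.toBilin' W₂)
    (LinearMap.BilinForm.nondegenerate_toBilin'_of_det_ne_zero' _ hd₂) (isAlt_toBilin' h2 hs₂)
  obtain rfl : m' = m := by omega
  refine ⟨LinearMap.toMatrix' ((E₂.trans E₁.symm).toLinearMap), mul_congr_eq fun u v => ?_⟩
  rw [LinearMap.toMatrix'_mulVec, LinearMap.toMatrix'_mulVec, ← Matrix.toBilin'_apply',
    ← Matrix.toBilin'_apply', ← hE₁, ← hE₂]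
  simp

theorem nondegenerate_toQuadraticForm {ι : Type*} [Fintype ι] [DecidableEq ι] (h2 : (2 : K) ≠ 0)
    {W : Matrix ι ι K} (hs : W.transpose = W) (hd : W.det ≠ 0) :
    QuadraticMap.polarBilin (LinearMap.BilinMap.toQuadraticMap (Matrix.toBilin' W)) =
        Matrix.toBilin' ((2 : K) • W) ∧
      (QuadraticMap.polarBilin (LinearMap.BilinMap.toQuadraticMap (Matrix.toBilin' W))).Nondegenerate := by
  have h1 : QuadraticMap.polarBilin (LinearMap.BilinMap.toQuadraticMap (Matrix.toBilin' W)) =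
      Matrix.toBilin' ((2 : K) • W) := by
    rw [LinearMap.BilinMap.polarBilin_toQuadraticMap]
    refine (Pi.basisFun K ι).ext fun x => (Pi.basisFun K ι).ext fun y => ?_
    have hyx : W y x = W x y := congrFun (congrFun hs x) y
    simp [Matrix.toBilin'_single, hyx, two_mul]
  refine ⟨h1, ?_⟩
  rw [h1]
  refine LinearMap.BilinForm.nondegenerate_toBilin'_of_det_ne_zero' _ ?_
  rw [Matrix.det_smul]
  exact mul_ne_zero (pow_ne_zero _ h2) hd

/-- Symmetric invertible matrices with the same discriminant are congruent. -/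
theorem exists_congr_symm [Fintype K] {ι : Type*} [Fintype ι] [DecidableEq ι] (h2 : (2 : K) ≠ 0)
    (W₁ W₂ : Matrix ι ι K) (hs₁ : W₁.transpose = W₁) (hs₂ : W₂.transpose = W₂) (hd₁ : W₁.det ≠ 0)
    (hd₂ : W₂.det ≠ 0) (hsq : IsSquare (W₁.det * W₂.det)) :
    ∃ P : Matrix ι ι K, P.transpose * W₁ * P = W₂ := by
  obtain ⟨e1, n1⟩ := nondegenerate_toQuadraticForm h2 hs₁ hd₁
  obtain ⟨e2, n2⟩ := nondegenerate_toQuadraticForm h2 hs₂ hd₂
  have hg : ∀ W : Matrix ι ι K, QuadraticMap.polarBilin (LinearMap.BilinMap.toQuadraticMap (Matrix.toBilin' W)) =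
      Matrix.toBilin' ((2 : K) • W) →
      (H4.gram (LinearMap.BilinMap.toQuadraticMap (Matrix.toBilin' W)) (Pi.basisFun K ι)).det =
        (2 : K) ^ Fintype.card ι * W.det := by
    intro W hW
    rw [H4.gram_eq_toMatrix, hW]
    have : LinearMap.BilinForm.toMatrix (Pi.basisFun K ι) (Matrix.toBilin' ((2 : K) • W)) = (2 : K) • W := by
      ext i j
      simp [LinearMap.BilinForm.toMatrix_apply, Matrix.toBilin'_single]
    rw [this, Matrix.det_smul]
  obtain ⟨g, hgQ⟩ := H4.isom_of_disc h2 n2 n1 rfl (Pi.basisFun K ι) (Pi.basisFun K ι) (by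
    rw [hg _ e1, hg _ e2]
    obtain ⟨r, hr⟩ := hsq
    exact ⟨(2 : K) ^ Fintype.card ι * r, by linear_combination ((2 : K) ^ Fintype.card ι) ^ 2 * hr⟩)
  refine ⟨LinearMap.toMatrix' g.toLinearMap, mul_congr_eq fun u v => ?_⟩
  rw [LinearMap.toMatrix'_mulVec, LinearMap.toMatrix'_mulVec, ← Matrix.toBilin'_apply',
    ← Matrix.toBilin'_apply']
  have hp : ∀ a b, QuadraticMap.polarBilin (LinearMap.BilinMap.toQuadraticMap (Matrix.toBilin' W₁)) (g a) (g b) =
      QuadraticMap.polarBilin (LinearMap.BilinMap.toQuadraticMap (Matrix.toBilin' W₂)) a b := fun a b => by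
    simp only [QuadraticMap.polarBilin_apply_apply, QuadraticMap.polar, ← map_add, hgQ]
  have h := hp u v
  rw [e1, e2] at h
  simp only [map_smul, LinearMap.smul_apply, smul_eq_mul] at h
  exact mul_left_cancel₀ h2 h

/-- An invariant skew matrix with prescribed leading parts. -/
theorem exists_with_lead (h2 : (2 : K) ≠ 0) (hd : ∀ k, 1 ≤ d k)
    {M : Matrix ((k : Fin t) × Fin (d k)) ((k : Fin t) × Fin (d k)) K}
    (hM : Inv M) (hdet : M.det ≠ 0) (hskew : M.transpose = -M)
    (T : ∀ s, Matrix {a : Fin t // d a = s} {a : Fin t // d a = s} K) (hT : ∀ s, (T s).det ≠ 0)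
    (hTt : ∀ s, (T s).transpose = (-1 : K) ^ s • T s) :
    ∃ N : Matrix ((k : Fin t) × Fin (d k)) ((k : Fin t) × Fin (d k)) K,
      Inv N ∧ N.det ≠ 0 ∧ N.transpose = -N ∧ ∀ s, lead N s = T s := by
  classical
  have hW := lead_det_ne_zero hM hdet hd
  obtain ⟨C, hC, hCl⟩ := exists_levi hd fun s => (lead M s)⁻¹ * T s
  have hI1 : Inv (M * C) := by simpa using inv_congr hM (Commute.one_left _) hC
  have hI2 : Inv (C.transpose * M) := by simpa using inv_congr hM hC (Commute.one_left _)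
  have hN : Inv ((2 : K)⁻¹ • (M * C + C.transpose * M)) := by
    unfold Inv at *
    rw [Matrix.mul_smul, Matrix.smul_mul, Matrix.mul_add, Matrix.add_mul, hI1, hI2]
  have hlead : ∀ s, lead ((2 : K)⁻¹ • (M * C + C.transpose * M)) s = T s := by
    intro s
    have hu : IsUnit (lead M s).det := isUnit_iff_ne_zero.2 (hW s)
    have hA : lead (M * C) s = T s := by
      have h := lead_congr hM (Commute.one_left _) hC hd s
      rw [Matrix.transpose_one, Matrix.one_mul, levi_one hd, Matrix.transpose_one, Matrix.one_mul, hCl] at h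
      rw [h, ← Matrix.mul_assoc, Matrix.mul_nonsing_inv _ hu, Matrix.one_mul]
    have hB : lead (C.transpose * M) s = T s := by
      have h := lead_congr hM hC (Commute.one_left _) hd s
      rw [Matrix.mul_one, levi_one hd, Matrix.mul_one, hCl] at h
      have h3 : ((lead M s).transpose * ((lead M s)⁻¹ * T s)).transpose = T s := by
        rw [lead_transpose_of_skew hM hskew hd, Matrix.smul_mul, ← Matrix.mul_assoc,
          Matrix.mul_nonsing_inv _ hu, Matrix.one_mul, Matrix.transpose_smul, hTt, smul_smul, ← mul_pow]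
        simp
      rw [Matrix.transpose_mul, Matrix.transpose_transpose] at h3
      rw [h, h3]
    rw [lead_smul, lead_add, hA, hB, ← two_smul K (T s), smul_smul, inv_mul_cancel₀ h2, one_smul]
  refine ⟨_, hN, det_ne_zero_of_lead hN fun s => by rw [hlead]; exact hT s, ?_, hlead⟩
  rw [Matrix.transpose_smul, Matrix.transpose_add, Matrix.transpose_mul, Matrix.transpose_mul,
    Matrix.transpose_transpose, hskew, Matrix.neg_mul, Matrix.mul_neg, ← smul_neg, neg_add, add_comm]

/-- Congruent leading parts force congruence by the centraliser. -/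
theorem exists_commute_congr [Fintype K] {p : ℕ} [Fact p.Prime] [CharP K p] (hp2 : p ≠ 2) (hd : ∀ k, 1 ≤ d k)
    {M₁ M₂ : Matrix ((k : Fin t) × Fin (d k)) ((k : Fin t) × Fin (d k)) K}
    (h₁ : Inv M₁) (h₂ : Inv M₂) (hdet₁ : M₁.det ≠ 0) (hdet₂ : M₂.det ≠ 0)
    (hsk₁ : M₁.transpose = -M₁) (hsk₂ : M₂.transpose = -M₂)
    (hP : ∀ s, ∃ P, P.transpose * lead M₁ s * P = lead M₂ s) :
    ∃ C, Commute C (Cfsg.jordanTypeMatrix d K) ∧ C.transpose * M₁ * C = M₂ := by
  classical
  choose P hP using hP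
  obtain ⟨C₀, hC₀, hC₀l⟩ := exists_levi hd P
  set M := C₀.transpose * M₁ * C₀ with hMdef
  have hM : Inv M := inv_congr h₁ hC₀ hC₀
  have hlead : ∀ s, lead M s = lead M₂ s := fun s => by
    rw [hMdef, lead_congr h₁ hC₀ hC₀ hd, hC₀l, hP]
  have hW2 := lead_det_ne_zero h₂ hdet₂ hd
  have hW : ∀ s, (lead M s).det ≠ 0 := fun s => by rw [hlead]; exact hW2 s
  have hdetM : M.det ≠ 0 := det_ne_zero_of_lead hM hW
  have hu : IsUnit M.det := isUnit_iff_ne_zero.2 hdetM
  have hskM : M.transpose = -M := by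
    rw [hMdef, Matrix.transpose_mul, Matrix.transpose_mul, Matrix.transpose_transpose, hsk₁,
      Matrix.neg_mul, Matrix.mul_neg, ← Matrix.mul_assoc]
  set A := M⁻¹ * M₂ with hAdef
  have hMA : M * A = M₂ := by rw [hAdef, ← Matrix.mul_assoc, Matrix.mul_nonsing_inv _ hu, Matrix.one_mul]
  set J := Cfsg.jordanTypeMatrix d K with hJ
  have hJdet : J.det ≠ 0 := fun h0 => hdetM (by
    have := congrArg Matrix.det hM
    rw [Matrix.det_mul, Matrix.det_mul, ← hJ, h0, mul_zero] at this
    exact this.symm)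
  have hAJ : Commute A J := by
    have h2' : J.transpose * M * (A * J) = J.transpose * M * (J * A) := by
      rw [← Matrix.mul_assoc, Matrix.mul_assoc J.transpose M A, hMA, h₂, ← Matrix.mul_assoc, hM, hMA]
    refine sub_eq_zero.1 (Matrix.ext_iff_mulVec.2 fun v => ?_)
    have hdetJM : (J.transpose * M).det ≠ 0 := by
      rw [Matrix.det_mul, Matrix.det_transpose]
      exact mul_ne_zero hJdet hdetM
    rw [Matrix.zero_mulVec]
    refine Matrix.eq_zero_of_mulVec_eq_zero hdetJM ?_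
    rw [Matrix.mulVec_mulVec, Matrix.mul_sub, h2', sub_self, Matrix.zero_mulVec]
  have hnil : IsNilpotent (A - 1) := by
    set B : ℤ := ((Finset.univ.sup d : ℕ) : ℤ) with hB
    have hwb : ∀ y : (k : Fin t) × Fin (d k), -B ≤ wt y ∧ wt y < B + 1 := fun y => by
      have hyb : d y.1 ≤ Finset.univ.sup d := Finset.le_sup (Finset.mem_univ _)
      have := y.2.2
      unfold wt
      omega
    have hD : Inv (M₂ - M) := by
      unfold Inv at *
      rw [Matrix.mul_sub, Matrix.sub_mul, h₂, hM]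
    have hD0 : ∀ s, lead (M₂ - M) s = 0 := fun s => by
      have h := lead_add (M₂ - M) M s
      rw [sub_add_cancel, hlead] at h
      exact right_eq_add.1 h
    have key : ∀ k : ℕ, ∀ v y, wt y < -B + k → ((A - 1) ^ k *ᵥ v) y = 0 := by
      intro k
      induction k with
      | zero => intro v y hy; exact absurd hy (by have := (hwb y).1; push_cast; omega)
      | succ k ih =>
        intro v
        refine fun y hy => eq_zero_of_mulVec hM hW _ (-B + k) (fun x hx => ?_) y (by push_cast at hy; omega)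
        have hMA1 : M * (A - 1) = M₂ - M := by rw [Matrix.mul_sub, Matrix.mul_one, hMA]
        rw [Matrix.mulVec_mulVec, pow_succ', ← Matrix.mul_assoc, hMA1, ← Matrix.mulVec_mulVec,
          Matrix.mulVec, dotProduct]
        refine Finset.sum_eq_zero fun z _ => ?_
        by_contra hne
        obtain ⟨hz1, hz2⟩ := mul_ne_zero_iff.1 hne
        have hle := wt_add_nonpos hD hz1
        refine hz2 (ih v z ?_)
        rcases hle.lt_or_eq with hlt | heq
        · omega
        · exfalso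
          obtain ⟨hdd, hij⟩ := eq_of_wt_add hD hz1 heq
          apply hz1
          rw [← extEntry_coe (M₂ - M) x z, antidiag_eq hD x.1 z.1 rfl _ _ hij]
          have h0 := congrFun (congrFun (hD0 (d x.1)) ⟨x.1, rfl⟩) ⟨z.1, hdd.symm⟩
          change extEntry (M₂ - M) x.1 0 z.1 (d x.1 - 1) = 0 at h0
          rw [h0, mul_zero]
    refine ⟨2 * Finset.univ.sup d + 1, Matrix.ext_iff_mulVec.2 fun v => funext fun y => ?_⟩
    rw [Matrix.zero_mulVec, Pi.zero_apply]
    exact key _ v y (by have := (hwb y).2; push_cast; omega)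
  obtain ⟨N, hN⟩ := hnil
  have hp : p.Prime := Fact.out
  have hpow : A ^ p ^ N = 1 := by
    rcases isEmpty_or_nonempty ((k : Fin t) × Fin (d k)) with he | he
    · exact Subsingleton.elim _ _
    have : CharP (Matrix ((k : Fin t) × Fin (d k)) ((k : Fin t) × Fin (d k)) K) p := Matrix.charP p
    refine sub_eq_zero.1 ?_
    rw [← one_pow (p ^ N), ← sub_pow_char_pow_of_commute (p := p) (h := Commute.one_right A)]
    exact pow_eq_zero_of_le (Nat.lt_pow_self hp.one_lt).le hN
  obtain ⟨r, hr⟩ : ∃ r, p ^ N + 1 = r + r := (hp.odd_of_ne_two hp2).pow.add_one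
  have hsemi : SemiconjBy M A A.transpose := by
    show M * A = A.transpose * M
    rw [hMA]
    have h := congrArg Matrix.transpose hMA
    rw [Matrix.transpose_mul, hskM, hsk₂, Matrix.mul_neg, neg_inj] at h
    exact h.symm
  refine ⟨C₀ * A ^ r, hC₀.mul_left (hAJ.pow_left r), ?_⟩
  rw [show (C₀ * A ^ r).transpose * M₁ * (C₀ * A ^ r) = (A ^ r).transpose * M * A ^ r by
    rw [hMdef, Matrix.transpose_mul]; simp only [Matrix.mul_assoc],
    Matrix.transpose_pow, ← (hsemi.pow_right r).eq, Matrix.mul_assoc, ← pow_add, ← hr, pow_succ, hpow,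
    Matrix.one_mul, hMA]

end Cfsg.Agent.H66.Lead
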