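/-
Conjugacy of isometries of symplectic spaces: unipotent parts and the rest.
-/
import Cfsg.Agent.H66.UnipotentSp
import Cfsg.Agent.H66.Similar
import Cfsg.Agent.H67.IsometryConj

set_option autoImplicit false

open LinearMap (BilinForm)
open Module

namespace Cfsg.Agent.H66.SpSplit

universe u v w

variable {K : Type u} [Field K]
variable {V : Type v} [AddCommGroup V] [Module K V] [FiniteDimensional K V]
variable {V' : Type w} [AddCommGroup V'] [Module K V'] [FiniteDimensional K V']

/-- A symplectic space with an isometry. -/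
def IsSys (B : BilinForm K V) (T : Module.End K V) : Prop :=
  B.Nondegenerate ∧ B.IsAlt ∧ ∀ x y, B (T x) (T y) = B x y

/-- Isometric intertwining. -/
def IsIso (B : BilinForm K V) (T : Module.End K V) (B' : BilinForm K V') (T' : Module.End K V') : Prop :=
  ∃ φ : V ≃ₗ[K] V', (∀ x y, B' (φ x) (φ y) = B x y) ∧ ∀ x, φ (T x) = T' (φ x)

theorem IsSys.injective {B : BilinForm K V} {T : Module.End K V} (h : IsSys B T) :
    Function.Injective T := (injective_iff_map_eq_zero T).2 fun x hx =>
  h.1.1 x fun y => by rw [← h.2.2, hx, map_zero, LinearMap.zero_apply]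

theorem IsSys.neg {B : BilinForm K V} {T : Module.End K V} (h : IsSys B T) : IsSys B (-T) :=
  ⟨h.1, h.2.1, fun x y => by simp [h.2.2]⟩

omit [FiniteDimensional K V] [FiniteDimensional K V'] in
theorem IsIso.of_neg {B : BilinForm K V} {T : Module.End K V} {B' : BilinForm K V'}
    {T' : Module.End K V'} (h : IsIso B (-T) B' (-T')) : IsIso B T B' T' := by
  obtain ⟨φ, h1, h2⟩ := h
  exact ⟨φ, h1, fun x => neg_injective (by simpa using h2 x)⟩

/-- The generalised fixed space. -/
noncomputable def fixPart (T : Module.End K V) : Submodule K V :=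
  LinearMap.ker ((T - 1) ^ Module.finrank K V)

/-- The moved space. -/
noncomputable def movPart (T : Module.End K V) : Submodule K V :=
  LinearMap.range ((T - 1) ^ Module.finrank K V)

omit [FiniteDimensional K V] in
theorem comm_sub_one_pow (T : Module.End K V) (k : ℕ) : Commute T ((T - 1) ^ k) :=
  (((Commute.refl T).sub_right (Commute.one_right T))).pow_right k

omit [FiniteDimensional K V] in
theorem fixPart_mem (T : Module.End K V) {x : V} (hx : x ∈ fixPart T) : T x ∈ fixPart T := by
  rw [fixPart, LinearMap.mem_ker] at hx ⊢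
  rw [← Module.End.mul_apply, ← (comm_sub_one_pow T _).eq, Module.End.mul_apply, hx, map_zero]

omit [FiniteDimensional K V] in
theorem movPart_mem (T : Module.End K V) {x : V} (hx : x ∈ movPart T) : T x ∈ movPart T := by
  obtain ⟨y, rfl⟩ := hx
  exact ⟨T y, by rw [← Module.End.mul_apply, ← (comm_sub_one_pow T _).eq, Module.End.mul_apply]⟩

theorem isCompl_parts (T : Module.End K V) : IsCompl (fixPart T) (movPart T) := by
  have hdis : Disjoint (fixPart T) (movPart T) := by
    rw [Submodule.disjoint_def]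
    rintro x hx ⟨y, rfl⟩
    rw [fixPart, LinearMap.mem_ker, ← Module.End.mul_apply, ← pow_add] at hx
    exact LinearMap.mem_ker.1 (Module.End.ker_pow_le_ker_pow_finrank (T - 1) _ (LinearMap.mem_ker.2 hx))
  exact ⟨hdis, codisjoint_iff.2 (Submodule.eq_top_of_disjoint _ _
    (le_of_eq (by rw [add_comm]; exact (LinearMap.finrank_range_add_finrank_ker _).symm)) hdis)⟩

/-- The restriction to the fixed part. -/
noncomputable def fixEnd (T : Module.End K V) : Module.End K (fixPart T) :=
  T.restrict fun _ h => fixPart_mem T h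

/-- The restriction to the moved part. -/
noncomputable def movEnd (T : Module.End K V) : Module.End K (movPart T) :=
  T.restrict fun _ h => movPart_mem T h

omit [FiniteDimensional K V] in
theorem sub_one_pow_fixEnd (T : Module.End K V) (k : ℕ) (x : fixPart T) :
    (((fixEnd T - 1) ^ k) x : V) = ((T - 1) ^ k) x := by
  induction k generalizing x with
  | zero => rfl
  | succ k ih =>
    rw [pow_succ, pow_succ, Module.End.mul_apply, Module.End.mul_apply, ih]
    rfl

omit [FiniteDimensional K V] in
theorem fixEnd_isNilpotent (T : Module.End K V) : IsNilpotent (fixEnd T - 1) :=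
  ⟨Module.finrank K V, LinearMap.ext fun x => Subtype.ext (by
    rw [sub_one_pow_fixEnd]
    exact LinearMap.mem_ker.1 x.2)⟩

theorem ker_sub_one_movEnd (T : Module.End K V) {x : movPart T} (h : movEnd T x = x) : x = 0 := by
  refine Subtype.ext (Submodule.disjoint_def.1 (isCompl_parts T).disjoint x ?_ x.2)
  have h' : T x = x := congrArg Subtype.val h
  rw [fixPart, LinearMap.mem_ker]
  rcases Nat.eq_zero_or_pos (Module.finrank K V) with h0 | h0
  · have := Module.finrank_zero_iff.1 h0
    exact Subsingleton.elim _ _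
  · obtain ⟨j, hj⟩ := Nat.exists_eq_add_of_le' h0
    rw [hj, pow_succ, Module.End.mul_apply, LinearMap.sub_apply, h', Module.End.one_apply, sub_self,
      map_zero]

/-- Kernel dimensions of `(T - 1) ^ k` are seen in the fixed part. -/
theorem finrank_ker_fixEnd (T : Module.End K V) (k : ℕ) :
    finrank K (LinearMap.ker ((fixEnd T - 1) ^ k)) = finrank K (LinearMap.ker ((T - 1) ^ k)) := by
  have h : (LinearMap.ker ((fixEnd T - 1) ^ k)).map (fixPart T).subtype = LinearMap.ker ((T - 1) ^ k) := by
    ext x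
    constructor
    · rintro ⟨y, hy, rfl⟩
      rw [LinearMap.mem_ker, Submodule.subtype_apply, ← sub_one_pow_fixEnd, LinearMap.mem_ker.1 hy]
      rfl
    · intro hx
      have hm : x ∈ fixPart T := Module.End.ker_pow_le_ker_pow_finrank (T - 1) k hx
      exact ⟨⟨x, hm⟩, Subtype.ext (by rw [sub_one_pow_fixEnd]; exact hx), rfl⟩
  rw [← h]
  exact ((Submodule.equivMapOfInjective _ (fixPart T).injective_subtype _).finrank_eq)

theorem orth_parts {B : BilinForm K V} {T : Module.End K V} (h : IsSys B T) {x z : V}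
    (hx : x ∈ fixPart T) (hz : z ∈ movPart T) : B x z = 0 ∧ B z x = 0 := by
  have hT : Function.Bijective T := ⟨h.injective, LinearMap.surjective_of_injective h.injective⟩
  set S : Module.End K V := (LinearEquiv.ofBijective T hT).symm.toLinearMap with hS
  have hTS : ∀ y, T (S y) = y := fun y => (LinearEquiv.ofBijective T hT).apply_symm_apply y
  have hST : ∀ y, S (T y) = y := fun y => (LinearEquiv.ofBijective T hT).symm_apply_apply y
  have hadj : ∀ (k : ℕ) a b, B a (((T - 1) ^ k) b) = B (((S - 1) ^ k) a) b := by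
    intro k
    induction k with
    | zero => intro a b; rfl
    | succ k ih =>
      intro a b
      have h1 : ∀ c d, B c (T d) = B (S c) d := fun c d => by
        conv_lhs => rw [← hTS c]
        rw [h.2.2]
      rw [pow_succ, pow_succ', Module.End.mul_apply, Module.End.mul_apply, ih, LinearMap.sub_apply,
        Module.End.one_apply, map_sub, h1, LinearMap.sub_apply, Module.End.one_apply, map_sub,
        LinearMap.sub_apply]
  obtain ⟨b, rfl⟩ := hz
  have hTS' : T * S = 1 := LinearMap.ext hTS
  have hST' : S * T = 1 := LinearMap.ext hST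
  have hcomm : Commute S T := by rw [Commute, SemiconjBy, hST', hTS']
  have hneg : (S - 1) = (-S) * (T - 1) := by rw [neg_mul, mul_sub, mul_one, hST', neg_sub]
  have hzero : ((S - 1) ^ Module.finrank K V) x = 0 := by
    rw [hneg, ((hcomm.sub_right (Commute.one_right S)).neg_left).mul_pow, Module.End.mul_apply,
      LinearMap.mem_ker.1 hx, map_zero]
  have h0 : B x (((T - 1) ^ Module.finrank K V) b) = 0 := by rw [hadj, hzero, map_zero, LinearMap.zero_apply]
  exact ⟨h0, by rw [← h.2.1.neg_eq, h0, neg_zero]⟩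

theorem IsSys.fix {B : BilinForm K V} {T : Module.End K V} (h : IsSys B T) :
    IsSys (B.restrict (fixPart T)) (fixEnd T) :=
  ⟨H67.restrict_nondeg B h.1 _ _ (isCompl_parts T) fun _ hu _ hw => orth_parts h hu hw,
    fun x => h.2.1 x, fun x y => h.2.2 x y⟩

theorem IsSys.mov {B : BilinForm K V} {T : Module.End K V} (h : IsSys B T) :
    IsSys (B.restrict (movPart T)) (movEnd T) :=
  ⟨H67.restrict_nondeg B h.1 _ _ (isCompl_parts T).symm fun _ hu _ hw => (orth_parts h hw hu).symm,
    fun x => h.2.1 x, fun x y => h.2.2 x y⟩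

theorem isIso_of_parts {B : BilinForm K V} {T : Module.End K V} {B' : BilinForm K V'}
    {T' : Module.End K V'} (h : IsSys B T) (h' : IsSys B' T')
    (hF : IsIso (B.restrict (fixPart T)) (fixEnd T) (B'.restrict (fixPart T')) (fixEnd T'))
    (hM : IsIso (B.restrict (movPart T)) (movEnd T) (B'.restrict (movPart T')) (movEnd T')) :
    IsIso B T B' T' := by
  obtain ⟨φ, hφ, hφT⟩ := hF
  obtain ⟨ψ, hψ, hψT⟩ := hM
  let e := Submodule.prodEquivOfIsCompl _ _ (isCompl_parts T)
  let e' := Submodule.prodEquivOfIsCompl _ _ (isCompl_parts T')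
  let χ : V ≃ₗ[K] V' := e.symm.trans ((φ.prodCongr ψ).trans e')
  have hχ : ∀ (a : fixPart T) (b : movPart T), χ (a + b) = (φ a : V') + ψ b := fun a b => by
    have : (a : V) + b = e (a, b) := by simp [e]
    rw [this]
    simp [χ, e']
  refine ⟨χ, fun x y => ?_, fun x => ?_⟩
  · obtain ⟨⟨a, b⟩, rfl⟩ := e.surjective x
    obtain ⟨⟨c, d⟩, rfl⟩ := e.surjective y
    simp only [e, Submodule.coe_prodEquivOfIsCompl', hχ, map_add, LinearMap.add_apply]
    have e1 : B' (φ a : V') (φ c) = B (a : V) c := hφ a c
    have e2 : B' (ψ b : V') (ψ d) = B (b : V) d := hψ b d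
    rw [e1, e2, (orth_parts h' (φ a).2 (ψ d).2).1, (orth_parts h' (φ c).2 (ψ b).2).2,
      (orth_parts h a.2 d.2).1, (orth_parts h c.2 b.2).2]
  · obtain ⟨⟨a, b⟩, rfl⟩ := e.surjective x
    simp only [e, Submodule.coe_prodEquivOfIsCompl', map_add, hχ]
    have e1 := congrArg Subtype.val (hφT a)
    have e2 := congrArg Subtype.val (hψT b)
    have := hχ (fixEnd T a) (movEnd T b)
    simp only [fixEnd, movEnd, LinearMap.restrict_apply] at this e1 e2
    rw [← map_add χ, this, e1, e2]

/-- Similarities respect the parts. -/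
theorem exists_similar_parts {T : Module.End K V} {T' : Module.End K V'} (P : V ≃ₗ[K] V')
    (hP : ∀ x, P (T x) = T' (P x)) :
    (∃ P₁ : fixPart T ≃ₗ[K] fixPart T', ∀ x, P₁ (fixEnd T x) = fixEnd T' (P₁ x)) ∧
    (∃ P₂ : movPart T ≃ₗ[K] movPart T', ∀ x, P₂ (movEnd T x) = movEnd T' (P₂ x)) := by
  have hk : ∀ (k : ℕ) (x : V), P (((T - 1) ^ k) x) = ((T' - 1) ^ k) (P x) := fun k x => by
    have h := H66.intertwine_aeval (L := P.toLinearMap) hP ((Polynomial.X - 1) ^ k) x
    simpa using h
  have hfr : Module.finrank K V = Module.finrank K V' := P.finrank_eq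
  have hf : (fixPart T).map P.toLinearMap = fixPart T' := by
    ext y
    rw [Submodule.mem_map_equiv, fixPart, fixPart, LinearMap.mem_ker, LinearMap.mem_ker,
      ← P.map_eq_zero_iff, hk, P.apply_symm_apply, hfr]
  have hm : (movPart T).map P.toLinearMap = movPart T' := by
    ext y
    rw [Submodule.mem_map_equiv, movPart, movPart, LinearMap.mem_range, LinearMap.mem_range]
    constructor
    · rintro ⟨z, hz⟩
      exact ⟨P z, by rw [← hfr, ← hk, hz, P.apply_symm_apply]⟩
    · rintro ⟨z, hz⟩
      exact ⟨P.symm z, P.injective (by rw [hk, P.apply_symm_apply, P.apply_symm_apply, hfr, hz])⟩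
  exact ⟨⟨P.ofSubmodules _ _ hf, fun x => Subtype.ext (hP x)⟩,
    ⟨P.ofSubmodules _ _ hm, fun x => Subtype.ext (hP x)⟩⟩

/-- On a part without eigenvalue `1` or `-1` similarity gives isometry. -/
theorem isIso_of_moved [Finite K] {B : BilinForm K V} {T : Module.End K V} {B' : BilinForm K V'}
    {T' : Module.End K V'} (h : IsSys B T) (h' : IsSys B' T') (hinj : ∀ v, T (T v) = v → v = 0)
    (P : V ≃ₗ[K] V') (hP : ∀ x, P (T x) = T' (P x)) : IsIso B T B' T' := by
  let A : V ≃ₗ[K] V := LinearEquiv.ofInjectiveEndo T h.injective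
  have hA : ∀ x, A x = T x := fun x => rfl
  let B₂ : BilinForm K V := B'.compl₁₂ P.toLinearMap P.toLinearMap
  have hB₂ : ∀ x y, B₂ x y = B' (P x) (P y) := fun x y => rfl
  have hn₂ : B₂.Nondegenerate := by
    constructor
    · intro u hu
      exact P.map_eq_zero_iff.1 (h'.1.1 _ fun w => by simpa [hB₂] using hu (P.symm w))
    · intro u hu
      exact P.map_eq_zero_iff.1 (h'.1.2 _ fun w => by simpa [hB₂] using hu (P.symm w))
  obtain ⟨y, hy, hyB⟩ := H67.exists_commute_transport B B₂ h.1 hn₂ (-1) (by ring)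
    (fun x z => by rw [neg_one_mul, h.2.1.neg_eq])
    (fun x z => by rw [neg_one_mul, hB₂, hB₂, h'.2.1.neg_eq]) A (fun x z => h.2.2 x z)
    (fun x z => by rw [hB₂, hB₂, hA, hA, hP, hP, h'.2.2]) hinj
  refine ⟨y.symm.trans P, fun x z => ?_, fun x => ?_⟩
  · rw [LinearEquiv.trans_apply, LinearEquiv.trans_apply, ← hB₂, hyB, y.apply_symm_apply, y.apply_symm_apply]
  · have h1 : y.symm (T x) = T (y.symm x) := by
      rw [LinearEquiv.symm_apply_eq, ← hA (y.symm x), hy, y.apply_symm_apply, hA]
    rw [LinearEquiv.trans_apply, LinearEquiv.trans_apply, h1, hP]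

end Cfsg.Agent.H66.SpSplit
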