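/-
The classes of elements of order `p` of the symplectic group in odd characteristic.
-/
import Cfsg.Agent.H66.UnipotentSp

set_option autoImplicit false

open Matrix

namespace Cfsg.Agent.H66.Lead

variable {K : Type*} [Field K] {m t : ℕ} {d : Fin t → ℕ}

/-- A symplectic element read in a Jordan basis with Gram matrix `M`. -/
def Carrier (g : Matrix.symplecticGroup (Fin m) K) (d : Fin t → ℕ)
    (M : Matrix ((k : Fin t) × Fin (d k)) ((k : Fin t) × Fin (d k)) K) : Prop :=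
  ∃ L : (((k : Fin t) × Fin (d k)) → K) ≃ₗ[K] (Fin m ⊕ Fin m → K),
    (∀ v, L (Cfsg.jordanTypeMatrix d K *ᵥ v) = (g : Matrix (Fin m ⊕ Fin m) (Fin m ⊕ Fin m) K) *ᵥ L v) ∧
      ∀ u v, H2.sympBilin m K (L u) (L v) = u ⬝ᵥ (M *ᵥ v)

theorem sp_preserves (g : Matrix.symplecticGroup (Fin m) K) (u v : Fin m ⊕ Fin m → K) :
    H2.sympBilin m K ((g : Matrix (Fin m ⊕ Fin m) (Fin m ⊕ Fin m) K) *ᵥ u)
      ((g : Matrix (Fin m ⊕ Fin m) (Fin m ⊕ Fin m) K) *ᵥ v) = H2.sympBilin m K u v := by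
  have h := (H2.spEquivIsometries m K g).2 u v
  rwa [H2.spEquivIsometries_apply, H2.spEquivIsometries_apply] at h

theorem Carrier.kerDim_eq {g : Matrix.symplecticGroup (Fin m) K}
    {M : Matrix ((k : Fin t) × Fin (d k)) ((k : Fin t) × Fin (d k)) K}
    (hg : Carrier g d M) (hsum : ∑ k, d k = 2 * m) :
    kerDim (g : Matrix (Fin m ⊕ Fin m) (Fin m ⊕ Fin m) K) = typeKer d := by
  obtain ⟨L, hL, -⟩ := hg
  obtain ⟨e⟩ : Nonempty (((k : Fin t) × Fin (d k)) ≃ (Fin m ⊕ Fin m)) :=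
    ⟨Fintype.equivOfCardEq (by simp [Fintype.card_sigma, hsum]; omega)⟩
  have h : IsConj (Matrix.reindex e e (Cfsg.jordanTypeMatrix d K))
      (g : Matrix (Fin m ⊕ Fin m) (Fin m ⊕ Fin m) K) := by
    refine isConj_of_equiv ((LinearEquiv.funCongrLeft K K e).trans L) fun v => ?_
    have hw : ∀ w : Fin m ⊕ Fin m → K, LinearEquiv.funCongrLeft K K e w = w ∘ e := fun w => rfl
    show L (LinearEquiv.funCongrLeft K K e (Matrix.reindex e e (Cfsg.jordanTypeMatrix d K) *ᵥ v)) = _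
    rw [LinearEquiv.trans_apply, ← hL, hw, hw, Matrix.reindex_apply, Matrix.submatrix_mulVec_equiv,
      Equiv.symm_symm, Function.comp_assoc, Equiv.symm_comp_self, Function.comp_id]
  funext k
  rw [← kerDim_eq_of_isConj h, kerDim_reindex, kerDim_jordanTypeMatrix]

theorem exists_carrier_of_isConj (g : Matrix.symplecticGroup (Fin m) K)
    (e : ((k : Fin t) × Fin (d k)) ≃ (Fin m ⊕ Fin m))
    (h : IsConj (Matrix.reindex e e (Cfsg.jordanTypeMatrix d K))
      (g : Matrix (Fin m ⊕ Fin m) (Fin m ⊕ Fin m) K)) :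
    ∃ M, Inv M ∧ M.det ≠ 0 ∧ M.transpose = -M ∧ Carrier g d M := by
  classical
  obtain ⟨φ, hφ⟩ := exists_jordan_transport e h
  set M : Matrix ((k : Fin t) × Fin (d k)) ((k : Fin t) × Fin (d k)) K :=
    Matrix.of fun x y => H2.sympBilin m K (φ (Pi.single x 1)) (φ (Pi.single y 1)) with hMdef
  have hM : Matrix.toBilin' M = (H2.sympBilin m K).compl₁₂ φ.toLinearMap φ.toLinearMap :=
    (Pi.basisFun K _).ext fun x => (Pi.basisFun K _).ext fun y => by
      rw [Pi.basisFun_apply, Pi.basisFun_apply, Matrix.toBilin'_single]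
      rfl
  have hMv : ∀ u v, u ⬝ᵥ (M *ᵥ v) = H2.sympBilin m K (φ u) (φ v) := fun u v => by
    rw [← Matrix.toBilin'_apply', hM]; rfl
  refine ⟨M, ?_, ?_, ?_, φ, hφ, fun u v => (hMv u v).symm⟩
  · refine mul_congr_eq fun u v => ?_
    rw [hMv, hMv, hφ, hφ, sp_preserves]
  · intro h0
    obtain ⟨v, hv, hv0⟩ := Matrix.exists_mulVec_eq_zero_iff.2 h0
    refine hv (φ.map_eq_zero_iff.1 ((H2.sympBilin_nondegenerate m K).2 _ fun u => ?_))
    rw [← φ.apply_symm_apply u, ← hMv, hv0, dotProduct_zero]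
  · ext x y
    rw [Matrix.transpose_apply, Matrix.neg_apply, hMdef, Matrix.of_apply, Matrix.of_apply,
      LinearMap.BilinForm.IsAlt.neg_eq (H2.sympBilin_isAlt m K)]

theorem exists_sp_carrier (h2 : (2 : K) ≠ 0) (hsum : ∑ k, d k = 2 * m)
    {M : Matrix ((k : Fin t) × Fin (d k)) ((k : Fin t) × Fin (d k)) K}
    (hinv : Inv M) (hdet : M.det ≠ 0) (hskew : M.transpose = -M) :
    ∃ g : Matrix.symplecticGroup (Fin m) K, Carrier g d M := by
  classical
  obtain ⟨m', E, hm', hE⟩ := H2.exists_equiv_std (Matrix.toBilin' M)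
    (LinearMap.BilinForm.nondegenerate_toBilin'_of_det_ne_zero' _ hdet) (isAlt_toBilin' h2 hskew)
  obtain rfl : m' = m := by
    rw [Module.finrank_pi, Fintype.card_sigma] at hm'
    simp only [Fintype.card_fin] at hm'
    omega
  set J := Cfsg.jordanTypeMatrix d K with hJ
  have hJinv : ∀ u v, Matrix.toBilin' M (J *ᵥ u) (J *ᵥ v) = Matrix.toBilin' M u v := fun u v => by
    rw [Matrix.toBilin'_apply', Matrix.toBilin'_apply', Matrix.mulVec_mulVec, Matrix.dotProduct_mulVec,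
      Matrix.vecMul_mulVec, ← Matrix.dotProduct_mulVec, ← Matrix.mul_assoc, hinv]
  have hinj : Function.Injective (Matrix.toLin' J) := by
    rw [injective_iff_map_eq_zero]
    intro u hu
    refine (LinearMap.BilinForm.nondegenerate_toBilin'_of_det_ne_zero' M hdet).1 u fun v => ?_
    rw [← hJinv, ← Matrix.toLin'_apply J u, hu, map_zero, LinearMap.zero_apply]
  let G := (E.symm.trans (LinearEquiv.ofInjectiveEndo (Matrix.toLin' J) hinj)).trans E
  have hGa : ∀ z, G z = E (J *ᵥ E.symm z) := fun z => by simp [G]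
  have hG : ∀ x y, H2.sympBilin m' K (G x) (G y) = H2.sympBilin m' K x y := fun x y => by
    rw [H2.sympBilin_apply, H2.sympBilin_apply, hGa, hGa, hE, hJinv, ← hE, E.apply_symm_apply,
      E.apply_symm_apply]
  obtain ⟨g, hg⟩ := (H2.spEquivIsometries m' K).surjective ⟨G, hG⟩
  refine ⟨g, E, fun v => ?_, fun u v => ?_⟩
  · rw [← H2.spEquivIsometries_apply, hg]
    show E (J *ᵥ v) = G (E v)
    rw [hGa, E.symm_apply_apply]
  · rw [H2.sympBilin_apply, hE, Matrix.toBilin'_apply']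

theorem carrier_isConj_iff {g g' : Matrix.symplecticGroup (Fin m) K}
    {M M' : Matrix ((k : Fin t) × Fin (d k)) ((k : Fin t) × Fin (d k)) K}
    (hg : Carrier g d M) (hg' : Carrier g' d M') :
    IsConj g g' ↔ ∃ C, Commute C (Cfsg.jordanTypeMatrix d K) ∧ C.transpose * M' * C = M := by
  classical
  obtain ⟨L, hL, hLB⟩ := hg
  obtain ⟨L', hL', hLB'⟩ := hg'
  constructor
  · intro h
    obtain ⟨c, hc⟩ := isConj_iff.1 h
    have hcg : (c : Matrix (Fin m ⊕ Fin m) (Fin m ⊕ Fin m) K) * g = g' * c := by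
      have h' : c * g = g' * c := by rw [← hc, inv_mul_cancel_right]
      exact congrArg Subtype.val h'
    set C := LinearMap.toMatrix'
      ((L'.symm.toLinearMap.comp (Matrix.toLin' (c : Matrix (Fin m ⊕ Fin m) (Fin m ⊕ Fin m) K))).comp
        L.toLinearMap) with hC
    have hCv : ∀ v, L' (C *ᵥ v) = (c : Matrix (Fin m ⊕ Fin m) (Fin m ⊕ Fin m) K) *ᵥ L v := fun v => by
      rw [hC, LinearMap.toMatrix'_mulVec]
      simp
    refine ⟨C, Matrix.ext_iff_mulVec.2 fun v => L'.injective ?_, mul_congr_eq fun u v => ?_⟩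
    · rw [← Matrix.mulVec_mulVec, ← Matrix.mulVec_mulVec, hCv, hL, hL', hCv, Matrix.mulVec_mulVec,
        Matrix.mulVec_mulVec, hcg]
    · rw [← hLB', hCv, hCv, sp_preserves, hLB]
  · rintro ⟨C, hC, hCM⟩
    let f : (Fin m ⊕ Fin m → K) →ₗ[K] (Fin m ⊕ Fin m → K) :=
      (L'.toLinearMap.comp (Matrix.toLin' C)).comp L.symm.toLinearMap
    have hf : ∀ z, f z = L' (C *ᵥ L.symm z) := fun z => by simp [f]
    have hpres : ∀ x y, H2.sympBilin m K (f x) (f y) = H2.sympBilin m K x y := fun x y => by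
      rw [hf, hf, hLB']
      conv_rhs => rw [← L.apply_symm_apply x, ← L.apply_symm_apply y, hLB, ← hCM]
      rw [Matrix.mulVec_mulVec, ← Matrix.vecMul_transpose, ← Matrix.dotProduct_mulVec,
        Matrix.mulVec_mulVec, ← Matrix.mul_assoc]
    have hinj : Function.Injective f := by
      rw [injective_iff_map_eq_zero]
      intro u hu
      refine (H2.sympBilin_nondegenerate m K).1 u fun v => ?_
      rw [← hpres, hu, map_zero, LinearMap.zero_apply]
    obtain ⟨c, hc⟩ := (H2.spEquivIsometries m K).surjective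
      ⟨LinearEquiv.ofInjectiveEndo f hinj, fun x y => by simpa using hpres x y⟩
    have hcv : ∀ z, (c : Matrix (Fin m ⊕ Fin m) (Fin m ⊕ Fin m) K) *ᵥ z = f z := fun z => by
      rw [← H2.spEquivIsometries_apply, hc]
      simp
    refine isConj_iff.2 ⟨c, mul_inv_eq_iff_eq_mul.2 (Subtype.ext (Matrix.ext_iff_mulVec.2 fun z => ?_))⟩
    show ((c : Matrix (Fin m ⊕ Fin m) (Fin m ⊕ Fin m) K) * (g : Matrix (Fin m ⊕ Fin m) (Fin m ⊕ Fin m) K)) *ᵥ z =
      ((g' : Matrix (Fin m ⊕ Fin m) (Fin m ⊕ Fin m) K) * (c : Matrix (Fin m ⊕ Fin m) (Fin m ⊕ Fin m) K)) *ᵥ z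
    rw [← Matrix.mulVec_mulVec, ← Matrix.mulVec_mulVec, hcv, hcv, hf, hf]
    conv_lhs => rw [← L.apply_symm_apply z, ← hL, L.symm_apply_apply, Matrix.mulVec_mulVec, hC.eq,
      ← Matrix.mulVec_mulVec, hL']

/-- Symmetric or skew leading targets with prescribed square classes. -/
theorem exists_target [Fintype K] (hd : ∀ k, 1 ≤ d k) (h2 : (2 : K) ≠ 0)
    {M : Matrix ((k : Fin t) × Fin (d k)) ((k : Fin t) × Fin (d k)) K}
    (hM : Inv M) (hdet : M.det ≠ 0) (hskew : M.transpose = -M) (s : ℕ) (b : Bool) :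
    ∃ T : Matrix {a : Fin t // d a = s} {a : Fin t // d a = s} K, T.det ≠ 0 ∧
      T.transpose = (-1 : K) ^ s • T ∧ (Even s → (∃ a, d a = s) → (IsSquare T.det ↔ b = true)) := by
  classical
  by_cases h : Even s ∧ ∃ a, d a = s
  · obtain ⟨hs, a, ha⟩ := h
    obtain ⟨ν, hν⟩ := FiniteField.exists_nonsquare (F := K) fun hc => h2 (by
      have : CharP K 2 := (ringChar.eq_iff).1 hc
      exact CharTwo.two_eq_zero)
    let c : K := if b then 1 else ν
    have hc0 : c ≠ 0 := by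
      cases b
      · exact fun h0 => hν ((show ν = 0 from h0) ▸ IsSquare.zero)
      · exact one_ne_zero
    let f : {a : Fin t // d a = s} → K := Function.update (fun _ => 1) ⟨a, ha⟩ c
    have hf : (Matrix.diagonal f).det = c := by
      rw [Matrix.det_diagonal, Finset.prod_update_of_mem (Finset.mem_univ _)]
      simp
    refine ⟨Matrix.diagonal f, hf ▸ hc0, ?_, fun _ _ => ?_⟩
    · rw [Matrix.diagonal_transpose, hs.neg_one_pow, one_smul]
    · rw [hf]
      cases b
      · simpa [c] using hν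
      · simp [c]
  · exact ⟨lead M s, lead_det_ne_zero hM hdet hd s, lead_transpose_of_skew hM hskew hd s,
      fun h1 h3 => absurd ⟨h1, h3⟩ h⟩

end Cfsg.Agent.H66.Lead
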