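/-
Signs of unipotent isometries, and conjugacy in symplectic groups by similarity and signs.
-/
import Cfsg.Agent.H66.SpSplit
import Cfsg.Agent.H66.UnipotentSpCount

set_option autoImplicit false

open LinearMap (BilinForm)
open Module

namespace Cfsg.Agent.H66.SpSplit

universe u v w

variable {K : Type u} [Field K]
variable {V : Type v} [AddCommGroup V] [Module K V] [FiniteDimensional K V]
variable {V' : Type w} [AddCommGroup V'] [Module K V'] [FiniteDimensional K V']

/-- Kernel dimensions of the powers of `T - 1`. -/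
noncomputable def kd (T : Module.End K V) (k : ℕ) : ℕ :=
  finrank K (LinearMap.ker ((T - 1) ^ k))

/-- A fixed block list with given kernel dimensions. -/
noncomputable def dOf (f : ℕ → ℕ) : Σ t : ℕ, Fin t → ℕ :=
  Classical.epsilon fun d : Σ t : ℕ, Fin t → ℕ => (∀ i, 1 ≤ d.2 i) ∧ H66.typeKer d.2 = f

omit [FiniteDimensional K V] in
theorem aeval_sub_one_pow (T : Module.End K V) (k : ℕ) :
    Polynomial.aeval T ((Polynomial.X - Polynomial.C (1 : K)) ^ k) = (T - 1) ^ k := by simp

theorem dOf_spec (T : Module.End K V) (hT : IsNilpotent (T - 1)) :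
    (∀ i, 1 ≤ (dOf (kd T)).2 i) ∧ H66.typeKer (dOf (kd T)).2 = kd T := by
  have hex : ∃ d : Σ t : ℕ, Fin t → ℕ, (∀ i, 1 ≤ d.2 i) ∧ H66.typeKer d.2 = kd T := by
    classical
    obtain ⟨N, hN⟩ := hT
    obtain ⟨ι, _, p, e, hf⟩ := H66.exists_isDecomp T
    refine ⟨⟨Fintype.card {i // p i = Polynomial.X - Polynomial.C 1},
      fun j => e ((Fintype.equivFin {i // p i = Polynomial.X - Polynomial.C 1}).symm j).1⟩,
      fun j => hf.pos _, funext fun k => ?_⟩
    have h1 := hf.finrank_ker_pow (Polynomial.monic_X_sub_C (1 : K)) (Polynomial.irreducible_X_sub_C 1) k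
    rw [Polynomial.natDegree_X_sub_C, one_mul, aeval_sub_one_pow] at h1
    rw [kd, h1, H66.typeKer]
    refine ((Fintype.equivFin {i // p i = Polynomial.X - Polynomial.C 1}).symm.sum_comp
      fun i => min k (e i.1)).trans ?_
    exact (Finset.sum_subtype _ (fun x => by simp) fun i => min k (e i)).symm
  exact Classical.epsilon_spec hex

omit [FiniteDimensional K V] in
theorem ker_aeval_eq_bot {P : Polynomial K} (hP : P.Monic) (hPi : Irreducible P)
    (hPX : P ≠ Polynomial.X - Polynomial.C 1) {k : ℕ} (S : Module.End K V) (hS : IsNilpotent (S - 1)) :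
    LinearMap.ker (Polynomial.aeval S (P ^ k)) = ⊥ := by
  obtain ⟨N, hN⟩ := hS
  have hco : IsCoprime (P ^ k) ((Polynomial.X - Polynomial.C 1) ^ N) := by
    refine (hPi.coprime_iff_not_dvd.2 fun hd => hPX ?_).pow
    exact Polynomial.eq_of_monic_of_associated hP (Polynomial.monic_X_sub_C 1)
      (hPi.associated_of_dvd (Polynomial.irreducible_X_sub_C 1) hd)
  obtain ⟨a, b, hab⟩ := hco
  have h1 := congrArg (Polynomial.aeval S) hab
  rw [map_add, map_mul, map_mul, aeval_sub_one_pow, hN, mul_zero, add_zero, map_one] at h1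
  rw [LinearMap.ker_eq_bot']
  intro x hx
  have h2 := LinearMap.congr_fun h1 x
  rw [Module.End.mul_apply, hx, map_zero, Module.End.one_apply] at h2
  exact h2.symm

/-- Unipotent endomorphisms with the same kernel dimensions are similar. -/
theorem exists_similar_of_kd {T : Module.End K V} {T' : Module.End K V'} (hT : IsNilpotent (T - 1))
    (hT' : IsNilpotent (T' - 1)) (h : kd T = kd T') : ∃ L : V ≃ₗ[K] V', ∀ x, L (T x) = T' (L x) := by
  classical
  refine H66.exists_equiv_of_finrank_ker_eq T T' fun P k hP hPi => ?_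
  by_cases hPX : P = Polynomial.X - Polynomial.C 1
  · subst hPX
    rw [aeval_sub_one_pow, aeval_sub_one_pow]
    exact congrFun h k
  · rw [ker_aeval_eq_bot hP hPi hPX T hT, ker_aeval_eq_bot hP hPi hPX T' hT', finrank_bot, finrank_bot]

/-- A coordinate system adapted to a unipotent isometry. -/
def IsFrame (B : BilinForm K V) (T : Module.End K V) {t : ℕ} (d : Fin t → ℕ)
    (φ : (((k : Fin t) × Fin (d k)) → K) ≃ₗ[K] V)
    (M : Matrix ((k : Fin t) × Fin (d k)) ((k : Fin t) × Fin (d k)) K) : Prop :=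
  (∀ v, φ ((Cfsg.jordanTypeMatrix d K).mulVec v) = T (φ v)) ∧
    ∀ u v, B (φ u) (φ v) = u ⬝ᵥ M.mulVec v

/-- The sign attached to the blocks of size `s`. -/
noncomputable def sgn (B : BilinForm K V) (T : Module.End K V) (s : ℕ) : Prop :=
  ∃ (φ : (((k : Fin (dOf (kd T)).1) × Fin ((dOf (kd T)).2 k)) → K) ≃ₗ[K] V)
    (M : Matrix _ _ K), IsFrame B T (dOf (kd T)).2 φ M ∧ IsSquare (Lead.lead M s).det

theorem exists_frame {B : BilinForm K V} {T : Module.End K V} (h : IsSys B T)
    (hT : IsNilpotent (T - 1)) {t : ℕ} (d : Fin t → ℕ) (hd : H66.typeKer d = kd T) :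
    ∃ φ M, IsFrame B T d φ M ∧ Lead.Inv M ∧ M.det ≠ 0 ∧ M.transpose = -M := by
  classical
  have hJ : IsNilpotent (Matrix.toLin' (Cfsg.jordanTypeMatrix d K) - 1) := by
    have h1 := (H66.isNilpotent_jordanTypeMatrix_sub_one (K := K) d).map Matrix.toLinAlgEquiv'
    rw [map_sub, map_one] at h1
    exact h1
  obtain ⟨φ, hφ⟩ := exists_similar_of_kd hJ hT (funext fun k => by
    rw [kd, ← congrFun hd k, ← H66.kerDim_jordanTypeMatrix (K := K) d k, H66.kerDim]
    have e : (Matrix.toLin' (Cfsg.jordanTypeMatrix d K) - 1) ^ k =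
        Matrix.toLin' ((Cfsg.jordanTypeMatrix d K - 1) ^ k) := by
      show _ = Matrix.toLinAlgEquiv' ((Cfsg.jordanTypeMatrix d K - 1) ^ k)
      rw [map_pow, map_sub, map_one]
      rfl
    rw [e])
  have hφ' : ∀ v, φ ((Cfsg.jordanTypeMatrix d K).mulVec v) = T (φ v) := fun v => by
    rw [← hφ v, Matrix.toLin'_apply]
  set M := LinearMap.BilinForm.toMatrix' (B.compl₁₂ φ.toLinearMap φ.toLinearMap) with hMdef
  have hMv : ∀ u v, B (φ u) (φ v) = u ⬝ᵥ M.mulVec v := fun u v => by
    rw [← Matrix.toBilin'_apply', hMdef, Matrix.toBilin'_toMatrix']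
    rfl
  refine ⟨φ, M, ⟨hφ', hMv⟩, ?_, ?_, ?_⟩
  · refine Lead.mul_congr_eq fun u v => ?_
    rw [← hMv, ← hMv, hφ', hφ', h.2.2]
  · intro h0
    obtain ⟨v, hv, hv0⟩ := Matrix.exists_mulVec_eq_zero_iff.2 h0
    refine hv (φ.map_eq_zero_iff.1 (h.1.2 _ fun u => ?_))
    rw [← φ.apply_symm_apply u, hMv, hv0, dotProduct_zero]
  · ext x y
    rw [Matrix.transpose_apply, Matrix.neg_apply]
    have e1 := hMv (Pi.single y 1) (Pi.single x 1)
    have e2 := hMv (Pi.single x 1) (Pi.single y 1)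
    simp only [Matrix.mulVec_single_one, single_dotProduct, one_mul, Matrix.col_apply] at e1 e2
    rw [← e1, ← e2, h.2.1.neg_eq]

omit [FiniteDimensional K V] [FiniteDimensional K V'] in
theorem isIso_of_frames {B : BilinForm K V} {T : Module.End K V} {B' : BilinForm K V'}
    {T' : Module.End K V'} {t : ℕ} {d : Fin t → ℕ}
    {φ : (((k : Fin t) × Fin (d k)) → K) ≃ₗ[K] V} {φ' : (((k : Fin t) × Fin (d k)) → K) ≃ₗ[K] V'}
    {M M' : Matrix ((k : Fin t) × Fin (d k)) ((k : Fin t) × Fin (d k)) K}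
    (h : IsFrame B T d φ M) (h' : IsFrame B' T' d φ' M')
    (C : Matrix ((k : Fin t) × Fin (d k)) ((k : Fin t) × Fin (d k)) K)
    (hC : Commute C (Cfsg.jordanTypeMatrix d K)) (hCM : C.transpose * M' * C = M) (hM : M.det ≠ 0) :
    IsIso B T B' T' := by
  classical
  have hCu : Function.Bijective (Matrix.toLin' C) := by
    have hdet : IsUnit C.det := isUnit_iff_ne_zero.2 fun h0 => hM (by
      rw [← hCM, Matrix.det_mul, h0, mul_zero])
    exact (LinearEquiv.ofBijective (Matrix.toLin' C)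
      ⟨(Matrix.mulVec_injective_iff_isUnit.2 ((Matrix.isUnit_iff_isUnit_det C).2 hdet)),
        Matrix.mulVec_surjective_iff_isUnit.2 ((Matrix.isUnit_iff_isUnit_det C).2 hdet)⟩).bijective
  refine ⟨(φ.symm.trans (LinearEquiv.ofBijective (Matrix.toLin' C) hCu)).trans φ', fun x y => ?_, fun x => ?_⟩
  · obtain ⟨u, rfl⟩ := φ.surjective x
    obtain ⟨v, rfl⟩ := φ.surjective y
    simp only [LinearEquiv.trans_apply, φ.symm_apply_apply, LinearEquiv.ofBijective_apply, Matrix.toLin'_apply]
    rw [h'.2, h.2, ← hCM, Matrix.mulVec_mulVec, ← Matrix.vecMul_transpose, ← Matrix.dotProduct_mulVec,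
      Matrix.mulVec_mulVec, ← Matrix.mul_assoc]
  · obtain ⟨u, rfl⟩ := φ.surjective x
    rw [← h.1]
    simp only [LinearEquiv.trans_apply, φ.symm_apply_apply, LinearEquiv.ofBijective_apply, Matrix.toLin'_apply]
    rw [Matrix.mulVec_mulVec, hC.eq, ← Matrix.mulVec_mulVec, h'.1]

/-- The square class does not depend on the frame. -/
theorem isSquare_lead_iff {B : BilinForm K V} {T : Module.End K V} {t : ℕ} {d : Fin t → ℕ}
    (hd : ∀ i, 1 ≤ d i)
    {φ φ' : (((k : Fin t) × Fin (d k)) → K) ≃ₗ[K] V}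
    {M M' : Matrix ((k : Fin t) × Fin (d k)) ((k : Fin t) × Fin (d k)) K}
    (h : IsFrame B T d φ M) (h' : IsFrame B T d φ' M') (hi : Lead.Inv M') (hdet : M.det ≠ 0)
    (hi0 : Lead.Inv M) (s : ℕ) : IsSquare (Lead.lead M' s).det → IsSquare (Lead.lead M s).det := by
  classical
  set C := LinearMap.toMatrix' (φ.trans φ'.symm).toLinearMap with hCdef
  have hC : ∀ v, φ' (C.mulVec v) = φ v := fun v => by
    rw [hCdef, LinearMap.toMatrix'_mulVec]; simp
  have hCJ : Commute C (Cfsg.jordanTypeMatrix d K) := Matrix.ext_iff_mulVec.2 fun v => φ'.injective (by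
    rw [← Matrix.mulVec_mulVec, ← Matrix.mulVec_mulVec, hC, h.1, h'.1, hC])
  have hCM : C.transpose * M' * C = M := Lead.mul_congr_eq fun u v => by rw [← h'.2, hC, hC, h.2]
  rintro ⟨r, hr⟩
  refine ⟨(Lead.levi C s).det * r, ?_⟩
  rw [← hCM, Lead.lead_congr hi hCJ hCJ hd, Matrix.det_mul, Matrix.det_mul, Matrix.det_transpose, hr]
  ring

/-- Unipotent isometries with the same kernel dimensions and signs are isometric. -/
theorem isIso_of_unipotent [Fintype K] {p : ℕ} [Fact p.Prime] [CharP K p] (hp : p ≠ 2)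
    {B : BilinForm K V} {T : Module.End K V} {B' : BilinForm K V'} {T' : Module.End K V'}
    (h : IsSys B T) (h' : IsSys B' T') (hT : IsNilpotent (T - 1)) (hT' : IsNilpotent (T' - 1))
    (hkd : kd T = kd T')
    (hs : ∀ s, Even s → (∃ a, (dOf (kd T)).2 a = s) → (sgn B T s ↔ sgn B' T' s)) :
    IsIso B T B' T' := by
  classical
  have hp1 : p.Prime := Fact.out
  have h2 : (2 : K) ≠ 0 := fun h0 => hp ((Nat.prime_dvd_prime_iff_eq hp1 Nat.prime_two).1
    ((CharP.cast_eq_zero_iff K p 2).1 (by exact_mod_cast h0)))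
  unfold sgn at hs
  obtain ⟨hd, hdk⟩ := dOf_spec T hT
  rw [← hkd] at hs
  obtain ⟨φ, M, hF, hMi, hMd, hMs⟩ := exists_frame h hT (dOf (kd T)).2 hdk
  obtain ⟨φ', M', hF', hMi', hMd', hMs'⟩ := exists_frame h' hT' (dOf (kd T)).2 (hdk.trans hkd)
  obtain ⟨C, hC, hCM⟩ := Lead.exists_commute_congr hp hd hMi' hMi hMd' hMd hMs' hMs fun s => by
    have ht1 := Lead.lead_transpose_of_skew hMi' hMs' hd s
    have ht2 := Lead.lead_transpose_of_skew hMi hMs hd s
    have hd1 := Lead.lead_det_ne_zero hMi' hMd' hd s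
    have hd2 := Lead.lead_det_ne_zero hMi hMd hd s
    rcases Nat.even_or_odd s with he | ho
    · by_cases hex : ∃ a, (dOf (kd T)).2 a = s
      · rw [he.neg_one_pow, one_smul] at ht1 ht2
        refine Lead.exists_congr_symm h2 _ _ ht1 ht2 hd1 hd2 ?_
        have hiff : IsSquare (Lead.lead M s).det ↔ IsSquare (Lead.lead M' s).det := by
          constructor
          · intro hq
            obtain ⟨ψ, N, hN, hNq⟩ := (hs s he hex).1 ⟨φ, M, hF, hq⟩
            have hNi : Lead.Inv N := Lead.mul_congr_eq fun u v => by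
              rw [← hN.2, ← hN.2, hN.1, hN.1, h'.2.2]
            exact isSquare_lead_iff hd hF' hN hNi hMd' hMi' s hNq
          · intro hq
            obtain ⟨ψ, N, hN, hNq⟩ := (hs s he hex).2 ⟨φ', M', hF', hq⟩
            have hNi : Lead.Inv N := Lead.mul_congr_eq fun u v => by
              rw [← hN.2, ← hN.2, hN.1, hN.1, h.2.2]
            exact isSquare_lead_iff hd hF hN hNi hMd hMi s hNq
        by_cases hsq : IsSquare (Lead.lead M s).det
        · exact (hiff.1 hsq).mul hsq
        · exact H4.isSquare_mul_of_not (fun hh => hsq (hiff.2 hh)) hsq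
      · have : IsEmpty {a // (dOf (kd T)).2 a = s} := ⟨fun a => hex ⟨a.1, a.2⟩⟩
        exact ⟨1, Subsingleton.elim _ _⟩
    · rw [ho.neg_one_pow, neg_one_smul] at ht1 ht2
      exact Lead.exists_congr_skew h2 _ _ ht1 ht2 hd1 hd2
  exact isIso_of_frames hF hF' C hC hCM hMd

/-- First unipotent part: the generalised fixed space of `T`. -/
noncomputable def sgnPlus (B : BilinForm K V) (T : Module.End K V) (s : ℕ) : Prop :=
  sgn (B.restrict (fixPart T)) (fixEnd T) s

/-- Second unipotent part: the generalised fixed space of `-T` inside the moved space of `T`. -/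
noncomputable def sgnMinus (B : BilinForm K V) (T : Module.End K V) (s : ℕ) : Prop :=
  sgn ((B.restrict (movPart T)).restrict (fixPart (-movEnd T))) (fixEnd (-movEnd T)) s

/-- Blocks of size `s` at the eigenvalue `1`. -/
def hasPlus (T : Module.End K V) (s : ℕ) : Prop := ∃ a, (dOf (kd (fixEnd T))).2 a = s

/-- Blocks of size `s` at the eigenvalue `-1`. -/
def hasMinus (T : Module.End K V) (s : ℕ) : Prop :=
  ∃ a, (dOf (kd (fixEnd (-movEnd T)))).2 a = s

/-- Similar isometries with equal signs are isometric. -/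
theorem isIso_of_similar [Fintype K] {p : ℕ} [Fact p.Prime] [CharP K p] (hp : p ≠ 2)
    {B : BilinForm K V} {T : Module.End K V} {B' : BilinForm K V'} {T' : Module.End K V'}
    (h : IsSys B T) (h' : IsSys B' T') (P : V ≃ₗ[K] V') (hP : ∀ x, P (T x) = T' (P x))
    (hplus : ∀ s, Even s → hasPlus T s → (sgnPlus B T s ↔ sgnPlus B' T' s))
    (hminus : ∀ s, Even s → hasMinus T s → (sgnMinus B T s ↔ sgnMinus B' T' s)) :
    IsIso B T B' T' := by
  have hkd : ∀ {W : Type v} [AddCommGroup W] [Module K W] [FiniteDimensional K W] {W' : Type w}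
      [AddCommGroup W'] [Module K W'] [FiniteDimensional K W'] (S : Module.End K W) (S' : Module.End K W')
      (L : W ≃ₗ[K] W'), (∀ x, L (S x) = S' (L x)) → kd S = kd S' := by
    intro W _ _ _ W' _ _ _ S S' L hL
    funext k
    have h1 := H66.finrank_ker_aeval_eq_of_intertwine hL ((Polynomial.X - Polynomial.C (1 : K)) ^ k)
    rwa [aeval_sub_one_pow, aeval_sub_one_pow] at h1
  obtain ⟨⟨P₁, hP₁⟩, ⟨P₂, hP₂⟩⟩ := exists_similar_parts P hP
  refine isIso_of_parts h h' (isIso_of_unipotent hp h.fix h'.fix (fixEnd_isNilpotent T) (fixEnd_isNilpotent T')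
    (hkd _ _ P₁ hP₁) hplus) ?_
  have hP₂' : ∀ x, P₂ ((-movEnd T) x) = (-movEnd T') (P₂ x) := fun x => by simp [hP₂]
  obtain ⟨⟨P₃, hP₃⟩, ⟨P₄, hP₄⟩⟩ := exists_similar_parts P₂ hP₂'
  refine IsIso.of_neg (isIso_of_parts h.mov.neg h'.mov.neg
    (isIso_of_unipotent hp h.mov.neg.fix h'.mov.neg.fix (fixEnd_isNilpotent _) (fixEnd_isNilpotent _)
      (hkd _ _ P₃ hP₃) hminus) (isIso_of_moved h.mov.neg.mov h'.mov.neg.mov (fun v hv => ?_) P₄ hP₄))
  set U := movEnd (-movEnd T) with hU
  have h1 : (U - 1) ((U + 1) v) = 0 := by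
    simp only [LinearMap.sub_apply, LinearMap.add_apply, Module.End.one_apply, map_add, hv]
    abel
  have h2 : (U + 1) v = 0 := ker_sub_one_movEnd (-movEnd T)
    (by rwa [LinearMap.sub_apply, Module.End.one_apply, sub_eq_zero] at h1)
  rw [LinearMap.add_apply, Module.End.one_apply] at h2
  have h3 : movEnd T v.1 = v.1 := by
    have h4 : -(movEnd T v.1) + v.1 = 0 := congrArg Subtype.val h2
    rwa [neg_add_eq_zero] at h4
  exact Subtype.ext (ker_sub_one_movEnd T h3)

end Cfsg.Agent.H66.SpSplit
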