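/-
Invariant symmetric matrices of unipotent Jordan matrices: congruence and determinants.
-/
import Cfsg.Agent.H66.UnipotentSp

set_option autoImplicit false

open Matrix

namespace Cfsg.Agent.H66.Lead

variable {K : Type*} [Field K] {t : ℕ} {d : Fin t → ℕ}

theorem lead_transpose_of_symm {M : Matrix ((k : Fin t) × Fin (d k)) ((k : Fin t) × Fin (d k)) K}
    (hM : Inv M) (hsym : M.transpose = M) (hd : ∀ k, 1 ≤ d k) (s : ℕ) :
    (lead M s).transpose = -((-1 : K) ^ s) • lead M s := by
  ext a b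
  have hs : s - 1 + 0 + 1 = s := by have := a.2; have := hd a.1; omega
  show extEntry M b.1 0 a.1 (s - 1) = -((-1 : K) ^ s) * extEntry M a.1 0 b.1 (s - 1)
  rw [← extEntry_transpose, hsym, antidiag_eq hM a.1 b.1 a.2 (s - 1) 0 hs]
  have hp : (-1 : K) ^ s = (-1) ^ (s - 1) * (-1) := by
    rw [← pow_succ]
    congr 1
    omega
  rw [hp]
  ring

/-- Two invariant matrices with the same leading parts differ by a unipotent factor. -/
theorem isNilpotent_inv_mul_sub_one {M N : Matrix ((k : Fin t) × Fin (d k)) ((k : Fin t) × Fin (d k)) K}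
    (hM : Inv M) (hN : Inv N) (hlead : ∀ s, lead M s = lead N s) (hW : ∀ s, (lead N s).det ≠ 0) :
    IsNilpotent (M⁻¹ * N - 1) := by
  classical
  have hW' : ∀ s, (lead M s).det ≠ 0 := fun s => by rw [hlead]; exact hW s
  have hu : IsUnit M.det := isUnit_iff_ne_zero.2 (det_ne_zero_of_lead hM hW')
  have hMA : M * (M⁻¹ * N) = N := by rw [← Matrix.mul_assoc, Matrix.mul_nonsing_inv _ hu, Matrix.one_mul]
  set A := M⁻¹ * N
  set B : ℤ := ((Finset.univ.sup d : ℕ) : ℤ) with hB
  have hwb : ∀ y : (k : Fin t) × Fin (d k), -B ≤ wt y ∧ wt y < B + 1 := fun y => by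
    have hyb : d y.1 ≤ Finset.univ.sup d := Finset.le_sup (Finset.mem_univ _)
    have := y.2.2
    unfold wt
    omega
  have hD : Inv (N - M) := by
    unfold Inv at *
    rw [Matrix.mul_sub, Matrix.sub_mul, hN, hM]
  have hD0 : ∀ s, lead (N - M) s = 0 := fun s => by
    have h := lead_add (N - M) M s
    rw [sub_add_cancel, hlead] at h
    exact right_eq_add.1 h
  have key : ∀ k : ℕ, ∀ v y, wt y < -B + k → ((A - 1) ^ k *ᵥ v) y = 0 := by
    intro k
    induction k with
    | zero => intro v y hy; exact absurd hy (by have := (hwb y).1; push_cast; omega)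
    | succ k ih =>
      intro v
      refine fun y hy => eq_zero_of_mulVec hM hW' _ (-B + k) (fun x hx => ?_) y (by push_cast at hy; omega)
      have hMA1 : M * (A - 1) = N - M := by rw [Matrix.mul_sub, Matrix.mul_one, hMA]
      rw [Matrix.mulVec_mulVec, pow_succ', ← Matrix.mul_assoc, hMA1, ← Matrix.mulVec_mulVec,
        Matrix.mulVec, dotProduct]
      refine Finset.sum_eq_zero fun z _ => ?_
      by_contra hne
      obtain ⟨hz1, hz2⟩ := mul_ne_zero_iff.1 hne
      have hle := wt_add_nonpos hD hz1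
      refine hz2 (ih v z ?_)
      rcases hle.lt_or_eq with hlt | heq
      · omega
      · exfalso
        obtain ⟨hdd, hij⟩ := eq_of_wt_add hD hz1 heq
        apply hz1
        rw [← extEntry_coe (N - M) x z, antidiag_eq hD x.1 z.1 rfl _ _ hij]
        have h0 := congrFun (congrFun (hD0 (d x.1)) ⟨x.1, rfl⟩) ⟨z.1, hdd.symm⟩
        change extEntry (N - M) x.1 0 z.1 (d x.1 - 1) = 0 at h0
        rw [h0, mul_zero]
  refine ⟨2 * Finset.univ.sup d + 1, Matrix.ext_iff_mulVec.2 fun v => funext fun y => ?_⟩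
  rw [Matrix.zero_mulVec, Pi.zero_apply]
  exact key _ v y (by have := (hwb y).2; push_cast; omega)

theorem det_eq_one_of_unipotent {ι : Type*} [Fintype ι] [DecidableEq ι] {A : Matrix ι ι K}
    (h : IsNilpotent (A - 1)) : A.det = 1 := by
  have hN : IsNilpotent (1 - A) := by rw [← neg_sub]; exact h.neg
  have h1 : (1 - A).charpoly = Polynomial.X ^ Fintype.card ι :=
    sub_eq_zero.1 (Matrix.isNilpotent_charpoly_sub_pow_of_isNilpotent hN).eq_zero
  have h2 := Matrix.eval_charpoly (1 - A) 1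
  rw [h1, Polynomial.eval_pow, Polynomial.eval_X, one_pow, map_one, sub_sub_cancel] at h2
  exact h2.symm

/-- The determinant of a matrix acting on the blocks. -/
theorem det_blockExtend (Q : Matrix (Fin t) (Fin t) K) :
    (blockExtend d Q).det =
      ∏ s ∈ Finset.univ.image d, (Q.submatrix Subtype.val Subtype.val :
        Matrix {a : Fin t // d a = s} {a : Fin t // d a = s} K).det ^ s := by
  classical
  let key : (k : Fin t) × Fin (d k) → ℕ ×ₗ ℕ := fun x => toLex (d x.1, (x.2 : ℕ))
  have htri : (blockExtend d Q).BlockTriangular key := by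
    intro x y hxy
    show (if _ then _ else _) = _
    rw [if_neg]
    rintro ⟨h1, h2⟩
    exact hxy.ne (by simp only [key, h1, h2])
  rw [htri.det]
  have himg : (Finset.univ.image key) =
      ((Finset.univ.image d).sigma fun s => Finset.range s).image fun z => toLex (z.1, z.2) := by
    ext z
    simp only [Finset.mem_image, Finset.mem_univ, true_and, Finset.mem_sigma, Finset.mem_range, key]
    constructor
    · rintro ⟨x, rfl⟩
      exact ⟨⟨d x.1, x.2⟩, ⟨⟨x.1, rfl⟩, x.2.2⟩, rfl⟩
    · rintro ⟨⟨s, i⟩, ⟨⟨a, rfl⟩, hi⟩, rfl⟩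
      exact ⟨⟨a, ⟨i, hi⟩⟩, rfl⟩
  rw [himg, Finset.prod_image (by rintro ⟨a, b⟩ _ ⟨a', b'⟩ _ h; simpa using h), Finset.prod_sigma]
  refine Finset.prod_congr rfl fun s _ => ?_
  rw [Finset.prod_congr rfl (g := fun _ => (Q.submatrix Subtype.val Subtype.val :
        Matrix {a : Fin t // d a = s} {a : Fin t // d a = s} K).det), Finset.prod_const, Finset.card_range]
  intro i hi
  let e : {a : Fin t // d a = s} ≃ {x // key x = toLex (s, i)} :=
    { toFun := fun a => ⟨⟨a.1, ⟨i, by rw [a.2]; exact Finset.mem_range.1 hi⟩⟩,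
        by simp only [key, a.2]⟩
      invFun := fun x => ⟨x.1.1, congrArg (fun z => (ofLex z).1) x.2⟩
      left_inv := fun a => rfl
      right_inv := fun x => by
        obtain ⟨⟨a, j⟩, hx⟩ := x
        have h2 : (j : ℕ) = i := congrArg (fun z => (ofLex z).2) hx
        refine Subtype.ext (Sigma.ext rfl (heq_of_eq (Fin.ext ?_)))
        exact h2.symm }
  rw [← Matrix.det_submatrix_equiv_self e]
  congr 1
  ext a b
  show (if _ then _ else _) = Q a.1 b.1
  rw [if_pos]
  · rfl
  · exact ⟨rfl, a.2.trans b.2.symm⟩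

/-- Determinants of invariant matrices through the leading parts. -/
theorem exists_det_eq {M N : Matrix ((k : Fin t) × Fin (d k)) ((k : Fin t) × Fin (d k)) K}
    (hM : Inv M) (hN : Inv N) (hMd : M.det ≠ 0) (hNd : N.det ≠ 0) (hd : ∀ k, 1 ≤ d k) :
    N.det = M.det * ∏ s ∈ Finset.univ.image d, ((lead N s).det / (lead M s).det) ^ s := by
  classical
  have hW := lead_det_ne_zero hM hMd hd
  obtain ⟨C, hC⟩ : ∃ C : Matrix (Fin t) (Fin t) K, ∀ s,
      (C.submatrix Subtype.val Subtype.val : Matrix {a : Fin t // d a = s} {a : Fin t // d a = s} K) =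
        (lead M s)⁻¹ * lead N s := by
    refine ⟨Matrix.of fun a b => if h : d a = d b then ((lead M (d b))⁻¹ * lead N (d b)) ⟨a, h⟩ ⟨b, rfl⟩ else 0,
      fun s => ?_⟩
    ext ⟨a, ha⟩ ⟨b, hb⟩
    subst hb
    rw [Matrix.submatrix_apply, Matrix.of_apply, dif_pos ha]
  set E := blockExtend d C with hE
  have hEc : Commute E (Cfsg.jordanTypeMatrix d K) := commute_blockExtend C
  have hME : Inv (M * E) := by simpa using inv_congr hM (Commute.one_left _) hEc
  have hl : ∀ s, lead (M * E) s = lead N s := fun s => by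
    have h := lead_congr hM (Commute.one_left _) hEc hd s
    rw [Matrix.transpose_one, Matrix.one_mul, levi_one hd, Matrix.transpose_one, Matrix.one_mul,
      levi_blockExtend hd, hC] at h
    rw [h, ← Matrix.mul_assoc, Matrix.mul_nonsing_inv _ (isUnit_iff_ne_zero.2 (hW s)), Matrix.one_mul]
  have h1 := det_eq_one_of_unipotent (isNilpotent_inv_mul_sub_one hME hN hl (lead_det_ne_zero hN hNd hd))
  rw [Matrix.det_mul, Matrix.det_nonsing_inv, Ring.inverse_eq_inv'] at h1
  have hMEd : (M * E).det ≠ 0 := fun h0 => by simp [h0] at h1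
  rw [inv_mul_eq_one₀ hMEd] at h1
  rw [← h1, Matrix.det_mul, hE, det_blockExtend]
  congr 1
  refine Finset.prod_congr rfl fun s _ => ?_
  rw [hC, Matrix.det_mul, Matrix.det_nonsing_inv, Ring.inverse_eq_inv', inv_mul_eq_div]

/-- Congruent leading parts force congruence by the centraliser, symmetric case. -/
theorem exists_commute_congr_symm [Fintype K] {p : ℕ} [Fact p.Prime] [CharP K p] (hp2 : p ≠ 2)
    (hd : ∀ k, 1 ≤ d k) {M₁ M₂ : Matrix ((k : Fin t) × Fin (d k)) ((k : Fin t) × Fin (d k)) K}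
    (h₁ : Inv M₁) (h₂ : Inv M₂) (hdet₁ : M₁.det ≠ 0) (hdet₂ : M₂.det ≠ 0)
    (hsk₁ : M₁.transpose = M₁) (hsk₂ : M₂.transpose = M₂)
    (hP : ∀ s, ∃ P, P.transpose * lead M₁ s * P = lead M₂ s) :
    ∃ C, Commute C (Cfsg.jordanTypeMatrix d K) ∧ C.transpose * M₁ * C = M₂ := by
  classical
  choose P hP using hP
  obtain ⟨C₀, hC₀, hC₀l⟩ := exists_levi hd P
  set M := C₀.transpose * M₁ * C₀ with hMdef
  have hM : Inv M := inv_congr h₁ hC₀ hC₀
  have hlead : ∀ s, lead M s = lead M₂ s := fun s => by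
    rw [hMdef, lead_congr h₁ hC₀ hC₀ hd, hC₀l, hP]
  have hW2 := lead_det_ne_zero h₂ hdet₂ hd
  have hdetM : M.det ≠ 0 := det_ne_zero_of_lead hM fun s => by rw [hlead]; exact hW2 s
  have hu : IsUnit M.det := isUnit_iff_ne_zero.2 hdetM
  have hskM : M.transpose = M := by
    rw [hMdef, Matrix.transpose_mul, Matrix.transpose_mul, Matrix.transpose_transpose, hsk₁,
      ← Matrix.mul_assoc]
  obtain ⟨N, hN⟩ := isNilpotent_inv_mul_sub_one hM h₂ hlead hW2
  set A := M⁻¹ * M₂ with hAdef
  have hMA : M * A = M₂ := by rw [hAdef, ← Matrix.mul_assoc, Matrix.mul_nonsing_inv _ hu, Matrix.one_mul]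
  set J := Cfsg.jordanTypeMatrix d K with hJ
  have hAJ : Commute A J := by
    have hJdet : J.det ≠ 0 := fun h0 => hdetM (by
      have := congrArg Matrix.det hM
      rw [Matrix.det_mul, Matrix.det_mul, ← hJ, h0, mul_zero] at this
      exact this.symm)
    have h2' : J.transpose * M * (A * J) = J.transpose * M * (J * A) := by
      rw [← Matrix.mul_assoc, Matrix.mul_assoc J.transpose M A, hMA, h₂, ← Matrix.mul_assoc, hM, hMA]
    refine sub_eq_zero.1 (Matrix.ext_iff_mulVec.2 fun v => ?_)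
    have hdetJM : (J.transpose * M).det ≠ 0 := by
      rw [Matrix.det_mul, Matrix.det_transpose]
      exact mul_ne_zero hJdet hdetM
    rw [Matrix.zero_mulVec]
    refine Matrix.eq_zero_of_mulVec_eq_zero hdetJM ?_
    rw [Matrix.mulVec_mulVec, Matrix.mul_sub, h2', sub_self, Matrix.zero_mulVec]
  have hp : p.Prime := Fact.out
  have hpow : A ^ p ^ N = 1 := by
    rcases isEmpty_or_nonempty ((k : Fin t) × Fin (d k)) with he | he
    · exact Subsingleton.elim _ _
    have : CharP (Matrix ((k : Fin t) × Fin (d k)) ((k : Fin t) × Fin (d k)) K) p := Matrix.charP p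
    refine sub_eq_zero.1 ?_
    rw [← one_pow (p ^ N), ← sub_pow_char_pow_of_commute (p := p) (h := Commute.one_right A)]
    exact pow_eq_zero_of_le (Nat.lt_pow_self hp.one_lt).le hN
  obtain ⟨r, hr⟩ : ∃ r, p ^ N + 1 = r + r := (hp.odd_of_ne_two hp2).pow.add_one
  have hsemi : SemiconjBy M A A.transpose := by
    show M * A = A.transpose * M
    rw [hMA]
    have h := congrArg Matrix.transpose hMA
    rw [Matrix.transpose_mul, hskM, hsk₂] at h
    exact h.symm
  refine ⟨C₀ * A ^ r, hC₀.mul_left (hAJ.pow_left r), ?_⟩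
  rw [show (C₀ * A ^ r).transpose * M₁ * (C₀ * A ^ r) = (A ^ r).transpose * M * A ^ r by
    rw [hMdef, Matrix.transpose_mul]; simp only [Matrix.mul_assoc],
    Matrix.transpose_pow, ← (hsemi.pow_right r).eq, Matrix.mul_assoc, ← pow_add, ← hr, pow_succ, hpow,
    Matrix.one_mul, hMA]

end Cfsg.Agent.H66.Lead
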