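/-
Conjugacy of isometries of orthogonal spaces in odd characteristic: unipotent parts, the rest, signs.
-/
import Cfsg.Agent.H66.SpSigns
import Cfsg.Agent.H66.UnipotentOrth

set_option autoImplicit false

open LinearMap (BilinForm)
open Module Cfsg.Agent.H66.SpSplit

namespace Cfsg.Agent.H66.OrthSplit

universe u v w

variable {K : Type u} [Field K]
variable {V : Type v} [AddCommGroup V] [Module K V] [FiniteDimensional K V]
variable {V' : Type w} [AddCommGroup V'] [Module K V'] [FiniteDimensional K V']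

/-- A symmetric space with an isometry. -/
def IsOSys (B : BilinForm K V) (T : Module.End K V) : Prop :=
  B.Nondegenerate ∧ (∀ x y, B x y = B y x) ∧ ∀ x y, B (T x) (T y) = B x y

omit [FiniteDimensional K V] in
theorem IsOSys.injective {B : BilinForm K V} {T : Module.End K V} (h : IsOSys B T) :
    Function.Injective T := (injective_iff_map_eq_zero T).2 fun x hx =>
  h.1.1 x fun y => by rw [← h.2.2, hx, map_zero, LinearMap.zero_apply]

omit [FiniteDimensional K V] in
theorem IsOSys.neg {B : BilinForm K V} {T : Module.End K V} (h : IsOSys B T) : IsOSys B (-T) :=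
  ⟨h.1, h.2.1, fun x y => by simp [h.2.2]⟩

theorem orth_parts {B : BilinForm K V} {T : Module.End K V} (h : IsOSys B T) {x z : V}
    (hx : x ∈ fixPart T) (hz : z ∈ movPart T) : B x z = 0 ∧ B z x = 0 := by
  have hT : Function.Bijective T := ⟨h.injective, LinearMap.surjective_of_injective h.injective⟩
  set S : Module.End K V := (LinearEquiv.ofBijective T hT).symm.toLinearMap with hS
  have hTS : ∀ y, T (S y) = y := fun y => (LinearEquiv.ofBijective T hT).apply_symm_apply y
  have hST : ∀ y, S (T y) = y := fun y => (LinearEquiv.ofBijective T hT).symm_apply_apply y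
  have hadj : ∀ (k : ℕ) a b, B a (((T - 1) ^ k) b) = B (((S - 1) ^ k) a) b := by
    intro k
    induction k with
    | zero => intro a b; rfl
    | succ k ih =>
      intro a b
      have h1 : ∀ c d, B c (T d) = B (S c) d := fun c d => by
        conv_lhs => rw [← hTS c]
        rw [h.2.2]
      rw [pow_succ, pow_succ', Module.End.mul_apply, Module.End.mul_apply, ih, LinearMap.sub_apply,
        Module.End.one_apply, map_sub, h1, LinearMap.sub_apply, Module.End.one_apply, map_sub,
        LinearMap.sub_apply]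
  obtain ⟨b, rfl⟩ := hz
  have hTS' : T * S = 1 := LinearMap.ext hTS
  have hST' : S * T = 1 := LinearMap.ext hST
  have hcomm : Commute S T := by rw [Commute, SemiconjBy, hST', hTS']
  have hneg : (S - 1) = (-S) * (T - 1) := by rw [neg_mul, mul_sub, mul_one, hST', neg_sub]
  have hzero : ((S - 1) ^ Module.finrank K V) x = 0 := by
    rw [hneg, ((hcomm.sub_right (Commute.one_right S)).neg_left).mul_pow, Module.End.mul_apply,
      LinearMap.mem_ker.1 hx, map_zero]
  have h0 : B x (((T - 1) ^ Module.finrank K V) b) = 0 := by rw [hadj, hzero, map_zero, LinearMap.zero_apply]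
  exact ⟨h0, by rw [h.2.1, h0]⟩

theorem IsOSys.fix {B : BilinForm K V} {T : Module.End K V} (h : IsOSys B T) :
    IsOSys (B.restrict (fixPart T)) (fixEnd T) :=
  ⟨H67.restrict_nondeg B h.1 _ _ (isCompl_parts T) fun _ hu _ hw => orth_parts h hu hw,
    fun x y => h.2.1 x y, fun x y => h.2.2 x y⟩

theorem IsOSys.mov {B : BilinForm K V} {T : Module.End K V} (h : IsOSys B T) :
    IsOSys (B.restrict (movPart T)) (movEnd T) :=
  ⟨H67.restrict_nondeg B h.1 _ _ (isCompl_parts T).symm fun _ hu _ hw => (orth_parts h hw hu).symm,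
    fun x y => h.2.1 x y, fun x y => h.2.2 x y⟩

theorem isIso_of_parts {B : BilinForm K V} {T : Module.End K V} {B' : BilinForm K V'}
    {T' : Module.End K V'} (h : IsOSys B T) (h' : IsOSys B' T')
    (hF : IsIso (B.restrict (fixPart T)) (fixEnd T) (B'.restrict (fixPart T')) (fixEnd T'))
    (hM : IsIso (B.restrict (movPart T)) (movEnd T) (B'.restrict (movPart T')) (movEnd T')) :
    IsIso B T B' T' := by
  obtain ⟨φ, hφ, hφT⟩ := hF
  obtain ⟨ψ, hψ, hψT⟩ := hM
  let e := Submodule.prodEquivOfIsCompl _ _ (isCompl_parts T)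
  let e' := Submodule.prodEquivOfIsCompl _ _ (isCompl_parts T')
  let χ : V ≃ₗ[K] V' := e.symm.trans ((φ.prodCongr ψ).trans e')
  have hχ : ∀ (a : fixPart T) (b : movPart T), χ (a + b) = (φ a : V') + ψ b := fun a b => by
    have : (a : V) + b = e (a, b) := by simp [e]
    rw [this]
    simp [χ, e']
  refine ⟨χ, fun x y => ?_, fun x => ?_⟩
  · obtain ⟨⟨a, b⟩, rfl⟩ := e.surjective x
    obtain ⟨⟨c, d⟩, rfl⟩ := e.surjective y
    simp only [e, Submodule.coe_prodEquivOfIsCompl', hχ, map_add, LinearMap.add_apply]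
    have e1 : B' (φ a : V') (φ c) = B (a : V) c := hφ a c
    have e2 : B' (ψ b : V') (ψ d) = B (b : V) d := hψ b d
    rw [e1, e2, (orth_parts h' (φ a).2 (ψ d).2).1, (orth_parts h' (φ c).2 (ψ b).2).2,
      (orth_parts h a.2 d.2).1, (orth_parts h c.2 b.2).2]
  · obtain ⟨⟨a, b⟩, rfl⟩ := e.surjective x
    simp only [e, Submodule.coe_prodEquivOfIsCompl', map_add, hχ]
    have e1 := congrArg Subtype.val (hφT a)
    have e2 := congrArg Subtype.val (hψT b)
    have := hχ (fixEnd T a) (movEnd T b)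
    simp only [fixEnd, movEnd, LinearMap.restrict_apply] at this e1 e2
    rw [← map_add χ, this, e1, e2]

/-- On a part without eigenvalue `1` or `-1` similarity gives isometry. -/
theorem isIso_of_moved [Finite K] {B : BilinForm K V} {T : Module.End K V} {B' : BilinForm K V'}
    {T' : Module.End K V'} (h : IsOSys B T) (h' : IsOSys B' T') (hinj : ∀ v, T (T v) = v → v = 0)
    (P : V ≃ₗ[K] V') (hP : ∀ x, P (T x) = T' (P x)) : IsIso B T B' T' := by
  let A : V ≃ₗ[K] V := LinearEquiv.ofInjectiveEndo T h.injective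
  have hA : ∀ x, A x = T x := fun x => rfl
  let B₂ : BilinForm K V := B'.compl₁₂ P.toLinearMap P.toLinearMap
  have hB₂ : ∀ x y, B₂ x y = B' (P x) (P y) := fun x y => rfl
  have hn₂ : B₂.Nondegenerate := by
    constructor
    · intro u hu
      exact P.map_eq_zero_iff.1 (h'.1.1 _ fun w => by simpa [hB₂] using hu (P.symm w))
    · intro u hu
      exact P.map_eq_zero_iff.1 (h'.1.2 _ fun w => by simpa [hB₂] using hu (P.symm w))
  obtain ⟨y, hy, hyB⟩ := H67.exists_commute_transport B B₂ h.1 hn₂ 1 (by ring)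
    (fun x z => by rw [one_mul, h.2.1])
    (fun x z => by rw [one_mul, hB₂, hB₂, h'.2.1]) A (fun x z => h.2.2 x z)
    (fun x z => by rw [hB₂, hB₂, hA, hA, hP, hP, h'.2.2]) hinj
  refine ⟨y.symm.trans P, fun x z => ?_, fun x => ?_⟩
  · rw [LinearEquiv.trans_apply, LinearEquiv.trans_apply, ← hB₂, hyB, y.apply_symm_apply, y.apply_symm_apply]
  · have h1 : y.symm (T x) = T (y.symm x) := by
      rw [LinearEquiv.symm_apply_eq, ← hA (y.symm x), hy, y.apply_symm_apply, hA]
    rw [LinearEquiv.trans_apply, LinearEquiv.trans_apply, h1, hP]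

theorem exists_frame {B : BilinForm K V} {T : Module.End K V} (h : IsOSys B T)
    (hT : IsNilpotent (T - 1)) {t : ℕ} (d : Fin t → ℕ) (hd : H66.typeKer d = kd T) :
    ∃ φ M, IsFrame B T d φ M ∧ Lead.Inv M ∧ M.det ≠ 0 ∧ M.transpose = M := by
  classical
  have hJ : IsNilpotent (Matrix.toLin' (Cfsg.jordanTypeMatrix d K) - 1) := by
    have h1 := (H66.isNilpotent_jordanTypeMatrix_sub_one (K := K) d).map Matrix.toLinAlgEquiv'
    rw [map_sub, map_one] at h1
    exact h1
  obtain ⟨φ, hφ⟩ := exists_similar_of_kd hJ hT (funext fun k => by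
    rw [kd, ← congrFun hd k, ← H66.kerDim_jordanTypeMatrix (K := K) d k, H66.kerDim]
    have e : (Matrix.toLin' (Cfsg.jordanTypeMatrix d K) - 1) ^ k =
        Matrix.toLin' ((Cfsg.jordanTypeMatrix d K - 1) ^ k) := by
      show _ = Matrix.toLinAlgEquiv' ((Cfsg.jordanTypeMatrix d K - 1) ^ k)
      rw [map_pow, map_sub, map_one]
      rfl
    rw [e])
  have hφ' : ∀ v, φ ((Cfsg.jordanTypeMatrix d K).mulVec v) = T (φ v) := fun v => by
    rw [← hφ v, Matrix.toLin'_apply]
  set M := LinearMap.BilinForm.toMatrix' (B.compl₁₂ φ.toLinearMap φ.toLinearMap) with hMdef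
  have hMv : ∀ u v, B (φ u) (φ v) = u ⬝ᵥ M.mulVec v := fun u v => by
    rw [← Matrix.toBilin'_apply', hMdef, Matrix.toBilin'_toMatrix']
    rfl
  refine ⟨φ, M, ⟨hφ', hMv⟩, ?_, ?_, ?_⟩
  · refine Lead.mul_congr_eq fun u v => ?_
    rw [← hMv, ← hMv, hφ', hφ', h.2.2]
  · intro h0
    obtain ⟨v, hv, hv0⟩ := Matrix.exists_mulVec_eq_zero_iff.2 h0
    refine hv (φ.map_eq_zero_iff.1 (h.1.2 _ fun u => ?_))
    rw [← φ.apply_symm_apply u, hMv, hv0, dotProduct_zero]
  · ext x y
    rw [Matrix.transpose_apply]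
    have e1 := hMv (Pi.single y 1) (Pi.single x 1)
    have e2 := hMv (Pi.single x 1) (Pi.single y 1)
    simp only [Matrix.mulVec_single_one, single_dotProduct, one_mul, Matrix.col_apply] at e1 e2
    rw [← e1, ← e2, h.2.1]

/-- Unipotent isometries with the same kernel dimensions and signs are isometric. -/
theorem isIso_of_unipotent [Fintype K] {p : ℕ} [Fact p.Prime] [CharP K p] (hp : p ≠ 2)
    {B : BilinForm K V} {T : Module.End K V} {B' : BilinForm K V'} {T' : Module.End K V'}
    (h : IsOSys B T) (h' : IsOSys B' T') (hT : IsNilpotent (T - 1)) (hT' : IsNilpotent (T' - 1))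
    (hkd : kd T = kd T')
    (hs : ∀ s, Odd s → (∃ a, (dOf (kd T)).2 a = s) → (sgn B T s ↔ sgn B' T' s)) :
    IsIso B T B' T' := by
  classical
  have hp1 : p.Prime := Fact.out
  have h2 : (2 : K) ≠ 0 := fun h0 => hp ((Nat.prime_dvd_prime_iff_eq hp1 Nat.prime_two).1
    ((CharP.cast_eq_zero_iff K p 2).1 (by exact_mod_cast h0)))
  unfold sgn at hs
  obtain ⟨hd, hdk⟩ := dOf_spec T hT
  rw [← hkd] at hs
  obtain ⟨φ, M, hF, hMi, hMd, hMs⟩ := exists_frame h hT (dOf (kd T)).2 hdk
  obtain ⟨φ', M', hF', hMi', hMd', hMs'⟩ := exists_frame h' hT' (dOf (kd T)).2 (hdk.trans hkd)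
  obtain ⟨C, hC, hCM⟩ := Lead.exists_commute_congr_symm hp hd hMi' hMi hMd' hMd hMs' hMs fun s => by
    have ht1 := Lead.lead_transpose_of_symm hMi' hMs' hd s
    have ht2 := Lead.lead_transpose_of_symm hMi hMs hd s
    have hd1 := Lead.lead_det_ne_zero hMi' hMd' hd s
    have hd2 := Lead.lead_det_ne_zero hMi hMd hd s
    rcases (Nat.even_or_odd s).symm with he | ho
    · by_cases hex : ∃ a, (dOf (kd T)).2 a = s
      · rw [he.neg_one_pow, neg_neg, one_smul] at ht1 ht2
        refine Lead.exists_congr_symm h2 _ _ ht1 ht2 hd1 hd2 ?_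
        have hiff : IsSquare (Lead.lead M s).det ↔ IsSquare (Lead.lead M' s).det := by
          constructor
          · intro hq
            obtain ⟨ψ, N, hN, hNq⟩ := (hs s he hex).1 ⟨φ, M, hF, hq⟩
            have hNi : Lead.Inv N := Lead.mul_congr_eq fun u v => by
              rw [← hN.2, ← hN.2, hN.1, hN.1, h'.2.2]
            exact isSquare_lead_iff hd hF' hN hNi hMd' hMi' s hNq
          · intro hq
            obtain ⟨ψ, N, hN, hNq⟩ := (hs s he hex).2 ⟨φ', M', hF', hq⟩
            have hNi : Lead.Inv N := Lead.mul_congr_eq fun u v => by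
              rw [← hN.2, ← hN.2, hN.1, hN.1, h.2.2]
            exact isSquare_lead_iff hd hF hN hNi hMd hMi s hNq
        by_cases hsq : IsSquare (Lead.lead M s).det
        · exact (hiff.1 hsq).mul hsq
        · exact H4.isSquare_mul_of_not (fun hh => hsq (hiff.2 hh)) hsq
      · have : IsEmpty {a // (dOf (kd T)).2 a = s} := ⟨fun a => hex ⟨a.1, a.2⟩⟩
        exact ⟨1, Subsingleton.elim _ _⟩
    · rw [ho.neg_one_pow, neg_one_smul] at ht1 ht2
      exact Lead.exists_congr_skew h2 _ _ ht1 ht2 hd1 hd2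
  exact isIso_of_frames hF hF' C hC hCM hMd

/-- Similar isometries with equal signs are isometric. -/
theorem isIso_of_similar [Fintype K] {p : ℕ} [Fact p.Prime] [CharP K p] (hp : p ≠ 2)
    {B : BilinForm K V} {T : Module.End K V} {B' : BilinForm K V'} {T' : Module.End K V'}
    (h : IsOSys B T) (h' : IsOSys B' T') (P : V ≃ₗ[K] V') (hP : ∀ x, P (T x) = T' (P x))
    (hplus : ∀ s, Odd s → hasPlus T s → (sgnPlus B T s ↔ sgnPlus B' T' s))
    (hminus : ∀ s, Odd s → hasMinus T s → (sgnMinus B T s ↔ sgnMinus B' T' s)) :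
    IsIso B T B' T' := by
  have hkd : ∀ {W : Type v} [AddCommGroup W] [Module K W] [FiniteDimensional K W] {W' : Type w}
      [AddCommGroup W'] [Module K W'] [FiniteDimensional K W'] (S : Module.End K W) (S' : Module.End K W')
      (L : W ≃ₗ[K] W'), (∀ x, L (S x) = S' (L x)) → kd S = kd S' := by
    intro W _ _ _ W' _ _ _ S S' L hL
    funext k
    have h1 := H66.finrank_ker_aeval_eq_of_intertwine hL ((Polynomial.X - Polynomial.C (1 : K)) ^ k)
    rwa [aeval_sub_one_pow, aeval_sub_one_pow] at h1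
  obtain ⟨⟨P₁, hP₁⟩, ⟨P₂, hP₂⟩⟩ := exists_similar_parts P hP
  refine isIso_of_parts h h' (isIso_of_unipotent hp h.fix h'.fix (fixEnd_isNilpotent T) (fixEnd_isNilpotent T')
    (hkd _ _ P₁ hP₁) hplus) ?_
  have hP₂' : ∀ x, P₂ ((-movEnd T) x) = (-movEnd T') (P₂ x) := fun x => by simp [hP₂]
  obtain ⟨⟨P₃, hP₃⟩, ⟨P₄, hP₄⟩⟩ := exists_similar_parts P₂ hP₂'
  refine IsIso.of_neg (isIso_of_parts h.mov.neg h'.mov.neg
    (isIso_of_unipotent hp h.mov.neg.fix h'.mov.neg.fix (fixEnd_isNilpotent _) (fixEnd_isNilpotent _)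
      (hkd _ _ P₃ hP₃) hminus) (isIso_of_moved h.mov.neg.mov h'.mov.neg.mov (fun v hv => ?_) P₄ hP₄))
  set U := movEnd (-movEnd T) with hU
  have h1 : (U - 1) ((U + 1) v) = 0 := by
    simp only [LinearMap.sub_apply, LinearMap.add_apply, Module.End.one_apply, map_add, hv]
    abel
  have h2 : (U + 1) v = 0 := ker_sub_one_movEnd (-movEnd T)
    (by rwa [LinearMap.sub_apply, Module.End.one_apply, sub_eq_zero] at h1)
  rw [LinearMap.add_apply, Module.End.one_apply] at h2
  have h3 : movEnd T v.1 = v.1 := by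
    have h4 : -(movEnd T v.1) + v.1 = 0 := congrArg Subtype.val h2
    rwa [neg_add_eq_zero] at h4
  exact Subtype.ext (ker_sub_one_movEnd T h3)

end Cfsg.Agent.H66.OrthSplit
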