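/-
Discriminants of symmetric spaces with an isometry: one sign fixes the others.
-/
import Cfsg.Agent.H66.OrthSplit

set_option autoImplicit false

open LinearMap (BilinForm)
open Module Cfsg.Agent.H66.SpSplit

namespace Cfsg.Agent.H66.OrthSplit

universe u v w

variable {K : Type u} [Field K] [Fintype K]
variable {V : Type v} [AddCommGroup V] [Module K V] [FiniteDimensional K V]
variable {V' : Type w} [AddCommGroup V'] [Module K V'] [FiniteDimensional K V']

open Classical in
/-- The square class of the discriminant. -/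
noncomputable def disc (B : BilinForm K V) : ℤ :=
  quadraticChar K (LinearMap.BilinForm.toMatrix (Module.finBasis K V) B).det

theorem disc_eq_basis [DecidableEq K] {ι : Type*} [Fintype ι] [DecidableEq ι] (B : BilinForm K V)
    (b : Basis ι K V) : disc B = quadraticChar K (LinearMap.BilinForm.toMatrix b B).det := by
  obtain rfl : ‹DecidableEq K› = fun a b => Classical.propDecidable (a = b) := Subsingleton.elim _ _
  classical
  let e : Fin (finrank K V) ≃ ι := (Module.finBasis K V).indexEquiv b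
  let c := (Module.finBasis K V).reindex e
  have h1 : (LinearMap.BilinForm.toMatrix c B).det =
      (LinearMap.BilinForm.toMatrix (Module.finBasis K V) B).det := by
    rw [← Matrix.det_submatrix_equiv_self e (LinearMap.BilinForm.toMatrix c B)]
    congr 1
    ext i j
    simp [c, LinearMap.BilinForm.toMatrix_apply, Basis.reindex_apply]
  have h2 := LinearMap.BilinForm.toMatrix_mul_basis_toMatrix (b := b) c B
  have h3 : (b.toMatrix c).det ≠ 0 := left_ne_zero_of_mul_eq_one (b := (c.toMatrix b).det) (by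
    rw [← Matrix.det_mul, Basis.toMatrix_mul_toMatrix_flip, Matrix.det_one])
  rw [disc, ← h1, ← h2, Matrix.det_mul, Matrix.det_mul, Matrix.det_transpose,
    show (b.toMatrix c).det * (LinearMap.BilinForm.toMatrix b B).det * (b.toMatrix c).det =
      (b.toMatrix c).det ^ 2 * (LinearMap.BilinForm.toMatrix b B).det by ring, map_mul]
  convert (one_mul _) using 2
  exact quadraticChar_sq_one' h3

theorem disc_of_isIso {B : BilinForm K V} {T : Module.End K V} {B' : BilinForm K V'}
    {T' : Module.End K V'} (h : IsIso B T B' T') : disc B = disc B' := by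
  classical
  obtain ⟨φ, hφ, -⟩ := h
  rw [disc_eq_basis B (Module.finBasis K V), disc_eq_basis B' ((Module.finBasis K V).map φ)]
  congr 2
  ext i j
  simp [LinearMap.BilinForm.toMatrix_apply, hφ]

theorem disc_compl {B : BilinForm K V} {p q : Submodule K V} (hc : IsCompl p q)
    (horth : ∀ x ∈ p, ∀ z ∈ q, B x z = 0 ∧ B z x = 0) :
    disc B = disc (B.restrict p) * disc (B.restrict q) := by
  classical
  let b := ((Module.finBasis K p).prod (Module.finBasis K q)).map (Submodule.prodEquivOfIsCompl p q hc)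
  rw [disc_eq_basis B b, disc_eq_basis (B.restrict p) (Module.finBasis K p),
    disc_eq_basis (B.restrict q) (Module.finBasis K q), ← map_mul, ← Matrix.det_fromBlocks_zero₂₁ _ 0]
  congr 2
  ext (i | i) (j | j)
  · simp [b, LinearMap.BilinForm.toMatrix_apply]
  · simp [b, LinearMap.BilinForm.toMatrix_apply, (horth _ (Module.finBasis K p i).2 _ (Module.finBasis K q j).2).1]
  · simp [b, LinearMap.BilinForm.toMatrix_apply, (horth _ (Module.finBasis K p j).2 _ (Module.finBasis K q i).2).2]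
  · simp [b, LinearMap.BilinForm.toMatrix_apply]

theorem disc_parts {B : BilinForm K V} {T : Module.End K V} (h : IsOSys B T) :
    disc B = disc (B.restrict (fixPart T)) * disc (B.restrict (movPart T)) :=
  disc_compl (isCompl_parts T) fun _ hx _ hz => orth_parts h hx hz

theorem disc_frame [DecidableEq K] {B : BilinForm K V} {T : Module.End K V} {t : ℕ} {d : Fin t → ℕ}
    {φ : (((k : Fin t) × Fin (d k)) → K) ≃ₗ[K] V}
    {M : Matrix ((k : Fin t) × Fin (d k)) ((k : Fin t) × Fin (d k)) K} (h : IsFrame B T d φ M) :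
    disc B = quadraticChar K M.det := by
  rw [disc_eq_basis B ((Pi.basisFun K _).map φ)]
  congr 2
  ext i j
  simp [LinearMap.BilinForm.toMatrix_apply, h.2, Matrix.mulVec_single_one]

theorem disc_ne_zero {B : BilinForm K V} (h : B.Nondegenerate) : disc B ≠ 0 := by
  classical
  rw [disc_eq_basis B (Module.finBasis K V)]
  exact fun h0 => (LinearMap.BilinForm.nondegenerate_iff_det_ne_zero _).1 h (quadraticChar_eq_zero_iff.1 h0)

/-- The sign read off any frame. -/
theorem sgn_iff {B : BilinForm K V} {T : Module.End K V} (h : IsOSys B T)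
    (hd : ∀ i, 1 ≤ (dOf (kd T)).2 i)
    {φ : (((k : Fin (dOf (kd T)).1) × Fin ((dOf (kd T)).2 k)) → K) ≃ₗ[K] V} {M : Matrix _ _ K}
    (hF : IsFrame B T (dOf (kd T)).2 φ M) (hi : Lead.Inv M) (hdet : M.det ≠ 0) (s : ℕ) :
    sgn B T s ↔ IsSquare (Lead.lead M s).det := by
  refine ⟨?_, fun hq => ⟨φ, M, hF, hq⟩⟩
  rintro ⟨ψ, N, hN, hq⟩
  exact isSquare_lead_iff hd hF hN (Lead.mul_congr_eq fun u v => by
    rw [← hN.2, ← hN.2, hN.1, hN.1, h.2.2]) hdet hi s hq

/-- Changing one sign changes the discriminant. -/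
theorem disc_flip {p : ℕ} [Fact p.Prime] [CharP K p] (hp : p ≠ 2)
    {B : BilinForm K V} {T : Module.End K V} {B' : BilinForm K V'} {T' : Module.End K V'}
    (h : IsOSys B T) (h' : IsOSys B' T') (hT : IsNilpotent (T - 1)) (hT' : IsNilpotent (T' - 1))
    (hkd : kd T = kd T') {s₀ : ℕ} (hs₀ : Odd s₀) (hex : ∃ a, (dOf (kd T)).2 a = s₀)
    (hdiff : ¬ (sgn B T s₀ ↔ sgn B' T' s₀))
    (hs : ∀ s, Odd s → s ≠ s₀ → (∃ a, (dOf (kd T)).2 a = s) → (sgn B T s ↔ sgn B' T' s)) :
    disc B ≠ disc B' := by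
  classical
  have hF2 : ringChar K ≠ 2 := by rw [ringChar.eq K p]; exact hp
  have sgn' := fun (d : Σ t : ℕ, Fin t → ℕ) (hd : d = dOf (kd T'))
      (φ : (((k : Fin d.1) × Fin (d.2 k)) → K) ≃ₗ[K] V') (M : Matrix _ _ K)
      (hF : IsFrame B' T' d.2 φ M) (hi : Lead.Inv M) (hdet : M.det ≠ 0) (s : ℕ) =>
    show sgn B' T' s ↔ IsSquare (Lead.lead M s).det by
    subst hd
    exact sgn_iff h' (dOf_spec T' hT').1 hF hi hdet s
  obtain ⟨hd, hdk⟩ := dOf_spec T hT
  obtain ⟨φ, M, hF, hMi, hMd, -⟩ := exists_frame h hT (dOf (kd T)).2 hdk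
  obtain ⟨φ', M', hF', hMi', hMd', -⟩ := exists_frame h' hT' (dOf (kd T)).2 (hdk.trans hkd)
  rw [disc_frame hF, disc_frame hF', Lead.exists_det_eq hMi hMi' hMd hMd' hd, map_mul, map_prod]
  set S := Finset.univ.image (dOf (kd T)).2
  have hl := Lead.lead_det_ne_zero hMi hMd hd
  have hl' := Lead.lead_det_ne_zero hMi' hMd' hd
  have hsq : ∀ s, quadraticChar K ((Lead.lead M' s).det / (Lead.lead M s).det) =
      if (sgn B T s ↔ sgn B' T' s) then 1 else -1 := fun s => by
    rw [sgn_iff h hd hF hMi hMd, sgn' _ (by rw [hkd]) φ' M' hF' hMi' hMd',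
      ← quadraticChar_one_iff_isSquare (hl s), ← quadraticChar_one_iff_isSquare (hl' s)]
    have e := map_mul (quadraticChar K) ((Lead.lead M' s).det / (Lead.lead M s).det) (Lead.lead M s).det
    rw [div_mul_cancel₀ _ (hl s)] at e
    rcases quadraticChar_dichotomy (hl s) with e1 | e1 <;>
      rcases quadraticChar_dichotomy (hl' s) with e2 | e2 <;> rw [e1, e2] at e ⊢ <;> norm_num at e ⊢ <;> omega
  have hprod : ∏ s ∈ S, quadraticChar K (((Lead.lead M' s).det / (Lead.lead M s).det) ^ s) = -1 := by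
    obtain ⟨a, ha⟩ := hex
    rw [Finset.prod_eq_single_of_mem s₀ (Finset.mem_image.2 ⟨a, Finset.mem_univ _, ha⟩) fun s hsS hne => ?_,
      map_pow, hsq, if_neg hdiff, hs₀.neg_one_pow]
    rw [map_pow, hsq]
    obtain ⟨b, -, hb⟩ := Finset.mem_image.1 hsS
    rcases Nat.even_or_odd s with he | ho
    · split_ifs
      · exact one_pow _
      · exact he.neg_one_pow
    · rw [if_pos (hs s ho hne ⟨b, hb⟩), one_pow]
  rw [hprod]
  rcases quadraticChar_dichotomy hMd with e1 | e1 <;> rw [e1] <;> norm_num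

omit [Fintype K] in
/-- Similar endomorphisms have the same kernel dimensions. -/
theorem kd_congr {W : Type*} [AddCommGroup W] [Module K W] [FiniteDimensional K W] {W' : Type*}
    [AddCommGroup W'] [Module K W'] [FiniteDimensional K W'] {S : Module.End K W} {S' : Module.End K W'}
    (L : W ≃ₗ[K] W') (hL : ∀ x, L (S x) = S' (L x)) : kd S = kd S' := by
  funext k
  have h1 := H66.finrank_ker_aeval_eq_of_intertwine hL ((Polynomial.X - Polynomial.C (1 : K)) ^ k)
  rwa [aeval_sub_one_pow, aeval_sub_one_pow] at h1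

/-- The parts without eigenvalues `1` and `-1` of similar isometries are isometric. -/
theorem isIso_rest {B : BilinForm K V} {T : Module.End K V} {B' : BilinForm K V'}
    {T' : Module.End K V'} (h : IsOSys B T) (h' : IsOSys B' T') (P : movPart T ≃ₗ[K] movPart T')
    (hP : ∀ x, P ((-movEnd T) x) = (-movEnd T') (P x)) :
    IsIso ((B.restrict (movPart T)).restrict (movPart (-movEnd T))) (movEnd (-movEnd T))
      ((B'.restrict (movPart T')).restrict (movPart (-movEnd T'))) (movEnd (-movEnd T')) := by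
  obtain ⟨-, P₄, hP₄⟩ := exists_similar_parts P hP
  refine isIso_of_moved h.mov.neg.mov h'.mov.neg.mov (fun v hv => ?_) P₄ hP₄
  set U := movEnd (-movEnd T) with hU
  have h1 : (U - 1) ((U + 1) v) = 0 := by
    simp only [LinearMap.sub_apply, LinearMap.add_apply, Module.End.one_apply, map_add, hv]
    abel
  have h2 : (U + 1) v = 0 := ker_sub_one_movEnd (-movEnd T)
    (by rwa [LinearMap.sub_apply, Module.End.one_apply, sub_eq_zero] at h1)
  rw [LinearMap.add_apply, Module.End.one_apply] at h2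
  have h3 : movEnd T v.1 = v.1 := by
    have h4 : -(movEnd T v.1) + v.1 = 0 := congrArg Subtype.val h2
    rwa [neg_add_eq_zero] at h4
  exact Subtype.ext (ker_sub_one_movEnd T h3)

/-- Similar isometries of the same space cannot differ in a single sign at the eigenvalue `1`. -/
theorem no_flip_plus {p : ℕ} [Fact p.Prime] [CharP K p] (hp : p ≠ 2)
    {B : BilinForm K V} {T T' : Module.End K V} (h : IsOSys B T) (h' : IsOSys B T')
    (P : V ≃ₗ[K] V) (hP : ∀ x, P (T x) = T' (P x)) {s₀ : ℕ} (hs₀ : Odd s₀) (hex : hasPlus T s₀)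
    (hdiff : ¬ (sgnPlus B T s₀ ↔ sgnPlus B T' s₀))
    (hplus : ∀ s, Odd s → s ≠ s₀ → hasPlus T s → (sgnPlus B T s ↔ sgnPlus B T' s))
    (hminus : ∀ s, Odd s → hasMinus T s → (sgnMinus B T s ↔ sgnMinus B T' s)) : False := by
  obtain ⟨⟨P₁, hP₁⟩, ⟨P₂, hP₂⟩⟩ := exists_similar_parts P hP
  have hP₂' : ∀ x, P₂ ((-movEnd T) x) = (-movEnd T') (P₂ x) := fun x => by simp [hP₂]
  obtain ⟨⟨P₃, hP₃⟩, -⟩ := exists_similar_parts P₂ hP₂'
  have e1 := disc_of_isIso (isIso_rest h h' P₂ hP₂')
  have e2 := disc_of_isIso (isIso_of_unipotent hp h.mov.neg.fix h'.mov.neg.fix (fixEnd_isNilpotent _)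
    (fixEnd_isNilpotent _) (kd_congr P₃ hP₃) hminus)
  have e3 := disc_parts h
  rw [disc_parts h.mov.neg, e1, e2, ← disc_parts h'.mov.neg, disc_parts h'] at e3
  exact disc_flip hp h.fix h'.fix (fixEnd_isNilpotent T) (fixEnd_isNilpotent T') (kd_congr P₁ hP₁) hs₀ hex
    hdiff hplus (mul_right_cancel₀ (disc_ne_zero h'.mov.1) e3).symm

/-- Similar isometries of the same space cannot differ in a single sign at the eigenvalue `-1`. -/
theorem no_flip_minus {p : ℕ} [Fact p.Prime] [CharP K p] (hp : p ≠ 2)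
    {B : BilinForm K V} {T T' : Module.End K V} (h : IsOSys B T) (h' : IsOSys B T')
    (P : V ≃ₗ[K] V) (hP : ∀ x, P (T x) = T' (P x)) {s₀ : ℕ} (hs₀ : Odd s₀) (hex : hasMinus T s₀)
    (hdiff : ¬ (sgnMinus B T s₀ ↔ sgnMinus B T' s₀))
    (hplus : ∀ s, Odd s → hasPlus T s → (sgnPlus B T s ↔ sgnPlus B T' s))
    (hminus : ∀ s, Odd s → s ≠ s₀ → hasMinus T s → (sgnMinus B T s ↔ sgnMinus B T' s)) : False := by
  obtain ⟨⟨P₁, hP₁⟩, ⟨P₂, hP₂⟩⟩ := exists_similar_parts P hP
  have hP₂' : ∀ x, P₂ ((-movEnd T) x) = (-movEnd T') (P₂ x) := fun x => by simp [hP₂]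
  obtain ⟨⟨P₃, hP₃⟩, -⟩ := exists_similar_parts P₂ hP₂'
  have e1 := disc_of_isIso (isIso_rest h h' P₂ hP₂')
  have e2 := disc_of_isIso (isIso_of_unipotent hp h.fix h'.fix (fixEnd_isNilpotent _)
    (fixEnd_isNilpotent _) (kd_congr P₁ hP₁) hplus)
  have e3 := disc_parts h
  rw [e2, disc_parts h'] at e3
  have e4 := mul_left_cancel₀ (disc_ne_zero h'.fix.1) e3
  rw [disc_parts h.mov.neg, disc_parts h'.mov.neg, e1] at e4
  exact disc_flip hp h.mov.neg.fix h'.mov.neg.fix (fixEnd_isNilpotent _) (fixEnd_isNilpotent _)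
    (kd_congr P₃ hP₃) hs₀ hex hdiff hminus (mul_right_cancel₀ (disc_ne_zero h'.mov.neg.mov.1) e4).symm

end Cfsg.Agent.H66.OrthSplit
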