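/-
Every self-reciprocal monic polynomial of degree `2 n` is a characteristic polynomial in `Sp_2n`.
-/
import Mathlib
import Cfsg.Agent.H2.Basis

set_option autoImplicit false

open Polynomial

namespace Cfsg.Agent.H66.SpChar

universe u

variable {K : Type u} [Field K]

theorem charpoly_equiv {V W : Type*} [AddCommGroup V] [Module K V] [FiniteDimensional K V]
    [AddCommGroup W] [Module K W] [FiniteDimensional K W] (E : V ≃ₗ[K] W) (T : Module.End K V) :
    (E.conj T).charpoly = T.charpoly := LinearEquiv.charpoly_conj E T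

theorem natDegree_of_palindrome {f : K[X]} (hm : f.Monic) {n : ℕ} (hd : f.natDegree = 2 * n)
    (hpal : ∀ i, i ≤ 2 * n → f.coeff (2 * n - i) = f.coeff i) : f.coeff 0 = 1 := by
  have := hpal 0 (Nat.zero_le _)
  rw [Nat.sub_zero, ← hd, hm.coeff_natDegree] at this
  exact this.symm

/-- A symplectic matrix with prescribed self-reciprocal characteristic polynomial. -/
theorem exists_sp_charpoly (h2 : (2 : K) ≠ 0) {n : ℕ} (f : K[X]) (hm : f.Monic)
    (hd : f.natDegree = 2 * n) (hpal : ∀ i, i ≤ 2 * n → f.coeff (2 * n - i) = f.coeff i) :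
    ∃ g : Matrix.symplecticGroup (Fin n) K,
      (g : Matrix (Fin n ⊕ Fin n) (Fin n ⊕ Fin n) K).charpoly = f := by
  classical
  rcases Nat.eq_zero_or_pos n with rfl | hn
  · refine ⟨1, ?_⟩
    have hf : f = 1 := hm.natDegree_eq_zero.1 (by omega)
    rw [hf]
    exact (Matrix.charpoly_monic _).natDegree_eq_zero.1 (by
      rw [Matrix.charpoly_natDegree_eq_dim]; simp)
  set pb := AdjoinRoot.powerBasis' hm with hpb
  haveI : FiniteDimensional K (AdjoinRoot f) := pb.finite
  set x : AdjoinRoot f := AdjoinRoot.root f with hx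
  have hdim : pb.dim = 2 * n := hd
  have hsum : ∑ i ∈ Finset.range (2 * n + 1), (algebraMap K (AdjoinRoot f) (f.coeff i)) * x ^ i = 0 := by
    have h := AdjoinRoot.eval₂_root f
    rw [eval₂_eq_sum_range, hd] at h
    exact h
  have hc0 := natDegree_of_palindrome hm hd hpal
  set y : AdjoinRoot f :=
    -∑ i ∈ Finset.range (2 * n), (algebraMap K (AdjoinRoot f) (f.coeff (i + 1))) * x ^ i with hy
  have hxy : x * y = 1 := by
    rw [Finset.sum_range_succ', hc0, map_one, one_mul, pow_zero] at hsum
    have hpos : ∑ i ∈ Finset.range (2 * n), algebraMap K (AdjoinRoot f) (f.coeff (i + 1)) * x ^ (i + 1) =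
        x * ∑ i ∈ Finset.range (2 * n), algebraMap K (AdjoinRoot f) (f.coeff (i + 1)) * x ^ i := by
      rw [Finset.mul_sum]
      exact Finset.sum_congr rfl fun i _ => by rw [pow_succ']; ring
    rw [hpos] at hsum
    rw [hy]
    linear_combination -hsum
  have hpow : ∀ i, i ≤ 2 * n → y ^ (2 * n) * x ^ (2 * n - i) = y ^ i := fun i hi => by
    rw [show y ^ (2 * n) = y ^ i * y ^ (2 * n - i) by rw [← pow_add]; congr 1; omega,
      mul_assoc, ← mul_pow, mul_comm y x, hxy, one_pow, mul_one]
  have hyroot : f.eval₂ (algebraMap K (AdjoinRoot f)) y = 0 := by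
    rw [eval₂_eq_sum_range, hd]
    have hrev : ∑ i ∈ Finset.range (2 * n + 1), algebraMap K (AdjoinRoot f) (f.coeff i) * y ^ i =
        y ^ (2 * n) * ∑ i ∈ Finset.range (2 * n + 1), algebraMap K (AdjoinRoot f) (f.coeff i) * x ^ i := by
      rw [← Finset.sum_range_reflect (fun i => algebraMap K (AdjoinRoot f) (f.coeff i) * x ^ i), Finset.mul_sum]
      refine Finset.sum_congr rfl fun i hi => ?_
      have hi' : i ≤ 2 * n := Nat.lt_succ_iff.1 (Finset.mem_range.1 hi)
      show _ = y ^ (2 * n) * (algebraMap K (AdjoinRoot f) (f.coeff (2 * n + 1 - 1 - i)) * x ^ (2 * n + 1 - 1 - i))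
      rw [Nat.add_sub_cancel, hpal i hi', ← hpow i hi']
      ring
    rw [hrev, hsum, mul_zero]
  set bar : AdjoinRoot f →ₐ[K] AdjoinRoot f := AdjoinRoot.liftAlgHom f (Algebra.ofId K _) y hyroot with hbar
  have hbx : bar x = y := AdjoinRoot.liftAlgHom_root f (Algebra.ofId K (AdjoinRoot f)) y hyroot
  have hby : bar y = x := by
    have h := congrArg bar hxy
    rw [map_mul, hbx, map_one] at h
    calc bar y = (x * y) * bar y := by rw [hxy, one_mul]
      _ = x * (y * bar y) := by ring
      _ = x := by rw [h, mul_one]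
  have hbb : ∀ a, bar (bar a) = a := fun a => by
    have h : bar.comp bar = AlgHom.id K (AdjoinRoot f) := AdjoinRoot.algHom_ext (by
      show bar (bar x) = x
      rw [hbx, hby])
    exact AlgHom.congr_fun h a
  -- the functional
  set top : Fin pb.dim := ⟨2 * n - 1, by omega⟩ with htop
  have hrep : ∀ i, i < 2 * n → pb.basis.repr (x ^ i) top = if i = 2 * n - 1 then 1 else 0 := by
    intro i hi
    have e : x ^ i = pb.basis ⟨i, by omega⟩ := by
      rw [pb.basis_eq_pow]
      rfl
    rw [e, Module.Basis.repr_self, Finsupp.single_apply]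
    refine if_congr ?_ rfl rfl
    rw [htop, Fin.ext_iff]
  let l : AdjoinRoot f →ₗ[K] K :=
    (Finsupp.lapply top).comp (pb.basis.repr.toLinearMap.comp (LinearMap.mulLeft K (x ^ (n - 1))))
  have hl : ∀ a, l a = pb.basis.repr (x ^ (n - 1) * a) top := fun a => rfl
  have hly : ∀ a, l (y ^ (n - 1) * a) = pb.basis.repr a top := fun a => by
    rw [hl, ← mul_assoc, ← mul_pow, hxy, one_pow, one_mul]
  have hlbar : l ∘ₗ bar.toLinearMap = -l := by
    refine (pb.basis.map (LinearEquiv.ofInjectiveEndo (LinearMap.mulLeft K (y ^ (n - 1)))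
      (fun a b h => by
        have := congrArg (fun z => x ^ (n - 1) * z) h
        simp only [LinearMap.mulLeft_apply, ← mul_assoc, ← mul_pow, hxy, one_pow, one_mul] at this
        exact this))).ext fun i => ?_
    have hi : (i : ℕ) < 2 * n := hdim ▸ i.2
    simp only [Module.Basis.map_apply, LinearMap.comp_apply, AlgHom.toLinearMap_apply, LinearMap.neg_apply,
      pb.basis_eq_pow]
    show l (bar (y ^ (n - 1) * pb.gen ^ (i : ℕ))) = -l (y ^ (n - 1) * pb.gen ^ (i : ℕ))
    rw [show pb.gen = x from rfl, map_mul, map_pow, map_pow, hby, hbx, hly, hrep i hi]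
    rcases Nat.lt_or_ge (i : ℕ) (2 * n - 1) with hlt | hge
    · rw [if_neg (by omega), neg_zero]
      rcases Nat.le_total (i : ℕ) (n - 1) with h1 | h1
      · have e : x ^ (n - 1) * y ^ (i : ℕ) = x ^ (n - 1 - i) := by
          rw [show x ^ (n - 1) = x ^ (n - 1 - i) * x ^ (i : ℕ) by rw [← pow_add]; congr 1; omega,
            mul_assoc, ← mul_pow, hxy, one_pow, mul_one]
        rw [e, hl, ← pow_add, hrep _ (by omega), if_neg (by omega)]
      · have e : x ^ (n - 1) * y ^ (i : ℕ) = y ^ ((i : ℕ) - (n - 1)) := by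
          rw [show y ^ (i : ℕ) = y ^ (n - 1) * y ^ ((i : ℕ) - (n - 1)) by rw [← pow_add]; congr 1; omega,
            ← mul_assoc, ← mul_pow, hxy, one_pow, one_mul]
        rw [e, hl]
        have e2 : x ^ (n - 1) * y ^ ((i : ℕ) - (n - 1)) = x ^ (n - 1 - ((i : ℕ) - (n - 1))) := by
          rw [show x ^ (n - 1) = x ^ (n - 1 - ((i : ℕ) - (n - 1))) * x ^ ((i : ℕ) - (n - 1)) by
              rw [← pow_add]; congr 1; omega,
            mul_assoc, ← mul_pow, hxy, one_pow, mul_one]
        rw [e2, hrep _ (by omega), if_neg (by omega)]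
    · have hieq : (i : ℕ) = 2 * n - 1 := by omega
      rw [if_pos hieq, hieq, hl]
      have e : x ^ (n - 1) * (x ^ (n - 1) * y ^ (2 * n - 1)) = y := by
        rw [← mul_assoc, ← pow_add, show 2 * n - 1 = (n - 1 + (n - 1)) + 1 by omega, pow_succ,
          ← mul_assoc, ← mul_pow, hxy, one_pow, one_mul]
      rw [e, hy, map_neg, map_sum, Finsupp.neg_apply, Finsupp.finsetSum_apply, neg_inj,
        Finset.sum_eq_single (2 * n - 1)]
      · rw [← Algebra.smul_def, map_smul, Finsupp.smul_apply, hrep _ (by omega), if_pos rfl,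
          show 2 * n - 1 + 1 = f.natDegree by omega, hm.coeff_natDegree, smul_eq_mul, mul_one]
      · intro j hj hne
        rw [← Algebra.smul_def, map_smul, Finsupp.smul_apply, hrep _ (Finset.mem_range.1 hj),
          if_neg hne, smul_zero]
      · simp
        omega
  have hlb : ∀ a, l (bar a) = -l a := fun a => LinearMap.congr_fun hlbar a
  -- the form
  let B : LinearMap.BilinForm K (AdjoinRoot f) :=
    ((LinearMap.mul K (AdjoinRoot f)).compl₁₂ LinearMap.id bar.toLinearMap).compr₂ l
  have hB : ∀ a b, B a b = l (a * bar b) := fun a b => rfl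
  have halt : B.IsAlt := fun a => by
    have h := hlb (a * bar a)
    rw [map_mul, hbb, mul_comm (bar a) a] at h
    rw [hB]
    refine (mul_eq_zero.1 (show (2 : K) * l (a * bar a) = 0 from ?_)).resolve_left h2
    linear_combination h
  have hnd : B.Nondegenerate := by
    refine halt.isRefl.nondegenerate_iff_separatingLeft.2 fun a ha => ?_
    have hkey : ∀ k : ℕ, pb.basis.repr (a * x ^ k) top = 0 := fun k => by
      have h := ha (bar (y ^ (n - 1) * x ^ k))
      rw [hB, hbb, mul_left_comm, hly] at h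
      exact h
    by_contra ha0
    obtain ⟨φ, rfl⟩ := AdjoinRoot.mk_surjective a
    have hmod : AdjoinRoot.mk f φ = AdjoinRoot.mk f (φ %ₘ f) := by
      rw [AdjoinRoot.mk_eq_mk]
      exact ⟨φ /ₘ f, by
        have := modByMonic_add_div φ f
        linear_combination -this⟩
    rw [hmod] at ha0 hkey
    set r := φ %ₘ f with hr
    have hr0 : r ≠ 0 := fun h => ha0 (by rw [h, map_zero])
    have hrd : r.natDegree < 2 * n := by
      rw [← hd]
      exact natDegree_modByMonic_lt φ hm (fun h => by rw [h, natDegree_one] at hd; omega)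
    have h := hkey (2 * n - 1 - r.natDegree)
    rw [hx, ← AdjoinRoot.mk_X, ← map_pow, ← map_mul] at h
    have hdeg : (r * X ^ (2 * n - 1 - r.natDegree)).natDegree = 2 * n - 1 := by
      rw [natDegree_mul hr0 (pow_ne_zero _ X_ne_zero), natDegree_X_pow]; omega
    have hcoef : pb.basis.repr (AdjoinRoot.mk f (r * X ^ (2 * n - 1 - r.natDegree))) top =
        (r * X ^ (2 * n - 1 - r.natDegree)).coeff (2 * n - 1) := by
      have hlt : (r * X ^ (2 * n - 1 - r.natDegree)).degree < f.degree := by
        rw [degree_eq_natDegree (mul_ne_zero hr0 (pow_ne_zero _ X_ne_zero)), degree_eq_natDegree hm.ne_zero,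
          hdeg, hd]
        exact_mod_cast (show 2 * n - 1 < 2 * n by omega)
      show ((AdjoinRoot.modByMonicHom hm) (AdjoinRoot.mk f _)).coeff (2 * n - 1) = _
      rw [AdjoinRoot.modByMonicHom_mk, (modByMonic_eq_self_iff hm).2 hlt]
    rw [hcoef, coeff_mul_X_pow', if_pos (by omega),
      show 2 * n - 1 - (2 * n - 1 - r.natDegree) = r.natDegree by omega] at h
    exact hr0 (leadingCoeff_eq_zero.1 h)
  obtain ⟨m, E, hmdim, hE⟩ := H2.exists_equiv_std B hnd halt
  obtain rfl : m = n := by rw [pb.finrank, hdim] at hmdim; omega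
  set T : Module.End K (AdjoinRoot f) := LinearMap.mulLeft K x with hT
  have hmem : LinearMap.toMatrix' (E.conj T) ∈ Matrix.symplecticGroup (Fin m) K := by
    rw [H2.mem_symplecticGroup_iff]
    intro u v
    obtain ⟨a, rfl⟩ := E.surjective u
    obtain ⟨b, rfl⟩ := E.surjective v
    have e : ∀ c, (LinearMap.toMatrix' (E.conj T)).mulVec (E c) = E (x * c) := fun c => by
      rw [LinearMap.toMatrix'_mulVec, LinearEquiv.conj_apply_apply, E.symm_apply_apply]
      rfl
    rw [e, e, hE, hE, hB, hB, map_mul bar, hbx]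
    congr 1
    linear_combination (a * bar b) * hxy
  refine ⟨⟨_, hmem⟩, ?_⟩
  show (LinearMap.toMatrix' (E.conj T)).charpoly = f
  rw [← LinearMap.toMatrix_eq_toMatrix', LinearMap.charpoly_toMatrix, charpoly_equiv,
    ← LinearMap.charpoly_toMatrix T pb.basis]
  show (Algebra.leftMulMatrix pb.basis x).charpoly = f
  rw [show x = pb.gen from rfl, charpoly_leftMulMatrix]
  exact AdjoinRoot.minpoly_powerBasis_gen_of_monic hm

/-- The self-reciprocal polynomial with given upper coefficients. -/
noncomputable def palPoly (n : ℕ) (c : Fin n → K) : K[X] :=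
  ∑ i ∈ Finset.range (2 * n + 1), monomial i
    (if i = 0 ∨ i = 2 * n then 1 else
      if h : min i (2 * n - i) - 1 < n then c ⟨min i (2 * n - i) - 1, h⟩ else 0)

theorem palPoly_coeff (n : ℕ) (c : Fin n → K) (i : ℕ) (hi : i ≤ 2 * n) :
    (palPoly n c).coeff i = if i = 0 ∨ i = 2 * n then 1 else
      if h : min i (2 * n - i) - 1 < n then c ⟨min i (2 * n - i) - 1, h⟩ else 0 := by
  rw [palPoly, finsetSum_coeff, Finset.sum_eq_single i]
  · rw [coeff_monomial, if_pos rfl]
  · intro j _ hne; rw [coeff_monomial, if_neg hne]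
  · intro h; exact absurd (Finset.mem_range.2 (by omega)) h

theorem palPoly_spec (n : ℕ) (c : Fin n → K) : (palPoly n c).Monic ∧ (palPoly n c).natDegree = 2 * n ∧
    ∀ i, i ≤ 2 * n → (palPoly n c).coeff (2 * n - i) = (palPoly n c).coeff i := by
  have hle : (palPoly n c).natDegree ≤ 2 * n :=
    natDegree_sum_le_of_forall_le _ _ fun i hi => (natDegree_monomial_le _).trans
      (by have := Finset.mem_range.1 hi; omega)
  have htop : (palPoly n c).coeff (2 * n) = 1 := by
    rw [palPoly_coeff n c _ le_rfl, if_pos (Or.inr rfl)]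
  have hdeg : (palPoly n c).natDegree = 2 * n :=
    le_antisymm hle (le_natDegree_of_ne_zero (by rw [htop]; exact one_ne_zero))
  refine ⟨by rw [Monic, leadingCoeff, hdeg, htop], hdeg, fun i hi => ?_⟩
  rw [palPoly_coeff n c _ (Nat.sub_le _ _), palPoly_coeff n c i hi]
  by_cases h : i = 0 ∨ i = 2 * n
  · rw [if_pos h, if_pos (by omega)]
  · rw [if_neg h, if_neg (by omega)]
    have e : min (2 * n - i) (2 * n - (2 * n - i)) - 1 = min i (2 * n - i) - 1 := by omega
    simp only [e]

theorem palPoly_injective (n : ℕ) : Function.Injective (palPoly (K := K) n) := by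
  intro c c' h
  funext k
  have hk := congrArg (fun P : K[X] => P.coeff ((k : ℕ) + 1)) h
  have := k.2
  simp only [palPoly_coeff _ _ _ (show (k : ℕ) + 1 ≤ 2 * n by omega)] at hk
  have hm : min ((k : ℕ) + 1) (2 * n - ((k : ℕ) + 1)) - 1 = k := by omega
  rw [if_neg (by omega), if_neg (by omega), dif_pos (by omega), dif_pos (by omega)] at hk
  simpa only [hm] using hk

/-- `Sp_2n(q)` has at least `q ^ n` classes. -/
theorem pow_le_card_classes [Fintype K] (h2 : (2 : K) ≠ 0) (n : ℕ) :
    Fintype.card K ^ n ≤ Nat.card (ConjClasses (Matrix.symplecticGroup (Fin n) K)) := by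
  classical
  have h := fun c : Fin n → K => exists_sp_charpoly h2 (palPoly n c) (palPoly_spec n c).1
    (palPoly_spec n c).2.1 (palPoly_spec n c).2.2
  choose g hg using h
  have hinj : Function.Injective fun c => ConjClasses.mk (g c) := by
    intro c c' hcc
    obtain ⟨w, hw⟩ := isConj_iff.1 (ConjClasses.mk_eq_mk_iff_isConj.1 hcc)
    refine palPoly_injective n ?_
    rw [← hg c, ← hg c', ← hw]
    let wu : (Matrix (Fin n ⊕ Fin n) (Fin n ⊕ Fin n) K)ˣ :=
      ⟨(w : Matrix (Fin n ⊕ Fin n) (Fin n ⊕ Fin n) K),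
        ((w⁻¹ : Matrix.symplecticGroup (Fin n) K) : Matrix (Fin n ⊕ Fin n) (Fin n ⊕ Fin n) K),
        congrArg Subtype.val (mul_inv_cancel w), congrArg Subtype.val (inv_mul_cancel w)⟩
    have h' := Matrix.charpoly_units_conj wu (g c).1
    rw [← Matrix.coe_units_inv] at h'
    exact h'.symm
  have := Nat.card_le_card_of_injective _ hinj
  rwa [Nat.card_eq_fintype_card, Fintype.card_fun, Fintype.card_fin] at this

end Cfsg.Agent.H66.SpChar
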