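/-
Palindromic polynomials and self-duality of the elementary divisors of symplectic elements.
-/
import Cfsg.Agent.H66.Similar
import Cfsg.Agent.H67.DualPoly

set_option autoImplicit false

open Polynomial

namespace Cfsg.Agent.H66.SpPal

universe u

variable {K : Type u} [Field K]

/-- Monic palindromes of even degree. -/
def Pal (f : K[X]) : Prop := f.Monic ∧ Even f.natDegree ∧ f.reverse = f

theorem Pal.one : Pal (1 : K[X]) := ⟨monic_one, by simp, by rw [← C_1, reverse_C]⟩

theorem Pal.mul {f g : K[X]} (hf : Pal f) (hg : Pal g) : Pal (f * g) :=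
  ⟨hf.1.mul hg.1, by rw [natDegree_mul hf.1.ne_zero hg.1.ne_zero]; exact hf.2.1.add hg.2.1,
    by rw [reverse_mul_of_domain, hf.2.2, hg.2.2]⟩

theorem Pal.pow {f : K[X]} (hf : Pal f) : ∀ k : ℕ, Pal (f ^ k)
  | 0 => by rw [pow_zero]; exact Pal.one
  | k + 1 => by rw [pow_succ]; exact (hf.pow k).mul hf

theorem reverse_X_sub_C (c : K) : (X - C c : K[X]).reverse = C (-c) * X + C 1 := by
  rw [show (X - C c : K[X]) = C (-c) + X by rw [C_neg]; ring, reverse_C_add, natDegree_X, pow_one]
  congr 1
  rw [reverse, natDegree_X]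
  ext i
  rw [coeff_reflect]
  rcases i with _ | _ | i
  · simp
  · simp [Polynomial.coeff_one]
  · rw [Polynomial.revAt_eq_self_of_lt (by omega), coeff_X]
    simp [Polynomial.coeff_one]

theorem Pal.sq_X_sub_C {c : K} (hc : c * c = 1) : Pal ((X - C c : K[X]) ^ 2) := by
  refine ⟨(monic_X_sub_C c).pow 2, by rw [natDegree_pow, natDegree_X_sub_C]; decide, ?_⟩
  have e : C (-c) * X + C 1 = C (-c) * (X - C c : K[X]) := by
    rw [mul_sub, ← C_mul, neg_mul, hc, C_neg, C_neg, C_1]; ring
  have h3 : (C (-c) * C (-c) : K[X]) = 1 := by rw [← C_mul, neg_mul_neg, hc, C_1]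
  rw [pow_two, reverse_mul_of_domain, reverse_X_sub_C, e]
  linear_combination ((X - C c : K[X]) * (X - C c)) * h3

theorem Pal.coeff_symm {f : K[X]} (hf : Pal f) {k : ℕ} (hk : f.natDegree = 2 * k) (i : ℕ) (hi : i ≤ 2 * k) :
    f.coeff (2 * k - i) = f.coeff i := by
  conv_rhs => rw [← hf.2.2, coeff_reverse, hk, revAt_le hi]

theorem dualPoly_id_X_sub_C {c : K} (hc : c * c = 1) :
    H67.dualPoly (RingHom.id K) (X - C c : K[X]) = X - C c := by
  rw [H67.dualPoly, Polynomial.map_id, reverse_X_sub_C]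
  simp only [coeff_sub, coeff_X_zero, coeff_C_zero, zero_sub, RingHom.id_apply]
  have hc0 : c ≠ 0 := left_ne_zero_of_mul_eq_one hc
  have hi : (-c)⁻¹ = -c := inv_eq_of_mul_eq_one_right (by rw [neg_mul_neg]; exact hc)
  rw [hi, mul_add, ← mul_assoc, ← C_mul, neg_mul_neg, hc, C_1, one_mul, mul_one, C_neg]
  ring

/-- A dual-fixed polynomial without roots `1` and `-1` is a palindrome of even degree. -/
theorem Pal.of_dual {f : K[X]} (h2 : (2 : K) ≠ 0) (hm : f.Monic) (h0 : f.coeff 0 ≠ 0)
    (hd : H67.dualPoly (RingHom.id K) f = f) (h1 : f.eval 1 ≠ 0) (h1' : f.eval (-1) ≠ 0) : Pal f := by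
  have hr : f.reverse = C (f.coeff 0) * f := by
    have h3 := congrArg (fun z : K[X] => C (f.coeff 0) * z) hd
    simp only [H67.dualPoly, Polynomial.map_id, RingHom.id_apply, ← mul_assoc, ← C_mul,
      mul_inv_cancel₀ h0, C_1, one_mul] at h3
    exact h3
  have hc : f.coeff 0 = 1 := by
    have := invertibleOne (α := K)
    have h := eval₂_reverse_mul_pow (RingHom.id K) (1 : K) f
    rw [invOf_one, one_pow, mul_one, eval₂_id, eval₂_id, hr, eval_mul, eval_C] at h
    exact (mul_eq_right₀ h1).1 h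
  rw [hc, C_1, one_mul] at hr
  refine ⟨hm, ?_, hr⟩
  let : Invertible (-1 : K) := ⟨-1, by ring, by ring⟩
  have h := eval₂_reverse_mul_pow (RingHom.id K) (-1 : K) f
  rw [hr, show (⅟(-1 : K)) = -1 from rfl, eval₂_id] at h
  by_contra hodd
  rw [(Nat.not_even_iff_odd.1 hodd).neg_one_pow] at h
  refine h1' ((mul_eq_zero.1 (show (2 : K) * f.eval (-1) = 0 from ?_)).resolve_left h2)
  linear_combination -h

variable {V : Type*} [AddCommGroup V] [Module K V]

/-- The reverse evaluated at `T` and the polynomial evaluated at the inverse. -/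
theorem aeval_reverse {T S : Module.End K V} (h : T * S = 1) (h' : S * T = 1) (P : K[X]) :
    aeval T P.reverse = T ^ P.natDegree * aeval S P := by
  have hc : Commute T S := by rw [Commute, SemiconjBy, h, h']
  rw [aeval_eq_sum_range' (n := P.natDegree + 1) (Nat.lt_succ_of_le (reverse_natDegree_le P)),
    aeval_eq_sum_range (p := P), Finset.mul_sum,
    ← Finset.sum_range_reflect (fun i => T ^ P.natDegree * P.coeff i • S ^ i)]
  refine Finset.sum_congr rfl fun i hi => ?_
  have hi' : i ≤ P.natDegree := Nat.lt_succ_iff.1 (Finset.mem_range.1 hi)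
  rw [Nat.add_sub_cancel, mul_smul_comm, coeff_reverse, revAt_le hi']
  congr 1
  rw [show T ^ P.natDegree = T ^ i * T ^ (P.natDegree - i) by rw [← pow_add]; congr 1; omega, mul_assoc,
    ← hc.mul_pow, h, one_pow, mul_one]

variable [FiniteDimensional K V]

/-- Similarity to the inverse makes the elementary divisors dual-invariant. -/
theorem finrank_ker_dual {T S : Module.End K V} (h : T * S = 1) (h' : S * T = 1) (L : V ≃ₗ[K] V)
    (hL : ∀ v, L (T v) = S (L v)) (P : K[X]) (h0 : P.coeff 0 ≠ 0) :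
    Module.finrank K (LinearMap.ker (aeval T (H67.dualPoly (RingHom.id K) P))) =
      Module.finrank K (LinearMap.ker (aeval T P)) := by
  rw [H66.finrank_ker_aeval_eq_of_intertwine hL P, H67.dualPoly, Polynomial.map_id, map_mul, aeval_C,
    aeval_reverse h h', RingHom.id_apply]
  have hT : Function.Injective (T ^ P.natDegree : Module.End K V) := by
    have hu : IsUnit T := ⟨⟨T, S, h, h'⟩, rfl⟩
    exact ((Module.End.isUnit_iff _).1 (hu.pow _)).1
  refine congrArg (fun W : Submodule K V => Module.finrank K W) ?_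
  ext v
  rw [LinearMap.mem_ker, LinearMap.mem_ker, Module.End.mul_apply, Module.End.mul_apply,
    Module.algebraMap_end_apply]
  constructor
  · intro hv
    exact hT (by rw [map_zero]; exact (smul_eq_zero.1 hv).resolve_left (inv_ne_zero h0))
  · intro hv
    rw [hv, map_zero, smul_zero]

end Cfsg.Agent.H66.SpPal
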