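/-
Elementary divisors of symplectic elements: duality, parity, and the link with the signs.
-/
import Cfsg.Agent.H66.SpSigns
import Cfsg.Agent.H66.SpPalindrome
import Cfsg.Agent.S2586

set_option autoImplicit false

open Polynomial Module
open LinearMap (BilinForm)

namespace Cfsg.Agent.H66.SpData

universe u v

variable {K : Type u} [Field K] {n : ℕ}

/-- The endomorphism of a symplectic matrix. -/
noncomputable def endo (g : Matrix.symplecticGroup (Fin n) K) : Module.End K (Fin n ⊕ Fin n → K) :=
  Matrix.toLin' (g : Matrix (Fin n ⊕ Fin n) (Fin n ⊕ Fin n) K)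

theorem endo_mul (g h : Matrix.symplecticGroup (Fin n) K) : endo (g * h) = endo g * endo h := by
  show Matrix.toLinAlgEquiv' _ = Matrix.toLinAlgEquiv' _ * Matrix.toLinAlgEquiv' _
  rw [← map_mul]
  rfl

theorem endo_one : endo (1 : Matrix.symplecticGroup (Fin n) K) = 1 := Matrix.toLin'_one

theorem isSys_endo (g : Matrix.symplecticGroup (Fin n) K) : SpSplit.IsSys (H2.sympBilin n K) (endo g) :=
  ⟨H2.sympBilin_nondegenerate n K, H2.sympBilin_isAlt n K, fun x y => by
    simp only [endo, Matrix.toLin'_apply]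
    exact Lead.sp_preserves g x y⟩

theorem isConj_of_isIso {g g' : Matrix.symplecticGroup (Fin n) K}
    (h : SpSplit.IsIso (H2.sympBilin n K) (endo g) (H2.sympBilin n K) (endo g')) : IsConj g g' := by
  obtain ⟨φ, hφ, hT⟩ := h
  obtain ⟨c, hc⟩ := (H2.spEquivIsometries n K).surjective ⟨φ, fun x y => hφ x y⟩
  have hcv : ∀ z, (c : Matrix (Fin n ⊕ Fin n) (Fin n ⊕ Fin n) K).mulVec z = φ z := fun z => by
    rw [← H2.spEquivIsometries_apply, hc]
  refine isConj_iff.2 ⟨c, mul_inv_eq_iff_eq_mul.2 (Subtype.ext (Matrix.ext_iff_mulVec.2 fun z => ?_))⟩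
  show ((c : Matrix (Fin n ⊕ Fin n) (Fin n ⊕ Fin n) K) * (g : Matrix (Fin n ⊕ Fin n) (Fin n ⊕ Fin n) K)).mulVec z =
    ((g' : Matrix (Fin n ⊕ Fin n) (Fin n ⊕ Fin n) K) * (c : Matrix (Fin n ⊕ Fin n) (Fin n ⊕ Fin n) K)).mulVec z
  rw [← Matrix.mulVec_mulVec, ← Matrix.mulVec_mulVec, hcv, hcv]
  have := hT z
  simpa only [endo, Matrix.toLin'_apply] using this

theorem exists_similar_inverse [Finite K] (g : Matrix.symplecticGroup (Fin n) K) :
    ∃ L : (Fin n ⊕ Fin n → K) ≃ₗ[K] (Fin n ⊕ Fin n → K), ∀ v, L (endo g v) = endo g⁻¹ (L v) := by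
  obtain ⟨L, hL⟩ := exists_equiv_of_isConj (S2586.result g)
  exact ⟨L, fun v => by simpa only [endo, Matrix.toLin'_apply] using hL v⟩

variable {ι : Type u} [Fintype ι] {p : ι → K[X]} {e : ι → ℕ} {g : Matrix.symplecticGroup (Fin n) K}

theorem const_ne_zero (hf : IsDecomp (endo g) p e) (i : ι) : (p i).coeff 0 ≠ 0 := by
  classical
  intro h0
  have hX : p i = X := (eq_of_monic_of_associated (monic_X) (hf.monic i)
    (irreducible_X.associated_of_dvd (hf.irreducible i) (X_dvd_iff.2 h0))).symm
  have h1 := hf.finrank_ker_pow monic_X irreducible_X 1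
  rw [natDegree_X, one_mul, pow_one, aeval_X, LinearMap.ker_eq_bot.2 (isSys_endo g).injective, finrank_bot,
    eq_comm, Finset.sum_eq_zero_iff] at h1
  have := h1 i (by simp [hX])
  have := hf.pos i
  omega

/-- Exchanging a monic irreducible with its dual does not change the multiplicities. -/
theorem decompCount_dual [Finite K] (hf : IsDecomp (endo g) p e) (P : K[X]) (hP : P.Monic)
    (hPi : Irreducible P) (h0 : P.coeff 0 ≠ 0) (s : ℕ) :
    decompCount p e (H67.dualPoly (RingHom.id K) P) s = decompCount p e P s := by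
  classical
  obtain ⟨L, hL⟩ := exists_similar_inverse g
  have hker : ∀ k : ℕ, finrank K (LinearMap.ker (aeval (endo g) (H67.dualPoly (RingHom.id K) P ^ k))) =
      finrank K (LinearMap.ker (aeval (endo g) (P ^ k))) := fun k => by
    rw [← H67.dualPoly_pow]
    exact SpPal.finrank_ker_dual (by rw [← endo_mul, mul_inv_cancel, endo_one])
      (by rw [← endo_mul, inv_mul_cancel, endo_one]) L hL _
      (by rw [coeff_zero_eq_eval_zero, eval_pow, ← coeff_zero_eq_eval_zero]; exact pow_ne_zero _ h0)
  cases s with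
  | zero =>
    have h1 : ∀ Q : K[X], IsEmpty {i // p i = Q ∧ e i = 0} :=
      fun Q => ⟨fun i => by have := hf.pos i.1; omega⟩
    simp [decompCount]
  | succ s =>
    have h1 := hf.decompCount_formula hP hPi s
    have h2 := hf.decompCount_formula (H67.dualPoly_monic (σ := RingHom.id K) h0)
      (H67.dualPoly_irreducible (fun _ => rfl) hP h0 hPi) s
    rw [hker, hker, hker, H67.dualPoly_natDegree h0] at h2
    exact Nat.eq_of_mul_eq_mul_left hPi.natDegree_pos (by omega)

theorem dualPoly_multiset_prod (m : Multiset K[X]) :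
    H67.dualPoly (RingHom.id K) m.prod = (m.map (H67.dualPoly (RingHom.id K))).prod := by
  induction m using Multiset.induction with
  | empty => simpa using H67.dualPoly_pow (σ := RingHom.id K) (1 : K[X]) 0
  | cons a s ih => rw [Multiset.prod_cons, H67.dualPoly_mul, ih, Multiset.map_cons, Multiset.prod_cons]

/-- A dual-invariant part of the product of the elementary divisors of one exponent is self-dual. -/
theorem dual_prod_filter [Finite K] (hf : IsDecomp (endo g) p e) (Q : K[X] → Prop) [DecidablePred Q]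
    (hQ : ∀ P : K[X], P.Monic → P.coeff 0 ≠ 0 → (Q (H67.dualPoly (RingHom.id K) P) ↔ Q P)) (s : ℕ) :
    H67.dualPoly (RingHom.id K) (∏ i with e i = s ∧ Q (p i), p i) = ∏ i with e i = s ∧ Q (p i), p i := by
  classical
  rw [Finset.prod_eq_multiset_prod, dualPoly_multiset_prod]
  congr 1
  rw [Multiset.map_map]
  refine Multiset.ext.2 fun P => ?_
  rw [Multiset.count_map, Multiset.count_map, ← Finset.filter_val, ← Finset.filter_val,
    ← Finset.card_def, ← Finset.card_def, Finset.filter_filter, Finset.filter_filter]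
  by_cases hP : P.Monic ∧ Irreducible P ∧ P.coeff 0 ≠ 0
  · obtain ⟨hm, hi, h0⟩ := hP
    have hdd := H67.dualPoly_dualPoly (σ := RingHom.id K) (fun _ => rfl) hm h0
    have h := decompCount_dual hf P hm hi h0 s
    rw [decompCount, decompCount, Nat.card_eq_fintype_card, Nat.card_eq_fintype_card,
      Fintype.card_subtype, Fintype.card_subtype] at h
    by_cases hQP : Q P
    · refine Eq.trans (Eq.trans ?_ h) ?_
      · congr 1
        refine Finset.filter_congr fun i _ => ⟨fun ⟨⟨h1, _⟩, h3⟩ => ⟨?_, h1⟩, fun ⟨h1, h3⟩ => ⟨⟨h3, ?_⟩, ?_⟩⟩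
        · rw [h3, Function.comp_apply, H67.dualPoly_dualPoly (fun _ => rfl) (hf.monic i) (const_ne_zero hf i)]
        · rw [h1]; exact (hQ P hm h0).2 hQP
        · rw [Function.comp_apply, h1, hdd]
      · congr 1
        refine Finset.filter_congr fun i _ => ⟨fun ⟨h1, h3⟩ => ⟨⟨h3, h1 ▸ hQP⟩, h1.symm⟩,
          fun ⟨⟨h1, _⟩, h3⟩ => ⟨h3.symm, h1⟩⟩
    · rw [Finset.card_eq_zero.2, Finset.card_eq_zero.2]
      · exact Finset.filter_eq_empty_iff.2 fun i _ h => hQP (by rw [h.2]; exact h.1.2)
      · refine Finset.filter_eq_empty_iff.2 fun i _ h => hQP ?_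
        rw [h.2, Function.comp_apply]
        exact (hQ (p i) (hf.monic i) (const_ne_zero hf i)).2 h.1.2
  · rw [Finset.card_eq_zero.2, Finset.card_eq_zero.2]
    · exact Finset.filter_eq_empty_iff.2 fun i _ h =>
        hP (by rw [h.2]; exact ⟨hf.monic i, hf.irreducible i, const_ne_zero hf i⟩)
    · refine Finset.filter_eq_empty_iff.2 fun i _ h => hP ?_
      rw [h.2, Function.comp_apply]
      refine ⟨H67.dualPoly_monic (const_ne_zero hf i),
        H67.dualPoly_irreducible (fun _ => rfl) (hf.monic i) (const_ne_zero hf i) (hf.irreducible i), ?_⟩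
      rw [H67.dualPoly_coeff_zero (hf.monic i)]
      exact inv_ne_zero (const_ne_zero hf i)

/-- Multiplicity of a linear elementary divisor. -/
noncomputable def mult (p : ι → K[X]) (e : ι → ℕ) (c : K) (s : ℕ) : ℕ :=
  decompCount p e (X - C c) s

/-- The block counts of a unipotent endomorphism read off a decomposition. -/
theorem card_blocks_eq {V : Type v} [AddCommGroup V] [Module K V] [FiniteDimensional K V]
    (U : Module.End K V) (hU : IsNilpotent (U - 1)) (hf : IsDecomp (endo g) p e) (c : K)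
    (hker : ∀ k : ℕ, finrank K (LinearMap.ker ((U - 1) ^ k)) =
      finrank K (LinearMap.ker (aeval (endo g) ((X - C c) ^ k)))) (s : ℕ) :
    (Finset.univ.filter fun a => (SpSplit.dOf (SpSplit.kd U)).2 a = s).card = mult p e c s := by
  classical
  obtain ⟨hd, hdk⟩ := SpSplit.dOf_spec U hU
  rw [card_filter_eq_of_typeKer (d := (SpSplit.dOf (SpSplit.kd U)).2) (e := fun i : {i // p i = X - C c} => e i.1)
    hd (fun i => hf.pos i.1) (fun k => ?_) s]
  · rw [mult, decompCount, Nat.card_eq_fintype_card, ← Fintype.card_subtype]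
    exact Fintype.card_congr (Equiv.subtypeSubtypeEquivSubtypeInter (fun i => p i = X - C c) (fun i => e i = s))
  · rw [congrFun hdk k, SpSplit.kd, hker, hf.finrank_ker_pow (monic_X_sub_C c) (irreducible_X_sub_C c),
      natDegree_X_sub_C, one_mul, typeKer]
    exact Finset.sum_subtype _ (fun x => by simp) fun i => min k (e i)

theorem hker_plus (g : Matrix.symplecticGroup (Fin n) K) (k : ℕ) :
    finrank K (LinearMap.ker ((SpSplit.fixEnd (endo g) - 1) ^ k)) =
      finrank K (LinearMap.ker (aeval (endo g) ((X - C (1 : K)) ^ k))) := by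
  rw [SpSplit.finrank_ker_fixEnd, SpSplit.aeval_sub_one_pow]

theorem hker_minus_aux (h2 : (2 : K) ≠ 0) {V : Type v} [AddCommGroup V] [Module K V] [FiniteDimensional K V]
    (T : Module.End K V) (k : ℕ) :
    finrank K (LinearMap.ker ((SpSplit.fixEnd (-SpSplit.movEnd T) - 1) ^ k)) =
      finrank K (LinearMap.ker (aeval T ((X - C (-1 : K)) ^ k))) := by
  rw [SpSplit.finrank_ker_fixEnd]
  have hco : IsCoprime ((X - C (-1 : K)) ^ k) ((X - C (1 : K)) ^ finrank K V) :=
    (isCoprime_X_sub_C_of_isUnit_sub (isUnit_iff_ne_zero.2 (fun h => h2 (by linear_combination -h)))).pow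
  obtain ⟨a, b, hab⟩ := hco
  have hsub : LinearMap.ker (aeval T ((X - C (-1 : K)) ^ k)) ≤ SpSplit.movPart T := by
    intro x hx
    have h1 := LinearMap.congr_fun (congrArg (aeval T) hab) x
    rw [map_add, map_mul, map_mul, LinearMap.add_apply, Module.End.mul_apply, LinearMap.mem_ker.1 hx,
      map_zero, zero_add, show aeval T (1 : K[X]) = 1 from map_one _, Module.End.one_apply, ← map_mul, mul_comm, map_mul,
      SpSplit.aeval_sub_one_pow, Module.End.mul_apply] at h1
    exact ⟨_, h1⟩
  have hval : ∀ (j : ℕ) (y : SpSplit.movPart T),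
      ((((-SpSplit.movEnd T - 1) ^ j) y : SpSplit.movPart T) : V) =
        (-1 : K) ^ j • aeval T ((X - C (-1 : K)) ^ j) y := by
    intro j
    induction j with
    | zero => intro y; simp
    | succ j ih =>
      intro y
      rw [pow_succ, Module.End.mul_apply, ih, pow_succ, pow_succ ((X - C (-1 : K))), map_mul (aeval T),
        Module.End.mul_apply, mul_smul]
      refine congrArg _ ?_
      rw [← map_smul]
      congr 1
      simp [SpSplit.movEnd]
      abel
  have hmap : (LinearMap.ker ((-SpSplit.movEnd T - 1) ^ k)).map (SpSplit.movPart T).subtype =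
      LinearMap.ker (aeval T ((X - C (-1 : K)) ^ k)) := by
    ext x
    constructor
    · rintro ⟨y, hy, rfl⟩
      have := hval k y
      rw [LinearMap.mem_ker.1 hy, Submodule.coe_zero, eq_comm, smul_eq_zero] at this
      exact LinearMap.mem_ker.2 (this.resolve_left (pow_ne_zero _ (by simp)))
    · intro hx
      refine ⟨⟨x, hsub hx⟩, LinearMap.mem_ker.2 (Subtype.ext ?_), rfl⟩
      rw [hval]
      show (-1 : K) ^ k • aeval T ((X - C (-1 : K)) ^ k) x = 0
      rw [LinearMap.mem_ker.1 hx, smul_zero]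
  rw [← hmap]
  exact (Submodule.equivMapOfInjective _ (SpSplit.movPart T).injective_subtype _).finrank_eq

/-- An odd block size occurs an even number of times in a unipotent symplectic isometry. -/
theorem even_blocks (h2 : (2 : K) ≠ 0) {V : Type v} [AddCommGroup V] [Module K V] [FiniteDimensional K V]
    {B : BilinForm K V} {T : Module.End K V} (h : SpSplit.IsSys B T) (hT : IsNilpotent (T - 1))
    {s : ℕ} (hs : Odd s) :
    Even (Finset.univ.filter fun a => (SpSplit.dOf (SpSplit.kd T)).2 a = s).card := by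
  obtain ⟨hd, hdk⟩ := SpSplit.dOf_spec T hT
  obtain ⟨φ, M, -, hinv, hdet, hskew⟩ := SpSplit.exists_frame h hT _ hdk
  refine even_card_blocks_of_invariant hinv hdet hd (ε := -1) (fun x y => ?_) hs.pos ?_ (Or.inl h2)
  · rw [neg_one_mul]
    exact congrFun (congrFun hskew x) y
  · obtain ⟨j, rfl⟩ := hs
    rw [Nat.add_sub_cancel, (even_two_mul j).neg_one_pow, one_mul]

end Cfsg.Agent.H66.SpData
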