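/-
Counting the tuples that parametrise symplectic classes.
-/
import Mathlib

set_option autoImplicit false

namespace Cfsg.Agent.H66.SpTuple

universe u

variable {K : Type u} [Fintype K]

/-- The number of marks. -/
def marks (b : Fin 4 → Bool) : ℕ := (Finset.univ.filter fun l => b l = true).card

/-- Shapes: half degrees and marks of total weight `n`. -/
abbrev Shape (N M n : ℕ) : Type :=
  {x : (Fin (N + 1) → Fin (n + 1)) × (Fin M → Fin 4 → Bool) //
    ∑ j : Fin (N + 1), ((j : ℕ) + 1) * (x.1 j : ℕ) + ∑ i : Fin M, ((i : ℕ) + 1) * marks (x.2 i) = n}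

/-- Tuples of coefficient vectors and marks. -/
abbrev Data (K : Type u) (N M n : ℕ) : Type u :=
  Σ x : Shape N M n, ∀ j : Fin (N + 1), Fin (x.1.1 j : ℕ) → K

theorem prod_marks (r : ℚ) (b : Fin 4 → Bool) :
    ∏ l, (if b l = true then r else 1) = r ^ marks b := by
  rw [Finset.prod_ite, Finset.prod_const, Finset.prod_const_one, mul_one, marks]

theorem sum_marks (r : ℚ) : ∑ b : Fin 4 → Bool, r ^ marks b = (1 + r) ^ 4 := by
  simp_rw [← prod_marks r]
  rw [← Fintype.prod_sum (fun (_ : Fin 4) (c : Bool) => if c = true then r else 1),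
    Finset.prod_const, Finset.card_univ, Fintype.card_fin, Fintype.sum_bool]
  simp [add_comm]

/-- The weighted count. -/
theorem card_data_le (hq : 3 ≤ Fintype.card K) (N M n : ℕ) :
    (Nat.card (Data K N M n) : ℚ) ≤ (Fintype.card K : ℚ) ^ n *
      ((∏ j : Fin N, ∑ k : Fin (n + 1), ((1 / 3 : ℚ) ^ ((j : ℕ) + 1)) ^ (k : ℕ)) *
        ∏ i : Fin M, (1 + (1 / 3 : ℚ) ^ ((i : ℕ) + 1)) ^ 4) := by
  classical
  set q : ℕ := Fintype.card K with hqdef
  have hq0 : (q : ℚ) ≠ 0 := by exact_mod_cast (show q ≠ 0 by omega)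
  set r : ℚ := 1 / 3 with hr
  let w : (Fin N → Fin (n + 1)) × (Fin M → Fin 4 → Bool) → ℚ := fun y =>
    (∏ j : Fin N, (r ^ ((j : ℕ) + 1)) ^ (y.1 j : ℕ)) * ∏ i : Fin M, (r ^ ((i : ℕ) + 1)) ^ marks (y.2 i)
  have hw0 : ∀ y, 0 ≤ w y := fun y => by
    refine mul_nonneg (Finset.prod_nonneg fun j _ => ?_) (Finset.prod_nonneg fun j _ => ?_) <;> positivity
  let φ : Shape N M n → (Fin N → Fin (n + 1)) × (Fin M → Fin 4 → Bool) :=
    fun x => (fun j => x.1.1 j.succ, x.1.2)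
  have hφ : Function.Injective φ := by
    rintro ⟨⟨k, b⟩, hx⟩ ⟨⟨k', b'⟩, hx'⟩ h
    have hk : ∀ j : Fin N, k j.succ = k' j.succ := fun j => congrFun (congrArg Prod.fst h) j
    have hb : b = b' := congrArg Prod.snd h
    subst hb
    dsimp only at hx hx'
    simp only [Fin.sum_univ_succ, hk] at hx hx'
    simp only [Fin.val_zero, zero_add, one_mul] at hx hx'
    refine Subtype.ext (Prod.ext (funext fun j => ?_) rfl)
    show k j = k' j
    refine Fin.cases ?_ hk j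
    exact Fin.ext (by omega)
  have hterm : ∀ x : Shape N M n, ((∏ j, q ^ (x.1.1 j : ℕ) : ℕ) : ℚ) ≤ (q : ℚ) ^ n * w (φ x) := by
    rintro ⟨⟨k, b⟩, hx⟩
    dsimp only at hx ⊢
    have hsplit : n = (∑ j, (k j : ℕ)) +
        ((∑ j : Fin N, ((j : ℕ) + 1) * (k j.succ : ℕ)) + ∑ i : Fin M, ((i : ℕ) + 1) * marks (b i)) := by
      conv_lhs => rw [← hx]
      rw [Fin.sum_univ_succ, Fin.sum_univ_succ]
      simp only [Fin.val_zero, zero_add, one_mul, Fin.val_succ]
      have : ∑ j : Fin N, ((j : ℕ) + 1 + 1) * (k j.succ : ℕ) =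
          (∑ j : Fin N, (k j.succ : ℕ)) + ∑ j : Fin N, ((j : ℕ) + 1) * (k j.succ : ℕ) := by
        rw [← Finset.sum_add_distrib]
        exact Finset.sum_congr rfl fun j _ => by ring
      omega
    set E : ℕ := (∑ j : Fin N, ((j : ℕ) + 1) * (k j.succ : ℕ)) + ∑ i : Fin M, ((i : ℕ) + 1) * marks (b i) with hE
    have hw : w (φ ⟨(k, b), hx⟩) = r ^ E := by
      simp only [w, φ, ← pow_mul, Finset.prod_pow_eq_pow_sum, hE]
      rw [← pow_add]
    rw [hw, Finset.prod_pow_eq_pow_sum, Nat.cast_pow]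
    conv_rhs => rw [hsplit, pow_add, mul_assoc, ← mul_pow]
    refine le_mul_of_one_le_right (by positivity) (one_le_pow₀ ?_)
    rw [hr]
    have : (3 : ℚ) ≤ q := by exact_mod_cast hq
    linarith
  calc (Nat.card (Data K N M n) : ℚ)
      = ∑ x : Shape N M n, ((∏ j, q ^ (x.1.1 j : ℕ) : ℕ) : ℚ) := by
        rw [Nat.card_sigma, Nat.cast_sum]
        refine Finset.sum_congr rfl fun x _ => ?_
        rw [Nat.card_pi]
        simp [hqdef, Nat.card_eq_fintype_card]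
    _ ≤ ∑ x : Shape N M n, (q : ℚ) ^ n * w (φ x) := Finset.sum_le_sum fun x _ => hterm x
    _ = (q : ℚ) ^ n * ∑ y ∈ Finset.univ.image φ, w y := by
        rw [Finset.sum_image fun a _ b _ h => hφ h, Finset.mul_sum]
    _ ≤ (q : ℚ) ^ n * ∑ y, w y := mul_le_mul_of_nonneg_left
        (Finset.sum_le_sum_of_subset_of_nonneg (Finset.subset_univ _) fun y _ _ => hw0 y) (by positivity)
    _ = _ := by
        congr 1
        rw [Fintype.sum_prod_type]
        simp only [w, ← Finset.mul_sum, ← Finset.sum_mul]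
        rw [← Fintype.prod_sum (fun (j : Fin N) (k : Fin (n + 1)) => (r ^ ((j : ℕ) + 1)) ^ (k : ℕ)),
          ← Fintype.prod_sum (fun (i : Fin M) (b : Fin 4 → Bool) => (r ^ ((i : ℕ) + 1)) ^ marks b)]
        simp only [sum_marks]

/-- `∏ (1 - 3 ^ -(j + 1))`. -/
def low (N : ℕ) : ℚ := ∏ j ∈ Finset.range N, (1 - (1 / 3 : ℚ) ^ (j + 1))

/-- `∏ (1 + 3 ^ -(j + 1))`. -/
def high (N : ℕ) : ℚ := ∏ j ∈ Finset.range N, (1 + (1 / 3 : ℚ) ^ (j + 1))

theorem low_succ (N : ℕ) : low (N + 1) = low N * (1 - (1 / 3 : ℚ) ^ (N + 1)) := Finset.prod_range_succ _ _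

theorem high_succ (N : ℕ) : high (N + 1) = high N * (1 + (1 / 3 : ℚ) ^ (N + 1)) := Finset.prod_range_succ _ _

theorem low_bounds : ∀ N, 0 ≤ low N ∧ low N ≤ 1 := by
  intro N
  induction N with
  | zero => simp [low]
  | succ N ih =>
    have h1 : (0 : ℚ) < (1 / 3 : ℚ) ^ (N + 1) := by positivity
    have h2 : (1 / 3 : ℚ) ^ (N + 1) ≤ 1 := pow_le_one₀ (by norm_num) (by norm_num)
    rw [low_succ]
    constructor <;> nlinarith

theorem low_ge : ∀ N, low 7 - (1 / 2) * (1 / 3 : ℚ) ^ 7 ≤ low N := by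
  have hbig : ∀ s, low 7 - (1 / 2) * (1 / 3 : ℚ) ^ 7 + (1 / 2) * (1 / 3 : ℚ) ^ (7 + s) ≤ low (7 + s) := by
    intro s
    induction s with
    | zero => simp
    | succ s ih =>
      have h0 := low_bounds (7 + s)
      have hp : (0 : ℚ) < (1 / 3 : ℚ) ^ (7 + s) := by positivity
      rw [← Nat.add_assoc, low_succ (7 + s), pow_succ _ (7 + s)]
      nlinarith
  intro N
  rcases Nat.lt_or_ge N 7 with h | h
  · interval_cases N <;> norm_num [low, Finset.prod_range_succ]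
  · obtain ⟨s, rfl⟩ := Nat.exists_eq_add_of_le h
    have hp : (0 : ℚ) < (1 / 3 : ℚ) ^ (7 + s) := by positivity
    have := hbig s
    linarith

theorem high_le : ∀ N, high N ≤ high 7 + (4 / 5) * (1 / 3 : ℚ) ^ 7 := by
  have hB : high 7 + (4 / 5) * (1 / 3 : ℚ) ^ 7 ≤ 8 / 5 := by norm_num [high, Finset.prod_range_succ]
  have hbig : ∀ s, high (7 + s) ≤ high 7 + (4 / 5) * (1 / 3 : ℚ) ^ 7 - (4 / 5) * (1 / 3 : ℚ) ^ (7 + s) := by
    intro s
    induction s with
    | zero => simp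
    | succ s ih =>
      have hp : (0 : ℚ) < (1 / 3 : ℚ) ^ (7 + s) := by positivity
      rw [← Nat.add_assoc, high_succ (7 + s), pow_succ _ (7 + s)]
      nlinarith
  intro N
  rcases Nat.lt_or_ge N 7 with h | h
  · interval_cases N <;> norm_num [high, Finset.prod_range_succ]
  · obtain ⟨s, rfl⟩ := Nat.exists_eq_add_of_le h
    have hp : (0 : ℚ) < (1 / 3 : ℚ) ^ (7 + s) := by positivity
    have := hbig s
    linarith

/-- The numerical bound. -/
theorem card_data_le_const (hq : 3 ≤ Fintype.card K) (N M n : ℕ) :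
    5 * Nat.card (Data K N M n) ≤ 54 * Fintype.card K ^ n := by
  have h1 := card_data_le (K := K) hq N M n
  have hA0 : (0 : ℚ) < low 7 - (1 / 2) * (1 / 3 : ℚ) ^ 7 := by norm_num [low, Finset.prod_range_succ]
  have hlow : (0 : ℚ) < low N := lt_of_lt_of_le hA0 (low_ge N)
  have hsum : ∏ j : Fin N, ∑ k : Fin (n + 1), ((1 / 3 : ℚ) ^ ((j : ℕ) + 1)) ^ (k : ℕ) ≤ 1 / low N := by
    rw [le_div_iff₀ hlow, low, ← Fin.prod_univ_eq_prod_range (fun j => (1 - (1 / 3 : ℚ) ^ (j + 1))),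
      ← Finset.prod_mul_distrib]
    refine Finset.prod_le_one (fun j _ => mul_nonneg (Finset.sum_nonneg fun k _ => by positivity) ?_) fun j _ => ?_
    · have : (1 / 3 : ℚ) ^ ((j : ℕ) + 1) ≤ 1 := pow_le_one₀ (by norm_num) (by norm_num)
      linarith
    rw [Fin.sum_univ_eq_sum_range (fun k => ((1 / 3 : ℚ) ^ ((j : ℕ) + 1)) ^ k), geom_sum_mul_neg]
    have : (0 : ℚ) ≤ ((1 / 3 : ℚ) ^ ((j : ℕ) + 1)) ^ (n + 1) := by positivity
    linarith
  have hhigh : ∏ i : Fin M, (1 + (1 / 3 : ℚ) ^ ((i : ℕ) + 1)) ^ 4 =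
      high M ^ 4 := by
    rw [Finset.prod_pow, high, ← Fin.prod_univ_eq_prod_range (fun j => (1 + (1 / 3 : ℚ) ^ (j + 1)))]
  rw [hhigh] at h1
  have hh0 : 0 ≤ high M := Finset.prod_nonneg fun j _ => by positivity
  have hp : high M ^ 4 ≤ (high 7 + (4 / 5) * (1 / 3 : ℚ) ^ 7) ^ 4 := pow_le_pow_left₀ hh0 (high_le M) 4
  have hl : 1 / low N ≤ 1 / (low 7 - (1 / 2) * (1 / 3 : ℚ) ^ 7) := one_div_le_one_div_of_le hA0 (low_ge N)
  have hnum : 1 / (low 7 - (1 / 2) * (1 / 3 : ℚ) ^ 7) * (high 7 + (4 / 5) * (1 / 3 : ℚ) ^ 7) ^ 4 ≤ 54 / 5 := by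
    norm_num [low, high, Finset.prod_range_succ]
  have hS0 : (0 : ℚ) ≤ ∏ j : Fin N, ∑ k : Fin (n + 1), ((1 / 3 : ℚ) ^ ((j : ℕ) + 1)) ^ (k : ℕ) :=
    Finset.prod_nonneg fun j _ => Finset.sum_nonneg fun k _ => by positivity
  have hfin : (Nat.card (Data K N M n) : ℚ) ≤ (Fintype.card K : ℚ) ^ n * (54 / 5) :=
    h1.trans (mul_le_mul_of_nonneg_left ((mul_le_mul (hsum.trans hl) hp (by positivity) (by positivity)).trans
      hnum) (by positivity))
  have : ((5 * Nat.card (Data K N M n) : ℕ) : ℚ) ≤ ((54 * Fintype.card K ^ n : ℕ) : ℚ) := by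
    push_cast
    linarith
  exact_mod_cast this

end Cfsg.Agent.H66.SpTuple
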