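/-
Symplectic classes inject into tuples of palindromes with marks.
-/
import Cfsg.Agent.H66.SpDecompFacts
import Cfsg.Agent.H66.SpCharpoly
import Cfsg.Agent.H66.SpTupleBound

set_option autoImplicit false

open Polynomial Module UniqueFactorizationMonoid

namespace Cfsg.Agent.H66.SpData

universe u

variable {K : Type u} [Field K]

/-- Split a multiplicity with a sign into a half and two marks. -/
def enc (a : ℕ) (σ : Bool) : ℕ × Bool × Bool :=
  if a = 0 then (0, false, false) else if a % 2 = 1 then (a / 2, σ, !σ)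
    else if σ then (a / 2, false, false) else (a / 2 - 1, true, true)

theorem enc_spec (a : ℕ) (σ : Bool) :
    2 * (enc a σ).1 + ((enc a σ).2.1.toNat + (enc a σ).2.2.toNat) = a := by
  unfold enc
  cases σ <;> split_ifs <;> simp <;> omega

theorem enc_inj {a a' : ℕ} {σ σ' : Bool} (h : enc a σ = enc a' σ') : a = a' ∧ (a ≠ 0 → σ = σ') := by
  have h1 := enc_spec a σ
  have h2 := enc_spec a' σ'
  rw [h] at h1
  have ha : a = a' := h1.symm.trans h2
  subst ha
  refine ⟨rfl, fun ha => ?_⟩
  revert h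
  cases σ <;> cases σ' <;> by_cases h3 : a % 2 = 1 <;> simp [enc, ha, h3]

theorem enc_true_of_even {a : ℕ} (h : Even a) : enc a true = (a / 2, false, false) := by
  rw [Nat.even_iff] at h
  by_cases h1 : a = 0
  · simp [enc, h1]
  · simp [enc, h1, h]

variable {ι : Type u} [Fintype ι]

open Classical in
/-- The part of exponent `s` without the eigenvalues `1` and `-1`. -/
noncomputable def rest (p : ι → K[X]) (e : ι → ℕ) (s : ℕ) : K[X] :=
  ∏ i with e i = s ∧ (p i ≠ X - C 1 ∧ p i ≠ X - C (-1)), p i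

theorem X_sub_ne (h2 : (2 : K) ≠ 0) : (X - C (1 : K)) ≠ X - C (-1) := fun h => h2 (by
  have := congrArg (eval (1 : K)) h
  simp only [eval_sub, eval_X, eval_C] at this
  linear_combination -this)

variable {n : ℕ} {p : ι → K[X]} {e : ι → ℕ} {g : Matrix.symplecticGroup (Fin n) K}

theorem rest_eval (hf : IsDecomp (endo g) p e) {c : K} (hc : c = 1 ∨ c = -1) (s : ℕ) :
    (rest p e s).eval c ≠ 0 := by
  classical
  rw [rest, eval_prod]
  refine Finset.prod_ne_zero_iff.2 fun i hi h0 => ?_
  obtain ⟨-, -, h1, h2⟩ := Finset.mem_filter.1 hi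
  have hp : p i = X - C c := eq_of_monic_of_associated (hf.monic i) (monic_X_sub_C c)
    ((irreducible_X_sub_C c).associated_of_dvd (hf.irreducible i) (dvd_iff_isRoot.2 h0)).symm
  rcases hc with rfl | rfl
  · exact h1 hp
  · exact h2 hp

theorem rest_pal [Finite K] (h2 : (2 : K) ≠ 0) (hf : IsDecomp (endo g) p e) (s : ℕ) :
    SpPal.Pal (rest p e s) := by
  classical
  have hfix : ∀ c : K, c * c = 1 → ∀ P : K[X], P.Monic → P.coeff 0 ≠ 0 →
      (H67.dualPoly (RingHom.id K) P = X - C c ↔ P = X - C c) := fun c hc P hP h0 => by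
    constructor
    · intro h
      rw [← H67.dualPoly_dualPoly (σ := RingHom.id K) (fun _ => rfl) hP h0, h, SpPal.dualPoly_id_X_sub_C hc]
    · rintro rfl
      exact SpPal.dualPoly_id_X_sub_C hc
  refine SpPal.Pal.of_dual h2 (monic_prod_of_monic _ _ fun i _ => hf.monic i) ?_ ?_
    (rest_eval hf (Or.inl rfl) s) (rest_eval hf (Or.inr rfl) s)
  · rw [rest, coeff_zero_eq_eval_zero, eval_prod]
    exact Finset.prod_ne_zero_iff.2 fun i _ => by rw [← coeff_zero_eq_eval_zero]; exact const_ne_zero hf i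
  · exact dual_prod_filter hf (fun P => P ≠ X - C 1 ∧ P ≠ X - C (-1)) (fun P hP h0 =>
      and_congr (not_congr (hfix 1 (by ring) P hP h0)) (not_congr (hfix (-1) (by ring) P hP h0))) s

theorem prod_eq_split (h2 : (2 : K) ≠ 0) (p : ι → K[X]) (e : ι → ℕ) (s : ℕ) :
    (∏ i with e i = s, p i) =
      (X - C 1) ^ mult p e 1 s * ((X - C (-1)) ^ mult p e (-1) s * rest p e s) := by
  classical
  have hc : ∀ c : K, (∏ i with e i = s ∧ p i = X - C c, p i) = (X - C c) ^ mult p e c s := fun c => by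
    rw [Finset.prod_congr rfl (g := fun _ => X - C c) fun i hi => (Finset.mem_filter.1 hi).2.2,
      Finset.prod_const, mult, decompCount, Nat.card_eq_fintype_card, Fintype.card_subtype]
    congr 2
    exact Finset.filter_congr fun i _ => and_comm
  rw [← hc, ← hc, rest, ← Finset.prod_filter_mul_prod_filter_not _ (fun i => p i = X - C 1),
    Finset.filter_filter, Finset.filter_filter]
  congr 1
  rw [← Finset.prod_filter_mul_prod_filter_not (Finset.univ.filter fun i => e i = s ∧ ¬p i = X - C 1)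
    (fun i => p i = X - C (-1)), Finset.filter_filter, Finset.filter_filter]
  congr 1
  · refine Finset.prod_congr (Finset.filter_congr fun i _ => ?_) fun _ _ => rfl
    exact ⟨fun h => ⟨h.1.1, h.2⟩, fun h => ⟨⟨h.1, fun h1 => X_sub_ne h2 (h1.symm.trans h.2)⟩, h.2⟩⟩
  · exact Finset.prod_congr (Finset.filter_congr fun i _ => and_assoc) fun _ _ => rfl

theorem natDegree_prod_split (h2 : (2 : K) ≠ 0) (hf : IsDecomp (endo g) p e) (s : ℕ) :
    (∏ i with e i = s, p i).natDegree = mult p e 1 s + (mult p e (-1) s + (rest p e s).natDegree) := by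
  classical
  have hr : (rest p e s).Monic := monic_prod_of_monic _ _ fun i _ => hf.monic i
  rw [prod_eq_split h2, ((monic_X_sub_C _).pow _).natDegree_mul (((monic_X_sub_C _).pow _).mul hr),
    ((monic_X_sub_C _).pow _).natDegree_mul hr, natDegree_pow, natDegree_pow, natDegree_X_sub_C,
    natDegree_X_sub_C, mul_one, mul_one]

theorem degree_sum (hf : IsDecomp (endo g) p e) :
    ∑ i, e i * (p i).natDegree = 2 * n := by
  have h := congrArg Polynomial.natDegree hf.charpoly_eq
  rw [LinearMap.charpoly_natDegree, finrank_pi, Fintype.card_sum, Fintype.card_fin,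
    natDegree_prod_of_monic _ _ fun i _ => (hf.monic i).pow _] at h
  rw [two_mul, h]
  exact Finset.sum_congr rfl fun i _ => (natDegree_pow _ _).symm

theorem count_eq_decompCount (hf : IsDecomp (endo g) p e) [DecidableEq K] (Q : K[X]) (s : ℕ) :
    decompCount p e Q s = (normalizedFactors (∏ i with e i = s, p i)).count Q := by
  classical
  rw [Finset.prod_eq_multiset_prod, normalizedFactors_prod_eq _ (fun a ha => by
    obtain ⟨i, -, rfl⟩ := Multiset.mem_map.1 ha
    exact hf.irreducible i), Multiset.map_map, Multiset.count_map, decompCount,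
    Nat.card_eq_fintype_card, Fintype.card_subtype, ← Finset.filter_val, ← Finset.card_def, Finset.filter_filter]
  congr 1
  refine Finset.filter_congr fun i _ => ?_
  simp [(hf.monic i).normalize_eq_self, eq_comm, and_comm]

/-- The palindrome recorded for exponent `s`. -/
noncomputable def palPart (p : ι → K[X]) (e : ι → ℕ) (σ σ' : Bool) (s : ℕ) : K[X] :=
  ((X - C 1) ^ 2) ^ (enc (mult p e 1 s) σ).1 *
    (((X - C (-1)) ^ 2) ^ (enc (mult p e (-1) s) σ').1 * rest p e s)

theorem palPart_pal [Finite K] (h2 : (2 : K) ≠ 0) (hf : IsDecomp (endo g) p e) (σ σ' : Bool) (s : ℕ) :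
    SpPal.Pal (palPart p e σ σ' s) :=
  ((SpPal.Pal.sq_X_sub_C (by ring)).pow _).mul (((SpPal.Pal.sq_X_sub_C (by ring)).pow _).mul (rest_pal h2 hf s))

theorem palPart_natDegree (hf : IsDecomp (endo g) p e) (σ σ' : Bool) (s : ℕ) :
    (palPart p e σ σ' s).natDegree =
      2 * (enc (mult p e 1 s) σ).1 + (2 * (enc (mult p e (-1) s) σ').1 + (rest p e s).natDegree) := by
  classical
  have hr : (rest p e s).Monic := monic_prod_of_monic _ _ fun i _ => hf.monic i
  rw [palPart, (((monic_X_sub_C _).pow _).pow _).natDegree_mul ((((monic_X_sub_C _).pow _).pow _).mul hr),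
    (((monic_X_sub_C _).pow _).pow _).natDegree_mul hr]
  simp only [natDegree_pow, natDegree_X_sub_C]
  ring

theorem rootMultiplicity_mul_pow {c : K} (f : K[X]) (k : ℕ) (hf : f.eval c ≠ 0) :
    ((X - C c) ^ k * f).rootMultiplicity c = k := by
  rw [rootMultiplicity_mul (mul_ne_zero (pow_ne_zero _ (X_sub_C_ne_zero c)) (fun h => hf (by rw [h, eval_zero]))),
    rootMultiplicity_X_sub_C_pow, rootMultiplicity_eq_zero (fun h : IsRoot f c => hf h), add_zero]

theorem palPart_inj (h2 : (2 : K) ≠ 0) {ι' : Type u} [Fintype ι'] {p' : ι' → K[X]} {e' : ι' → ℕ}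
    {g' : Matrix.symplecticGroup (Fin n) K} (hf : IsDecomp (endo g) p e) (hf' : IsDecomp (endo g') p' e')
    {σ σ' τ τ' : Bool} {s : ℕ} (h : palPart p e σ σ' s = palPart p' e' τ τ' s) :
    (enc (mult p e 1 s) σ).1 = (enc (mult p' e' 1 s) τ).1 ∧
      (enc (mult p e (-1) s) σ').1 = (enc (mult p' e' (-1) s) τ').1 ∧ rest p e s = rest p' e' s := by
  simp only [palPart, ← pow_mul] at h
  have hne1 : ∀ (k : ℕ) (r : K[X]), r.eval 1 ≠ 0 → ((X - C (-1)) ^ k * r).eval 1 ≠ 0 := fun k r hr => by
    rw [eval_mul, eval_pow, eval_sub, eval_X, eval_C]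
    exact mul_ne_zero (pow_ne_zero _ (by rw [sub_neg_eq_add, one_add_one_eq_two]; exact h2)) hr
  have h1 := congrArg (rootMultiplicity (1 : K)) h
  rw [rootMultiplicity_mul_pow _ _ (hne1 _ _ (rest_eval hf (Or.inl rfl) s)),
    rootMultiplicity_mul_pow _ _ (hne1 _ _ (rest_eval hf' (Or.inl rfl) s))] at h1
  rw [← h1] at h
  have h3 := mul_left_cancel₀ (pow_ne_zero _ (X_sub_C_ne_zero _)) h
  have h4 := congrArg (rootMultiplicity (-1 : K)) h3
  rw [rootMultiplicity_mul_pow _ _ (rest_eval hf (Or.inr rfl) s),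
    rootMultiplicity_mul_pow _ _ (rest_eval hf' (Or.inr rfl) s)] at h4
  rw [← h4] at h3
  exact ⟨by omega, by omega, mul_left_cancel₀ (pow_ne_zero _ (X_sub_C_ne_zero _)) h3⟩

/-- The weights of the marks. -/
theorem marks_vec (a b c d : Bool) : SpTuple.marks ![a, b, c, d] = a.toNat + b.toNat + (c.toNat + d.toNat) := by
  cases a <;> cases b <;> cases c <;> cases d <;> decide

/-- The blocks at the eigenvalue `-1`. -/
theorem card_minus {V : Type*} [AddCommGroup V] [Module K V] [FiniteDimensional K V] (h2 : (2 : K) ≠ 0)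
    (T : Module.End K V) (hf : IsDecomp (endo g) p e)
    (hT : ∀ φ : K[X], finrank K (LinearMap.ker (aeval T φ)) = finrank K (LinearMap.ker (aeval (endo g) φ)))
    (s : ℕ) :
    (Finset.univ.filter fun a => (SpSplit.dOf (SpSplit.kd (SpSplit.fixEnd (-SpSplit.movEnd T)))).2 a = s).card =
      mult p e (-1) s :=
  card_blocks_eq _ (SpSplit.fixEnd_isNilpotent _) hf (-1)
    (fun k => (hker_minus_aux h2 T k).trans (hT _)) s

/-- Parity at the eigenvalue `-1`. -/
theorem even_minus {V : Type*} [AddCommGroup V] [Module K V] [FiniteDimensional K V] (h2 : (2 : K) ≠ 0)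
    {B : LinearMap.BilinForm K V} {T : Module.End K V} (h : SpSplit.IsSys B T) {s : ℕ} (hs : Odd s) :
    Even (Finset.univ.filter fun a =>
      (SpSplit.dOf (SpSplit.kd (SpSplit.fixEnd (-SpSplit.movEnd T)))).2 a = s).card :=
  even_blocks h2 h.mov.neg.fix (SpSplit.fixEnd_isNilpotent _) hs

/-- A block at the eigenvalue `-1` gives a positive multiplicity. -/
theorem mult_ne_zero_of_hasMinus {V : Type*} [AddCommGroup V] [Module K V] [FiniteDimensional K V]
    (h2 : (2 : K) ≠ 0) (T : Module.End K V) (hf : IsDecomp (endo g) p e)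
    (hT : ∀ φ : K[X], finrank K (LinearMap.ker (aeval T φ)) = finrank K (LinearMap.ker (aeval (endo g) φ)))
    {s : ℕ} (hex : SpSplit.hasMinus T s) : mult p e (-1) s ≠ 0 := by
  rw [← card_minus h2 T hf hT]
  obtain ⟨a, ha⟩ := hex
  exact (Finset.card_pos.2 ⟨a, Finset.mem_filter.2 ⟨Finset.mem_univ _, ha⟩⟩).ne'

/-- Classes of `Sp_2n(q)`, `q` odd, are at most as many as the tuples. -/
theorem card_classes_le [Fintype K] {p₀ : ℕ} [Fact p₀.Prime] [CharP K p₀] (hp : p₀ ≠ 2) (n : ℕ) :
    Nat.card (ConjClasses (Matrix.symplecticGroup (Fin (n + 1)) K)) ≤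
      Nat.card (SpTuple.Data K (2 * n + 1) (n + 1) (n + 1)) := by
  classical
  have hp1 : p₀.Prime := Fact.out
  have h2 : (2 : K) ≠ 0 := fun h0 => hp ((Nat.prime_dvd_prime_iff_eq hp1 Nat.prime_two).1
    ((CharP.cast_eq_zero_iff K p₀ 2).1 (by exact_mod_cast h0)))
  have hdata : ∀ g : Matrix.symplecticGroup (Fin (n + 1)) K,
      ∃ (ι : Type u) (_ : Fintype ι) (p : ι → K[X]) (e : ι → ℕ), IsDecomp (endo g) p e :=
    fun g => exists_isDecomp _
  choose ι hι p e hdec using hdata
  let sp : Matrix.symplecticGroup (Fin (n + 1)) K → ℕ → Bool := fun g s =>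
    if Odd s then true else decide (SpSplit.sgnPlus (H2.sympBilin (n + 1) K) (endo g) s)
  let sm : Matrix.symplecticGroup (Fin (n + 1)) K → ℕ → Bool := fun g s =>
    if Odd s then true else decide (SpSplit.sgnMinus (H2.sympBilin (n + 1) K) (endo g) s)
  let E1 : Matrix.symplecticGroup (Fin (n + 1)) K → ℕ → ℕ × Bool × Bool :=
    fun g s => enc (mult (p g) (e g) 1 s) (sp g s)
  let E2 : Matrix.symplecticGroup (Fin (n + 1)) K → ℕ → ℕ × Bool × Bool :=
    fun g s => enc (mult (p g) (e g) (-1) s) (sm g s)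
  let P : Matrix.symplecticGroup (Fin (n + 1)) K → ℕ → K[X] :=
    fun g s => palPart (p g) (e g) (sp g s) (sm g s) s
  -- parity at odd exponents
  have hodd : ∀ g s, Odd s → (E1 g s).2 = (false, false) ∧ (E2 g s).2 = (false, false) := by
    intro g s hs
    have h1 : Even (mult (p g) (e g) 1 s) := by
      rw [← card_blocks_eq _ (SpSplit.fixEnd_isNilpotent (endo g)) (hdec g) 1 (hker_plus g) s]
      exact even_blocks h2 (isSys_endo g).fix (SpSplit.fixEnd_isNilpotent _) hs
    have h3 : Even (mult (p g) (e g) (-1) s) := by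
      rw [← card_minus h2 (endo g) (hdec g) (fun _ => rfl) s]
      exact even_minus h2 (isSys_endo g) hs
    simp only [E1, E2, sp, sm, if_pos hs, enc_true_of_even h1, enc_true_of_even h3, and_self]
  let β : Matrix.symplecticGroup (Fin (n + 1)) K → ℕ → ℕ := fun g s =>
    (E1 g s).2.1.toNat + (E1 g s).2.2.toNat + ((E2 g s).2.1.toNat + (E2 g s).2.2.toNat)
  have hdeg : ∀ g s, (∏ i with e g i = s, p g i).natDegree = (P g s).natDegree + β g s := by
    intro g s
    rw [natDegree_prod_split h2 (hdec g), palPart_natDegree (hdec g)]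
    have a1 := enc_spec (mult (p g) (e g) 1 s) (sp g s)
    have a2 := enc_spec (mult (p g) (e g) (-1) s) (sm g s)
    simp only [β, E1, E2]
    omega
  have htot : ∀ g, ∑ j : Fin (2 * n + 1 + 1), ((j : ℕ) + 1) * ((P g (j + 1)).natDegree + β g (j + 1)) =
      2 * (n + 1) := by
    intro g
    rw [← degree_sum (hdec g)]
    have hle : ∀ i, e g i ≤ 2 * n + 1 + 1 := fun i => by
      have h1 : e g i * (p g i).natDegree ≤ 2 * (n + 1) := by
        rw [← degree_sum (hdec g)]
        exact Finset.single_le_sum (f := fun i => e g i * (p g i).natDegree) (fun i _ => Nat.zero_le _) (Finset.mem_univ i)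
      have h3 := Nat.le_mul_of_pos_right (e g i) ((hdec g).irreducible i).natDegree_pos
      omega
    have hmaps : ∀ i ∈ (Finset.univ : Finset (ι g)),
        (⟨e g i - 1, by have := hle i; have := (hdec g).pos i; omega⟩ : Fin (2 * n + 1 + 1)) ∈
          (Finset.univ : Finset (Fin (2 * n + 1 + 1))) := fun i _ => Finset.mem_univ _
    rw [← Finset.sum_fiberwise_of_maps_to hmaps fun i => e g i * (p g i).natDegree]
    refine Finset.sum_congr rfl fun j _ => ?_
    rw [← hdeg, natDegree_prod_of_monic _ _ fun i _ => (hdec g).monic i, Finset.mul_sum]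
    refine Finset.sum_congr (Finset.filter_congr fun i _ => ?_) fun i hi => ?_
    · have := (hdec g).pos i
      rw [Fin.ext_iff]
      show _ ↔ e g i - 1 = (j : ℕ)
      omega
    · have := (hdec g).pos i
      have h3 : e g i - 1 = (j : ℕ) := congrArg Fin.val (Finset.mem_filter.1 hi).2
      rw [show e g i = (j : ℕ) + 1 by omega]
  have heven : ∀ g s, ∃ k, (P g s).natDegree = 2 * k := fun g s => by
    obtain ⟨k, hk⟩ := (palPart_pal h2 (hdec g) (sp g s) (sm g s) s).2.1
    exact ⟨k, by show (palPart (p g) (e g) (sp g s) (sm g s) s).natDegree = 2 * k; omega⟩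
  choose k hk using heven
  let mk4 : Matrix.symplecticGroup (Fin (n + 1)) K → ℕ → Fin 4 → Bool :=
    fun g s => ![(E1 g s).2.1, (E1 g s).2.2, (E2 g s).2.1, (E2 g s).2.2]
  have hmarks : ∀ g s, SpTuple.marks (mk4 g s) = β g s := fun g s => marks_vec _ _ _ _
  have hsum : ∀ g, ∑ j : Fin (2 * n + 1 + 1), ((j : ℕ) + 1) * k g ((j : ℕ) + 1) +
      ∑ i : Fin (n + 1), ((i : ℕ) + 1) * β g (2 * ((i : ℕ) + 1)) = n + 1 := by
    intro g
    have h := htot g
    simp only [mul_add, Finset.sum_add_distrib, hk] at h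
    have hβ : ∑ i : Fin (n + 1), 2 * (((i : ℕ) + 1) * β g (2 * ((i : ℕ) + 1))) =
        ∑ j : Fin (2 * n + 1 + 1), ((j : ℕ) + 1) * β g ((j : ℕ) + 1) := by
      refine Fintype.sum_of_injective (fun i : Fin (n + 1) => (⟨2 * (i : ℕ) + 1, by omega⟩ : Fin (2 * n + 1 + 1)))
        (fun a b hab => by
          have := congrArg Fin.val hab
          simp only at this
          exact Fin.ext (by omega)) _ _ (fun j hj => ?_) (fun i => ?_)
      · have hjo : Odd ((j : ℕ) + 1) := by
          by_contra hne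
          rw [Nat.not_odd_iff_even] at hne
          obtain ⟨t, ht⟩ := hne
          exact hj ⟨⟨t - 1, by omega⟩, Fin.ext (by simp only; omega)⟩
        have := hodd g _ hjo
        simp only [β, this.1, this.2, Bool.toNat_false, add_zero, mul_zero]
      · simp only
        rw [show 2 * (i : ℕ) + 1 + 1 = 2 * ((i : ℕ) + 1) by ring]
        ring
    rw [← Finset.mul_sum] at hβ
    have h4 : ∑ j : Fin (2 * n + 1 + 1), ((j : ℕ) + 1) * (2 * k g ((j : ℕ) + 1)) =
        2 * ∑ j : Fin (2 * n + 1 + 1), ((j : ℕ) + 1) * k g ((j : ℕ) + 1) := by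
      rw [Finset.mul_sum]
      exact Finset.sum_congr rfl fun j _ => by ring
    omega
  have hkle : ∀ g (j : Fin (2 * n + 1 + 1)), k g ((j : ℕ) + 1) < n + 1 + 1 := fun g j => by
    have h := hsum g
    have h1 : ((j : ℕ) + 1) * k g ((j : ℕ) + 1) ≤ n + 1 := le_trans
      (Finset.single_le_sum (f := fun j : Fin (2 * n + 1 + 1) => ((j : ℕ) + 1) * k g ((j : ℕ) + 1))
        (fun i _ => Nat.zero_le _) (Finset.mem_univ j)) (by omega)
    have h2 := Nat.le_mul_of_pos_left (k g ((j : ℕ) + 1)) (show 0 < (j : ℕ) + 1 by omega)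
    omega
  let D : Matrix.symplecticGroup (Fin (n + 1)) K → SpTuple.Data K (2 * n + 1) (n + 1) (n + 1) := fun g =>
    ⟨⟨(fun j => ⟨k g ((j : ℕ) + 1), hkle g j⟩, fun i => mk4 g (2 * ((i : ℕ) + 1))), by
      simp only [hmarks]
      exact hsum g⟩, fun j t => (P g ((j : ℕ) + 1)).coeff ((t : ℕ) + 1)⟩
  have hrec : ∀ g (j : Fin (2 * n + 1 + 1)), P g ((j : ℕ) + 1) =
      SpChar.palPoly (((D g).1.1.1 j : ℕ)) ((D g).2 j) := by
    intro g j
    have hP := palPart_pal h2 (hdec g) (sp g ((j : ℕ) + 1)) (sm g ((j : ℕ) + 1)) ((j : ℕ) + 1)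
    set m := k g ((j : ℕ) + 1) with hm
    have hd : (P g ((j : ℕ) + 1)).natDegree = 2 * m := hk g _
    have htop : (P g ((j : ℕ) + 1)).coeff (2 * m) = 1 := by rw [← hd]; exact hP.1.coeff_natDegree
    show P g ((j : ℕ) + 1) = SpChar.palPoly m fun t : Fin m => (P g ((j : ℕ) + 1)).coeff ((t : ℕ) + 1)
    refine Polynomial.ext fun i => ?_
    rcases Nat.lt_or_ge (2 * m) i with hi | hi
    · rw [coeff_eq_zero_of_natDegree_lt (by omega),
        coeff_eq_zero_of_natDegree_lt (by rw [(SpChar.palPoly_spec m _).2.1]; omega)]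
    · rw [SpChar.palPoly_coeff _ _ _ hi]
      by_cases h0 : i = 0 ∨ i = 2 * m
      · rw [if_pos h0]
        rcases h0 with rfl | rfl
        · have := hP.coeff_symm hd 0 (Nat.zero_le _)
          rw [Nat.sub_zero, htop] at this
          exact this.symm
        · exact htop
      · rw [if_neg h0, dif_pos (by omega)]
        show _ = (P g ((j : ℕ) + 1)).coeff (min i (2 * m - i) - 1 + 1)
        rcases Nat.le_total i (2 * m - i) with hle | hle
        · rw [min_eq_left hle, show i - 1 + 1 = i by omega]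
        · rw [min_eq_right hle, show 2 * m - i - 1 + 1 = 2 * m - i by omega]
          exact (hP.coeff_symm hd i hi).symm
  refine Nat.card_le_card_of_injective (fun c => D c.out) fun c c' h => ?_
  rw [← Quotient.out_eq c, ← Quotient.out_eq c']
  refine ConjClasses.mk_eq_mk_iff_isConj.2 ?_
  set g := c.out
  set g' := c'.out
  have hP : ∀ j : Fin (2 * n + 1 + 1), P g ((j : ℕ) + 1) = P g' ((j : ℕ) + 1) := fun j => by
    rw [hrec g j, hrec g' j, show D g = D g' from h]
  have hb : ∀ i : Fin (n + 1), mk4 g (2 * ((i : ℕ) + 1)) = mk4 g' (2 * ((i : ℕ) + 1)) := fun i => by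
    show (D g).1.1.2 i = (D g').1.1.2 i
    rw [show D g = D g' from h]
  have hE : ∀ s, 1 ≤ s → s ≤ 2 * n + 1 + 1 →
      E1 g s = E1 g' s ∧ E2 g s = E2 g' s ∧ rest (p g) (e g) s = rest (p g') (e g') s := by
    intro s hs hs'
    obtain ⟨h1, h3, h4⟩ := palPart_inj h2 (hdec g) (hdec g') (show palPart _ _ (sp g s) (sm g s) s =
      palPart _ _ (sp g' s) (sm g' s) s by
      have := hP ⟨s - 1, by omega⟩
      simpa only [P, Nat.sub_add_cancel hs] using this)
    rcases Nat.even_or_odd s with he | ho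
    · obtain ⟨t, ht⟩ := he
      have hh := hb ⟨t - 1, by omega⟩
      simp only [show 2 * (t - 1 + 1) = s by omega, mk4] at hh
      exact ⟨Prod.ext h1 (Prod.ext (congrFun hh 0) (congrFun hh 1)),
        Prod.ext h3 (Prod.ext (congrFun hh 2) (congrFun hh 3)), h4⟩
    · exact ⟨Prod.ext h1 ((hodd g s ho).1.trans (hodd g' s ho).1.symm),
        Prod.ext h3 ((hodd g s ho).2.trans (hodd g' s ho).2.symm), h4⟩
  have hlevel : ∀ g, ∀ i, e g i ≤ 2 * n + 1 + 1 := fun g i => by
    have h1 : e g i * (p g i).natDegree ≤ 2 * (n + 1) := by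
      rw [← degree_sum (hdec g)]
      exact Finset.single_le_sum (f := fun i => e g i * (p g i).natDegree) (fun i _ => Nat.zero_le _) (Finset.mem_univ i)
    have h3 := Nat.le_mul_of_pos_right (e g i) ((hdec g).irreducible i).natDegree_pos
    omega
  have hcnt : ∀ Q s, decompCount (p g) (e g) Q s = decompCount (p g') (e g') Q s := by
    intro Q s
    by_cases hs : 1 ≤ s ∧ s ≤ 2 * n + 1 + 1
    · obtain ⟨h1, h3, h4⟩ := hE s hs.1 hs.2
      rw [count_eq_decompCount (hdec g), count_eq_decompCount (hdec g'), prod_eq_split h2, prod_eq_split h2,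
        (enc_inj h1).1, (enc_inj h3).1, h4]
    · have hemp : ∀ g, decompCount (p g) (e g) Q s = 0 := fun g => by
        have : IsEmpty {i // p g i = Q ∧ e g i = s} := ⟨fun i => by
          have := hlevel g i.1; have := (hdec g).pos i.1; have := i.2.2; omega⟩
        simp [decompCount]
      rw [hemp, hemp]
  obtain ⟨L, hL⟩ := exists_equiv_of_count_eq (hdec g) (hdec g') hcnt
  have hpos : ∀ (c : K) s, mult (p g) (e g) c s ≠ 0 → 1 ≤ s ∧ s ≤ 2 * n + 1 + 1 := by
    intro c s hs
    rw [mult, decompCount] at hs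
    obtain ⟨⟨i, -, hi⟩⟩ : Nonempty {i // p g i = X - C c ∧ e g i = s} := (Nat.card_ne_zero.1 hs).1
    have := hlevel g i; have := (hdec g).pos i; omega
  refine isConj_of_isIso (SpSplit.isIso_of_similar hp (isSys_endo g) (isSys_endo g') L hL
    (fun s he hex => ?_) (fun s he hex => ?_))
  · have hm : mult (p g) (e g) 1 s ≠ 0 := by
      rw [← card_blocks_eq _ (SpSplit.fixEnd_isNilpotent (endo g)) (hdec g) 1 (hker_plus g) s]
      obtain ⟨a, ha⟩ := hex
      exact (Finset.card_pos.2 ⟨a, Finset.mem_filter.2 ⟨Finset.mem_univ _, ha⟩⟩).ne'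
    obtain ⟨h1, -, -⟩ := hE s (hpos _ _ hm).1 (hpos _ _ hm).2
    have := (enc_inj h1).2 hm
    simp only [sp, if_neg (Nat.not_odd_iff_even.2 he), decide_eq_decide] at this
    exact this
  · have hm : mult (p g) (e g) (-1) s ≠ 0 :=
      mult_ne_zero_of_hasMinus h2 (endo g) (hdec g) (fun _ => rfl) hex
    obtain ⟨-, h3, -⟩ := hE s (hpos _ _ hm).1 (hpos _ _ hm).2
    have := (enc_inj h3).2 hm
    simp only [sm, if_neg (Nat.not_odd_iff_even.2 he), decide_eq_decide] at this
    exact this

end Cfsg.Agent.H66.SpData
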