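/-
Elementary divisors of isometries of symmetric spaces: duality, parity, and the link with the signs.
-/
import Cfsg.Agent.H66.OrthSplit
import Cfsg.Agent.H66.SpClassData

set_option autoImplicit false

open Polynomial Module UniqueFactorizationMonoid
open LinearMap (BilinForm)
open Cfsg.Agent.H66.SpData (mult rest enc enc_spec enc_inj palPart X_sub_ne prod_eq_split hker_minus_aux
  rootMultiplicity_mul_pow dualPoly_multiset_prod)

namespace Cfsg.Agent.H66.OrthData

universe u v w

variable {K : Type u} [Field K]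
variable {V : Type v} [AddCommGroup V] [Module K V] [FiniteDimensional K V]
variable {B : BilinForm K V} {T : Module.End K V}

omit [FiniteDimensional K V] in
theorem aeval_dualMap (T : Module.End K V) (φ : K[X]) (f : Module.Dual K V) (x : V) :
    aeval T.dualMap φ f x = f (aeval T φ x) := by
  induction φ using Polynomial.induction_on generalizing x with
  | C a => simp [Module.algebraMap_end_apply]
  | add p q hp hq => simp [hp, hq]
  | monomial k a ih =>
    rw [pow_succ', mul_left_comm, map_mul (aeval T.dualMap) X, map_mul (aeval T) X, Module.End.mul_apply,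
      aeval_X, aeval_X, LinearMap.dualMap_apply, ih]
    have h1 := LinearMap.congr_fun ((Commute.all (C a * X ^ k) (X : K[X])).map (aeval T)).eq x
    rw [Module.End.mul_apply, Module.End.mul_apply, aeval_X] at h1
    rw [h1]
    rfl

/-- An isometry is similar to its inverse. -/
theorem exists_similar_inverse (h : OrthSplit.IsOSys B T) :
    ∃ S : Module.End K V, T * S = 1 ∧ S * T = 1 ∧ ∃ L : V ≃ₗ[K] V, ∀ v, L (T v) = S (L v) := by
  let A : V ≃ₗ[K] V := LinearEquiv.ofInjectiveEndo T h.injective
  have hA : ∀ x, A x = T x := fun x => rfl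
  refine ⟨A.symm.toLinearMap, LinearMap.ext fun x => ?_, LinearMap.ext fun x => ?_, ?_⟩
  · rw [Module.End.mul_apply, Module.End.one_apply, LinearEquiv.coe_coe, ← hA, A.apply_symm_apply]
  · rw [Module.End.mul_apply, Module.End.one_apply, LinearEquiv.coe_coe, ← hA, A.symm_apply_apply]
  refine exists_equiv_of_finrank_ker_eq T A.symm.toLinearMap fun P k _ _ => ?_
  have hint : ∀ x, B.toDual h.1 (A.symm.toLinearMap x) = T.dualMap (B.toDual h.1 x) := fun x => by
    refine LinearMap.ext fun y => ?_
    rw [LinearMap.dualMap_apply, LinearMap.BilinForm.toDual_def, LinearMap.BilinForm.toDual_def,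
      LinearEquiv.coe_coe, ← h.2.2 (A.symm x) y, ← hA (A.symm x), A.apply_symm_apply]
  rw [finrank_ker_aeval_eq_of_intertwine hint]
  generalize P ^ k = φ
  have hd : aeval T.dualMap φ = (aeval T φ).dualMap :=
    LinearMap.ext fun f => LinearMap.ext fun x => by rw [aeval_dualMap, LinearMap.dualMap_apply]
  rw [hd]
  have h1 := LinearMap.finrank_range_add_finrank_ker (aeval T φ).dualMap
  have h2 := LinearMap.finrank_range_add_finrank_ker (aeval T φ)
  rw [LinearMap.finrank_range_dualMap_eq_finrank_range, Subspace.dual_finrank_eq] at h1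
  omega

variable {ι : Type u} [Fintype ι] {p : ι → K[X]} {e : ι → ℕ}

omit [FiniteDimensional K V] in
theorem const_ne_zero_aux (hT : Function.Injective T) [FiniteDimensional K V] (hf : IsDecomp T p e) (i : ι) : (p i).coeff 0 ≠ 0 := by
  classical
  intro h0
  have hX : p i = X := (eq_of_monic_of_associated (monic_X) (hf.monic i)
    (irreducible_X.associated_of_dvd (hf.irreducible i) (X_dvd_iff.2 h0))).symm
  have h1 := hf.finrank_ker_pow monic_X irreducible_X 1
  rw [natDegree_X, one_mul, pow_one, aeval_X, LinearMap.ker_eq_bot.2 hT, finrank_bot,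
    eq_comm, Finset.sum_eq_zero_iff] at h1
  have := h1 i (by simp [hX])
  have := hf.pos i
  omega

/-- Exchanging a monic irreducible with its dual does not change the multiplicities. -/
theorem decompCount_dual [Finite K] (hB : OrthSplit.IsOSys B T) (hf : IsDecomp T p e) (P : K[X]) (hP : P.Monic)
    (hPi : Irreducible P) (h0 : P.coeff 0 ≠ 0) (s : ℕ) :
    decompCount p e (H67.dualPoly (RingHom.id K) P) s = decompCount p e P s := by
  classical
  obtain ⟨S, hTS, hST, L, hL⟩ := exists_similar_inverse hB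
  have hker : ∀ k : ℕ, finrank K (LinearMap.ker (aeval T (H67.dualPoly (RingHom.id K) P ^ k))) =
      finrank K (LinearMap.ker (aeval T (P ^ k))) := fun k => by
    rw [← H67.dualPoly_pow]
    exact SpPal.finrank_ker_dual hTS hST L hL _
      (by rw [coeff_zero_eq_eval_zero, eval_pow, ← coeff_zero_eq_eval_zero]; exact pow_ne_zero _ h0)
  cases s with
  | zero =>
    have h1 : ∀ Q : K[X], IsEmpty {i // p i = Q ∧ e i = 0} :=
      fun Q => ⟨fun i => by have := hf.pos i.1; omega⟩
    simp [decompCount]
  | succ s =>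
    have h1 := hf.decompCount_formula hP hPi s
    have h2 := hf.decompCount_formula (H67.dualPoly_monic (σ := RingHom.id K) h0)
      (H67.dualPoly_irreducible (fun _ => rfl) hP h0 hPi) s
    rw [hker, hker, hker, H67.dualPoly_natDegree h0] at h2
    exact Nat.eq_of_mul_eq_mul_left hPi.natDegree_pos (by omega)

/-- A dual-invariant part of the product of the elementary divisors of one exponent is self-dual. -/
theorem dual_prod_filter [Finite K] (hB : OrthSplit.IsOSys B T) (hf : IsDecomp T p e) (Q : K[X] → Prop) [DecidablePred Q]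
    (hQ : ∀ P : K[X], P.Monic → P.coeff 0 ≠ 0 → (Q (H67.dualPoly (RingHom.id K) P) ↔ Q P)) (s : ℕ) :
    H67.dualPoly (RingHom.id K) (∏ i with e i = s ∧ Q (p i), p i) = ∏ i with e i = s ∧ Q (p i), p i := by
  classical
  rw [Finset.prod_eq_multiset_prod, dualPoly_multiset_prod]
  congr 1
  rw [Multiset.map_map]
  refine Multiset.ext.2 fun P => ?_
  rw [Multiset.count_map, Multiset.count_map, ← Finset.filter_val, ← Finset.filter_val,
    ← Finset.card_def, ← Finset.card_def, Finset.filter_filter, Finset.filter_filter]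
  by_cases hP : P.Monic ∧ Irreducible P ∧ P.coeff 0 ≠ 0
  · obtain ⟨hm, hi, h0⟩ := hP
    have hdd := H67.dualPoly_dualPoly (σ := RingHom.id K) (fun _ => rfl) hm h0
    have h := decompCount_dual hB hf P hm hi h0 s
    rw [decompCount, decompCount, Nat.card_eq_fintype_card, Nat.card_eq_fintype_card,
      Fintype.card_subtype, Fintype.card_subtype] at h
    by_cases hQP : Q P
    · refine Eq.trans (Eq.trans ?_ h) ?_
      · congr 1
        refine Finset.filter_congr fun i _ => ⟨fun ⟨⟨h1, _⟩, h3⟩ => ⟨?_, h1⟩, fun ⟨h1, h3⟩ => ⟨⟨h3, ?_⟩, ?_⟩⟩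
        · rw [h3, Function.comp_apply, H67.dualPoly_dualPoly (fun _ => rfl) (hf.monic i) (const_ne_zero_aux hB.injective hf i)]
        · rw [h1]; exact (hQ P hm h0).2 hQP
        · rw [Function.comp_apply, h1, hdd]
      · congr 1
        refine Finset.filter_congr fun i _ => ⟨fun ⟨h1, h3⟩ => ⟨⟨h3, h1 ▸ hQP⟩, h1.symm⟩,
          fun ⟨⟨h1, _⟩, h3⟩ => ⟨h3.symm, h1⟩⟩
    · rw [Finset.card_eq_zero.2, Finset.card_eq_zero.2]
      · exact Finset.filter_eq_empty_iff.2 fun i _ h => hQP (by rw [h.2]; exact h.1.2)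
      · refine Finset.filter_eq_empty_iff.2 fun i _ h => hQP ?_
        rw [h.2, Function.comp_apply]
        exact (hQ (p i) (hf.monic i) (const_ne_zero_aux hB.injective hf i)).2 h.1.2
  · rw [Finset.card_eq_zero.2, Finset.card_eq_zero.2]
    · exact Finset.filter_eq_empty_iff.2 fun i _ h =>
        hP (by rw [h.2]; exact ⟨hf.monic i, hf.irreducible i, const_ne_zero_aux hB.injective hf i⟩)
    · refine Finset.filter_eq_empty_iff.2 fun i _ h => hP ?_
      rw [h.2, Function.comp_apply]
      refine ⟨H67.dualPoly_monic (const_ne_zero_aux hB.injective hf i),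
        H67.dualPoly_irreducible (fun _ => rfl) (hf.monic i) (const_ne_zero_aux hB.injective hf i) (hf.irreducible i), ?_⟩
      rw [H67.dualPoly_coeff_zero (hf.monic i)]
      exact inv_ne_zero (const_ne_zero_aux hB.injective hf i)

/-- The block counts of a unipotent endomorphism read off a decomposition. -/
theorem card_blocks_eq {W : Type w} [AddCommGroup W] [Module K W] [FiniteDimensional K W]
    (U : Module.End K W) (hU : IsNilpotent (U - 1)) (hf : IsDecomp T p e) (c : K)
    (hker : ∀ k : ℕ, finrank K (LinearMap.ker ((U - 1) ^ k)) =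
      finrank K (LinearMap.ker (aeval T ((X - C c) ^ k)))) (s : ℕ) :
    (Finset.univ.filter fun a => (SpSplit.dOf (SpSplit.kd U)).2 a = s).card = mult p e c s := by
  classical
  obtain ⟨hd, hdk⟩ := SpSplit.dOf_spec U hU
  rw [card_filter_eq_of_typeKer (d := (SpSplit.dOf (SpSplit.kd U)).2) (e := fun i : {i // p i = X - C c} => e i.1)
    hd (fun i => hf.pos i.1) (fun k => ?_) s]
  · rw [mult, decompCount, Nat.card_eq_fintype_card, ← Fintype.card_subtype]
    exact Fintype.card_congr (Equiv.subtypeSubtypeEquivSubtypeInter (fun i => p i = X - C c) (fun i => e i = s))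
  · rw [congrFun hdk k, SpSplit.kd, hker, hf.finrank_ker_pow (monic_X_sub_C c) (irreducible_X_sub_C c),
      natDegree_X_sub_C, one_mul, typeKer]
    exact Finset.sum_subtype _ (fun x => by simp) fun i => min k (e i)

theorem hker_plus (T : Module.End K V) (k : ℕ) :
    finrank K (LinearMap.ker ((SpSplit.fixEnd T - 1) ^ k)) =
      finrank K (LinearMap.ker (aeval T ((X - C (1 : K)) ^ k))) := by
  rw [SpSplit.finrank_ker_fixEnd, SpSplit.aeval_sub_one_pow]

theorem rest_eval (hf : IsDecomp T p e) {c : K} (hc : c = 1 ∨ c = -1) (s : ℕ) :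
    (rest p e s).eval c ≠ 0 := by
  classical
  rw [rest, eval_prod]
  refine Finset.prod_ne_zero_iff.2 fun i hi h0 => ?_
  obtain ⟨-, -, h1, h2⟩ := Finset.mem_filter.1 hi
  have hp : p i = X - C c := eq_of_monic_of_associated (hf.monic i) (monic_X_sub_C c)
    ((irreducible_X_sub_C c).associated_of_dvd (hf.irreducible i) (dvd_iff_isRoot.2 h0)).symm
  rcases hc with rfl | rfl
  · exact h1 hp
  · exact h2 hp

theorem rest_pal [Finite K] (h2 : (2 : K) ≠ 0) (hB : OrthSplit.IsOSys B T) (hf : IsDecomp T p e) (s : ℕ) :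
    SpPal.Pal (rest p e s) := by
  classical
  have hfix : ∀ c : K, c * c = 1 → ∀ P : K[X], P.Monic → P.coeff 0 ≠ 0 →
      (H67.dualPoly (RingHom.id K) P = X - C c ↔ P = X - C c) := fun c hc P hP h0 => by
    constructor
    · intro h
      rw [← H67.dualPoly_dualPoly (σ := RingHom.id K) (fun _ => rfl) hP h0, h, SpPal.dualPoly_id_X_sub_C hc]
    · rintro rfl
      exact SpPal.dualPoly_id_X_sub_C hc
  refine SpPal.Pal.of_dual h2 (monic_prod_of_monic _ _ fun i _ => hf.monic i) ?_ ?_
    (rest_eval hf (Or.inl rfl) s) (rest_eval hf (Or.inr rfl) s)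
  · rw [rest, coeff_zero_eq_eval_zero, eval_prod]
    exact Finset.prod_ne_zero_iff.2 fun i _ => by rw [← coeff_zero_eq_eval_zero]; exact const_ne_zero_aux hB.injective hf i
  · exact dual_prod_filter hB hf (fun P => P ≠ X - C 1 ∧ P ≠ X - C (-1)) (fun P hP h0 =>
      and_congr (not_congr (hfix 1 (by ring) P hP h0)) (not_congr (hfix (-1) (by ring) P hP h0))) s

theorem natDegree_prod_split (h2 : (2 : K) ≠ 0) (hf : IsDecomp T p e) (s : ℕ) :
    (∏ i with e i = s, p i).natDegree = mult p e 1 s + (mult p e (-1) s + (rest p e s).natDegree) := by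
  classical
  have hr : (rest p e s).Monic := monic_prod_of_monic _ _ fun i _ => hf.monic i
  rw [prod_eq_split h2, ((monic_X_sub_C _).pow _).natDegree_mul (((monic_X_sub_C _).pow _).mul hr),
    ((monic_X_sub_C _).pow _).natDegree_mul hr, natDegree_pow, natDegree_pow, natDegree_X_sub_C,
    natDegree_X_sub_C, mul_one, mul_one]

theorem degree_sum (hf : IsDecomp T p e) :
    ∑ i, e i * (p i).natDegree = finrank K V := by
  have h := congrArg Polynomial.natDegree hf.charpoly_eq
  rw [LinearMap.charpoly_natDegree,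
    natDegree_prod_of_monic _ _ fun i _ => (hf.monic i).pow _] at h
  rw [h]
  exact Finset.sum_congr rfl fun i _ => (natDegree_pow _ _).symm

theorem count_eq_decompCount (hf : IsDecomp T p e) [DecidableEq K] (Q : K[X]) (s : ℕ) :
    decompCount p e Q s = (normalizedFactors (∏ i with e i = s, p i)).count Q := by
  classical
  rw [Finset.prod_eq_multiset_prod, normalizedFactors_prod_eq _ (fun a ha => by
    obtain ⟨i, -, rfl⟩ := Multiset.mem_map.1 ha
    exact hf.irreducible i), Multiset.map_map, Multiset.count_map, decompCount,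
    Nat.card_eq_fintype_card, Fintype.card_subtype, ← Finset.filter_val, ← Finset.card_def, Finset.filter_filter]
  congr 1
  refine Finset.filter_congr fun i _ => ?_
  simp [(hf.monic i).normalize_eq_self, eq_comm, and_comm]

theorem palPart_pal [Finite K] (h2 : (2 : K) ≠ 0) (hB : OrthSplit.IsOSys B T) (hf : IsDecomp T p e) (σ σ' : Bool) (s : ℕ) :
    SpPal.Pal (palPart p e σ σ' s) :=
  ((SpPal.Pal.sq_X_sub_C (by ring)).pow _).mul (((SpPal.Pal.sq_X_sub_C (by ring)).pow _).mul (rest_pal h2 hB hf s))

theorem palPart_natDegree (hf : IsDecomp T p e) (σ σ' : Bool) (s : ℕ) :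
    (palPart p e σ σ' s).natDegree =
      2 * (enc (mult p e 1 s) σ).1 + (2 * (enc (mult p e (-1) s) σ').1 + (rest p e s).natDegree) := by
  classical
  have hr : (rest p e s).Monic := monic_prod_of_monic _ _ fun i _ => hf.monic i
  rw [palPart, (((monic_X_sub_C _).pow _).pow _).natDegree_mul ((((monic_X_sub_C _).pow _).pow _).mul hr),
    (((monic_X_sub_C _).pow _).pow _).natDegree_mul hr]
  simp only [natDegree_pow, natDegree_X_sub_C]
  ring

theorem palPart_inj (h2 : (2 : K) ≠ 0) {ι' : Type u} [Fintype ι'] {p' : ι' → K[X]} {e' : ι' → ℕ}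
    {T' : Module.End K V} (hf : IsDecomp T p e) (hf' : IsDecomp T' p' e')
    {σ σ' τ τ' : Bool} {s : ℕ} (h : palPart p e σ σ' s = palPart p' e' τ τ' s) :
    (enc (mult p e 1 s) σ).1 = (enc (mult p' e' 1 s) τ).1 ∧
      (enc (mult p e (-1) s) σ').1 = (enc (mult p' e' (-1) s) τ').1 ∧ rest p e s = rest p' e' s := by
  simp only [palPart, ← pow_mul] at h
  have hne1 : ∀ (k : ℕ) (r : K[X]), r.eval 1 ≠ 0 → ((X - C (-1)) ^ k * r).eval 1 ≠ 0 := fun k r hr => by
    rw [eval_mul, eval_pow, eval_sub, eval_X, eval_C]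
    exact mul_ne_zero (pow_ne_zero _ (by rw [sub_neg_eq_add, one_add_one_eq_two]; exact h2)) hr
  have h1 := congrArg (rootMultiplicity (1 : K)) h
  rw [rootMultiplicity_mul_pow _ _ (hne1 _ _ (rest_eval hf (Or.inl rfl) s)),
    rootMultiplicity_mul_pow _ _ (hne1 _ _ (rest_eval hf' (Or.inl rfl) s))] at h1
  rw [← h1] at h
  have h3 := mul_left_cancel₀ (pow_ne_zero _ (X_sub_C_ne_zero _)) h
  have h4 := congrArg (rootMultiplicity (-1 : K)) h3
  rw [rootMultiplicity_mul_pow _ _ (rest_eval hf (Or.inr rfl) s),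
    rootMultiplicity_mul_pow _ _ (rest_eval hf' (Or.inr rfl) s)] at h4
  rw [← h4] at h3
  exact ⟨by omega, by omega, mul_left_cancel₀ (pow_ne_zero _ (X_sub_C_ne_zero _)) h3⟩

/-- An even block size occurs an even number of times in a unipotent orthogonal isometry. -/
theorem even_blocks (h2 : (2 : K) ≠ 0) (h : OrthSplit.IsOSys B T) (hT : IsNilpotent (T - 1))
    {s : ℕ} (hs : Even s) :
    Even (Finset.univ.filter fun a => (SpSplit.dOf (SpSplit.kd T)).2 a = s).card := by
  obtain ⟨hd, hdk⟩ := SpSplit.dOf_spec T hT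
  rcases Nat.eq_zero_or_pos s with rfl | hpos
  · have he : (Finset.univ.filter fun a => (SpSplit.dOf (SpSplit.kd T)).2 a = 0) = ∅ :=
      Finset.filter_eq_empty_iff.2 fun a _ ha => by have := hd a; omega
    rw [he]
    exact ⟨0, rfl⟩
  obtain ⟨φ, M, -, hinv, hdet, hsym⟩ := OrthSplit.exists_frame h hT _ hdk
  refine even_card_blocks_of_invariant hinv hdet hd (ε := 1) (fun x y => ?_) hpos ?_ (Or.inl h2)
  · rw [one_mul]
    exact congrFun (congrFun hsym x) y
  · obtain ⟨j, rfl⟩ := hs
    rw [Odd.neg_one_pow ⟨j - 1, by omega⟩, mul_one]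

end Cfsg.Agent.H66.OrthData
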