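/-
Transport of the signs, and symmetric forms with prescribed signs for a given isometry.
-/
import Cfsg.Agent.H66.OrthDisc
import Cfsg.Agent.H66.SelfDualData

set_option autoImplicit false

open LinearMap (BilinForm)
open Module Matrix

namespace Cfsg.Agent.H66.Lead

variable {K : Type*} [Field K] {t : ℕ} {d : Fin t → ℕ}

/-- An invariant symmetric matrix with prescribed leading parts. -/
theorem exists_with_lead_symm (h2 : (2 : K) ≠ 0) (hd : ∀ k, 1 ≤ d k)
    {M : Matrix ((k : Fin t) × Fin (d k)) ((k : Fin t) × Fin (d k)) K}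
    (hM : Inv M) (hdet : M.det ≠ 0) (hsym : M.transpose = M)
    (T : ∀ s, Matrix {a : Fin t // d a = s} {a : Fin t // d a = s} K) (hT : ∀ s, (T s).det ≠ 0)
    (hTt : ∀ s, (T s).transpose = -((-1 : K) ^ s) • T s) :
    ∃ N : Matrix ((k : Fin t) × Fin (d k)) ((k : Fin t) × Fin (d k)) K,
      Inv N ∧ N.det ≠ 0 ∧ N.transpose = N ∧ ∀ s, lead N s = T s := by
  classical
  have hW := lead_det_ne_zero hM hdet hd
  obtain ⟨C, hC, hCl⟩ := exists_levi hd fun s => (lead M s)⁻¹ * T s
  have hI1 : Inv (M * C) := by simpa using inv_congr hM (Commute.one_left _) hC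
  have hI2 : Inv (C.transpose * M) := by simpa using inv_congr hM hC (Commute.one_left _)
  have hN : Inv ((2 : K)⁻¹ • (M * C + C.transpose * M)) := by
    unfold Inv at *
    rw [Matrix.mul_smul, Matrix.smul_mul, Matrix.mul_add, Matrix.add_mul, hI1, hI2]
  have hlead : ∀ s, lead ((2 : K)⁻¹ • (M * C + C.transpose * M)) s = T s := by
    intro s
    have hu : IsUnit (lead M s).det := isUnit_iff_ne_zero.2 (hW s)
    have hA : lead (M * C) s = T s := by
      have h := lead_congr hM (Commute.one_left _) hC hd s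
      rw [Matrix.transpose_one, Matrix.one_mul, levi_one hd, Matrix.transpose_one, Matrix.one_mul, hCl] at h
      rw [h, ← Matrix.mul_assoc, Matrix.mul_nonsing_inv _ hu, Matrix.one_mul]
    have hB : lead (C.transpose * M) s = T s := by
      have h := lead_congr hM hC (Commute.one_left _) hd s
      rw [Matrix.mul_one, levi_one hd, Matrix.mul_one, hCl] at h
      have h3 : ((lead M s).transpose * ((lead M s)⁻¹ * T s)).transpose = T s := by
        rw [lead_transpose_of_symm hM hsym hd, Matrix.smul_mul, ← Matrix.mul_assoc,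
          Matrix.mul_nonsing_inv _ hu, Matrix.one_mul, Matrix.transpose_smul, hTt, smul_smul, neg_mul_neg, ← mul_pow]
        simp
      rw [Matrix.transpose_mul, Matrix.transpose_transpose] at h3
      rw [h, h3]
    rw [lead_smul, lead_add, hA, hB, ← two_smul K (T s), smul_smul, inv_mul_cancel₀ h2, one_smul]
  refine ⟨_, hN, det_ne_zero_of_lead hN fun s => by rw [hlead]; exact hT s, ?_, hlead⟩
  rw [Matrix.transpose_smul, Matrix.transpose_add, Matrix.transpose_mul, Matrix.transpose_mul,
    Matrix.transpose_transpose, hsym, add_comm]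

end Cfsg.Agent.H66.Lead

namespace Cfsg.Agent.H66.OrthSplit

open Cfsg.Agent.H66.SpSplit

universe u v w

variable {K : Type u} [Field K]
variable {V : Type v} [AddCommGroup V] [Module K V] [FiniteDimensional K V]
variable {V' : Type w} [AddCommGroup V'] [Module K V'] [FiniteDimensional K V']

omit [FiniteDimensional K V] [FiniteDimensional K V'] in
theorem isIso_neg {B : BilinForm K V} {T : Module.End K V} {B' : BilinForm K V'} {T' : Module.End K V'}
    (h : IsIso B T B' T') : IsIso B (-T) B' (-T') := by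
  obtain ⟨φ, hφ, hT⟩ := h
  exact ⟨φ, hφ, fun x => by simp [hT]⟩

/-- An isometric intertwining respects the parts. -/
theorem isIso_parts {B : BilinForm K V} {T : Module.End K V} {B' : BilinForm K V'} {T' : Module.End K V'}
    (h : IsIso B T B' T') :
    IsIso (B.restrict (fixPart T)) (fixEnd T) (B'.restrict (fixPart T')) (fixEnd T') ∧
      IsIso (B.restrict (movPart T)) (movEnd T) (B'.restrict (movPart T')) (movEnd T') := by
  obtain ⟨P, hB, hP⟩ := h
  have hk : ∀ (k : ℕ) (x : V), P (((T - 1) ^ k) x) = ((T' - 1) ^ k) (P x) := fun k x => by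
    have h := H66.intertwine_aeval (L := P.toLinearMap) hP ((Polynomial.X - 1) ^ k) x
    simpa using h
  have hfr : Module.finrank K V = Module.finrank K V' := P.finrank_eq
  have hf : (fixPart T).map P.toLinearMap = fixPart T' := by
    ext y
    rw [Submodule.mem_map_equiv, fixPart, fixPart, LinearMap.mem_ker, LinearMap.mem_ker,
      ← P.map_eq_zero_iff, hk, P.apply_symm_apply, hfr]
  have hm : (movPart T).map P.toLinearMap = movPart T' := by
    ext y
    rw [Submodule.mem_map_equiv, movPart, movPart, LinearMap.mem_range, LinearMap.mem_range]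
    constructor
    · rintro ⟨z, hz⟩
      exact ⟨P z, by rw [← hfr, ← hk, hz, P.apply_symm_apply]⟩
    · rintro ⟨z, hz⟩
      exact ⟨P.symm z, P.injective (by rw [hk, P.apply_symm_apply, P.apply_symm_apply, hfr, hz])⟩
  exact ⟨⟨P.ofSubmodules _ _ hf, fun x y => hB x y, fun x => Subtype.ext (hP x)⟩,
    ⟨P.ofSubmodules _ _ hm, fun x y => hB x y, fun x => Subtype.ext (hP x)⟩⟩

omit [FiniteDimensional K V] [FiniteDimensional K V'] in
theorem kd_of_isIso {B : BilinForm K V} {T : Module.End K V} {B' : BilinForm K V'} {T' : Module.End K V'}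
    (h : IsIso B T B' T') : kd T = kd T' := by
  obtain ⟨φ, -, hT⟩ := h
  funext k
  have h1 := H66.finrank_ker_aeval_eq_of_intertwine hT ((Polynomial.X - Polynomial.C (1 : K)) ^ k)
  rwa [aeval_sub_one_pow, aeval_sub_one_pow] at h1

omit [FiniteDimensional K V] [FiniteDimensional K V'] in
/-- The sign is invariant. -/
theorem sgn_of_isIso {B : BilinForm K V} {T : Module.End K V} {B' : BilinForm K V'} {T' : Module.End K V'}
    (h : IsIso B T B' T') (s : ℕ) : sgn B T s ↔ sgn B' T' s := by
  have hk := kd_of_isIso h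
  obtain ⟨φ, hB, hT⟩ := h
  unfold sgn
  rw [← hk]
  constructor
  · rintro ⟨ψ, M, hF, hq⟩
    exact ⟨ψ.trans φ, M, ⟨fun v => by rw [LinearEquiv.trans_apply, hF.1, hT]; rfl,
      fun u v => by rw [LinearEquiv.trans_apply, LinearEquiv.trans_apply, hB, hF.2]⟩, hq⟩
  · rintro ⟨ψ, M, hF, hq⟩
    exact ⟨ψ.trans φ.symm, M, ⟨fun v => by
        rw [LinearEquiv.trans_apply, hF.1, LinearEquiv.trans_apply, φ.symm_apply_eq, hT, φ.apply_symm_apply],
      fun u v => by rw [LinearEquiv.trans_apply, LinearEquiv.trans_apply, ← hF.2, ← hB, φ.apply_symm_apply,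
        φ.apply_symm_apply]⟩, hq⟩

theorem sgnPlus_of_isIso {B : BilinForm K V} {T : Module.End K V} {B' : BilinForm K V'} {T' : Module.End K V'}
    (h : IsIso B T B' T') (s : ℕ) : sgnPlus B T s ↔ sgnPlus B' T' s :=
  sgn_of_isIso (isIso_parts h).1 s

theorem sgnMinus_of_isIso {B : BilinForm K V} {T : Module.End K V} {B' : BilinForm K V'} {T' : Module.End K V'}
    (h : IsIso B T B' T') (s : ℕ) : sgnMinus B T s ↔ sgnMinus B' T' s :=
  sgn_of_isIso (isIso_parts (isIso_neg (isIso_parts h).2)).1 s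

/-- A unipotent isometry preserves a form with one sign changed. -/
theorem exists_flip [Fintype K] {p : ℕ} [Fact p.Prime] [CharP K p] (hp : p ≠ 2) {B : BilinForm K V}
    {T : Module.End K V} (h : IsOSys B T) (hT : IsNilpotent (T - 1)) {s₀ : ℕ} (hs₀ : Odd s₀)
    (hex : ∃ a, (dOf (kd T)).2 a = s₀) :
    ∃ B' : BilinForm K V, IsOSys B' T ∧ disc B' = -disc B ∧
      ∀ s, Odd s → (∃ a, (dOf (kd T)).2 a = s) → (sgn B' T s ↔ ((sgn B T s) ↔ s ≠ s₀)) := by
  classical
  have hp1 : p.Prime := Fact.out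
  have h2 : (2 : K) ≠ 0 := fun h0 => hp ((Nat.prime_dvd_prime_iff_eq hp1 Nat.prime_two).1
    ((CharP.cast_eq_zero_iff K p 2).1 (by exact_mod_cast h0)))
  obtain ⟨ν, hν⟩ := FiniteField.exists_nonsquare (F := K) (by rw [ringChar.eq K p]; exact hp)
  have hν0 : ν ≠ 0 := fun h => hν (h ▸ IsSquare.zero)
  obtain ⟨hd, hdk⟩ := dOf_spec T hT
  obtain ⟨φ, M, hF, hMi, hMd, hMs⟩ := exists_frame h hT (dOf (kd T)).2 hdk
  have hL := Lead.lead_det_ne_zero hMi hMd hd
  obtain ⟨a₀, ha₀⟩ := hex
  let W : ∀ s, Matrix {a // (dOf (kd T)).2 a = s} {a // (dOf (kd T)).2 a = s} K := fun s =>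
    if s = s₀ then Matrix.diagonal fun a => if a.1 = a₀ then ν * (Lead.lead M s).det else 1 else Lead.lead M s
  have hW₀ : (W s₀).det = ν * (Lead.lead M s₀).det := by
    simp only [W, if_pos rfl, Matrix.det_diagonal]
    rw [Finset.prod_eq_single (⟨a₀, ha₀⟩ : {a // (dOf (kd T)).2 a = s₀})]
    · simp
    · intro b _ hb
      rw [if_neg (fun e => hb (Subtype.ext e))]
    · simp
  have hWd : ∀ s, (W s).det ≠ 0 := fun s => by
    by_cases hs : s = s₀
    · subst hs
      rw [hW₀]
      exact mul_ne_zero hν0 (hL _)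
    · simp only [W, if_neg hs]; exact hL s
  have hWt : ∀ s, (W s).transpose = -((-1 : K) ^ s) • W s := fun s => by
    by_cases hs : s = s₀
    · subst hs
      simp only [W, if_pos rfl, Matrix.diagonal_transpose, hs₀.neg_one_pow, neg_neg, one_smul]
    · simp only [W, if_neg hs]; exact Lead.lead_transpose_of_symm hMi hMs hd s
  obtain ⟨N, hNi, hNd, hNs, hNl⟩ := Lead.exists_with_lead_symm h2 hd hMi hMd hMs W hWd hWt
  let B' : BilinForm K V := (Matrix.toBilin' N).compl₁₂ φ.symm.toLinearMap φ.symm.toLinearMap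
  have hB' : ∀ u v, B' (φ u) (φ v) = u ⬝ᵥ N.mulVec v := fun u v => by
    simp [B', Matrix.toBilin'_apply']
  have hsys : IsOSys B' T := by
    refine ⟨⟨fun x hx => ?_, fun x hx => ?_⟩, fun x y => ?_, fun x y => ?_⟩
    · obtain ⟨u, rfl⟩ := φ.surjective x
      rw [(LinearMap.BilinForm.nondegenerate_toBilin'_of_det_ne_zero' N hNd).1 u fun v => by
        rw [Matrix.toBilin'_apply', ← hB']; exact hx _, map_zero]
    · obtain ⟨u, rfl⟩ := φ.surjective x
      rw [(LinearMap.BilinForm.nondegenerate_toBilin'_of_det_ne_zero' N hNd).2 u fun v => by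
        rw [Matrix.toBilin'_apply', ← hB']; exact hx _, map_zero]
    · obtain ⟨u, rfl⟩ := φ.surjective x
      obtain ⟨v, rfl⟩ := φ.surjective y
      rw [hB', hB', Matrix.dotProduct_mulVec, ← Matrix.mulVec_transpose, hNs, dotProduct_comm]
    · obtain ⟨u, rfl⟩ := φ.surjective x
      obtain ⟨v, rfl⟩ := φ.surjective y
      rw [← hF.1, ← hF.1, hB', hB', Matrix.mulVec_mulVec, ← Matrix.vecMul_transpose, ← Matrix.dotProduct_mulVec,
        Matrix.mulVec_mulVec, ← Matrix.mul_assoc, show _ = N from hNi]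
  have hF' : IsFrame B' T (dOf (kd T)).2 φ N := ⟨hF.1, hB'⟩
  have hne : ∀ s, sgn B' T s ↔ IsSquare (W s).det := fun s => by rw [sgn_iff hsys hd hF' hNi hNd, hNl]
  have hsgn : ∀ s, Odd s → (∃ a, (dOf (kd T)).2 a = s) → (sgn B' T s ↔ ((sgn B T s) ↔ s ≠ s₀)) := by
    intro s _ _
    rw [hne, sgn_iff h hd hF hMi hMd]
    by_cases hs : s = s₀
    · subst hs
      rw [hW₀]
      simp only [ne_eq, not_true_eq_false, iff_false]
      refine ⟨fun hsq hsq' => hν ?_, fun hns => H4.isSquare_mul_of_not hν hns⟩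
      have := hsq.div hsq'
      rwa [mul_div_assoc, div_self (hL _), mul_one] at this
    · simp only [W, if_neg hs, ne_eq, hs, not_false_eq_true, iff_true]
  refine ⟨B', hsys, ?_, hsgn⟩
  have hflip := disc_flip hp h hsys hT hT rfl hs₀ ⟨a₀, ha₀⟩
    (fun e => by have := hsgn s₀ hs₀ ⟨a₀, ha₀⟩; simp only [ne_eq, not_true_eq_false, iff_false] at this; tauto)
    (fun s hs hne' hx => by have := hsgn s hs hx; simp only [ne_eq, hne', not_false_eq_true, iff_true] at this; exact this.symm)
  rw [disc_frame hF, disc_frame hF'] at hflip ⊢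
  rcases quadraticChar_dichotomy hMd with e1 | e1 <;> rcases quadraticChar_dichotomy hNd with e2 | e2 <;>
    rw [e1, e2] at hflip ⊢ <;> first | exact absurd rfl hflip | rfl

omit [FiniteDimensional K V] in
theorem restrict_congr {B₁ B₂ : BilinForm K V} {p : Submodule K V} (h : ∀ x ∈ p, ∀ y ∈ p, B₁ x y = B₂ x y) :
    B₁.restrict p = B₂.restrict p :=
  LinearMap.ext fun x => LinearMap.ext fun y => h _ x.2 _ y.2

/-- Symmetric forms on the parts give one on the space. -/
theorem exists_glue {T : Module.End K V} {B₁ : BilinForm K (fixPart T)} {B₂ : BilinForm K (movPart T)}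
    (h₁ : IsOSys B₁ (fixEnd T)) (h₂ : IsOSys B₂ (movEnd T)) :
    ∃ B : BilinForm K V, IsOSys B T ∧ B.restrict (fixPart T) = B₁ ∧ B.restrict (movPart T) = B₂ := by
  let hc := isCompl_parts T
  let π₁ := (fixPart T).projectionOnto (movPart T) hc
  let π₂ := (movPart T).projectionOnto (fixPart T) hc.symm
  let B : BilinForm K V := B₁.compl₁₂ π₁ π₁ + B₂.compl₁₂ π₂ π₂
  have hB : ∀ x y, B x y = B₁ (π₁ x) (π₁ y) + B₂ (π₂ x) (π₂ y) := fun x y => rfl
  have e11 : ∀ x : fixPart T, π₁ x = x := fun x => Submodule.projectionOnto_apply_left hc x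
  have e22 : ∀ x : movPart T, π₂ x = x := fun x => Submodule.projectionOnto_apply_left hc.symm x
  have e12 : ∀ x : movPart T, π₁ x = 0 := fun x => Submodule.projectionOnto_apply_right hc x
  have e21 : ∀ x : fixPart T, π₂ x = 0 := fun x => Submodule.projectionOnto_apply_right hc.symm x
  have hsum : ∀ x, (π₁ x : V) + π₂ x = x := fun x => by
    obtain ⟨⟨a, b⟩, rfl⟩ := (Submodule.prodEquivOfIsCompl _ _ hc).surjective x
    simp [e11, e22, e12, e21]
  have hπ : ∀ x, π₁ (T x) = fixEnd T (π₁ x) ∧ π₂ (T x) = movEnd T (π₂ x) := fun x => by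
    have : T x = (fixEnd T (π₁ x) : V) + (movEnd T (π₂ x) : V) := by
      conv_lhs => rw [← hsum x, map_add]
      rfl
    rw [this, map_add, map_add, e11, e22, e12, e21, add_zero, zero_add]
    exact ⟨rfl, rfl⟩
  refine ⟨B, ⟨⟨fun x hx => ?_, fun x hx => ?_⟩, fun x y => ?_, fun x y => ?_⟩, ?_, ?_⟩
  · rw [← hsum x, h₁.1.1 (π₁ x) fun a => by simpa [hB, e11, e21] using hx a,
      h₂.1.1 (π₂ x) fun a => by simpa [hB, e22, e12] using hx a]
    simp
  · rw [← hsum x, h₁.1.2 (π₁ x) fun a => by simpa [hB, e11, e21] using hx a,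
      h₂.1.2 (π₂ x) fun a => by simpa [hB, e22, e12] using hx a]
    simp
  · rw [hB, hB, h₁.2.1, h₂.2.1]
  · rw [hB, hB, (hπ x).1, (hπ x).2, (hπ y).1, (hπ y).2, h₁.2.2, h₂.2.2]
  · refine LinearMap.ext fun x => LinearMap.ext fun y => ?_
    show B x y = _
    rw [hB, e11, e11, e21, e21, map_zero, add_zero]
  · refine LinearMap.ext fun x => LinearMap.ext fun y => ?_
    show B x y = _
    rw [hB, e22, e22, e12, e12, map_zero, zero_add]

/-- Symmetric forms with the same discriminant are isometric. -/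
theorem exists_isometry_of_disc [Fintype K] (h2 : (2 : K) ≠ 0) {B B' : BilinForm K V} {T T' : Module.End K V}
    (h : IsOSys B T) (h' : IsOSys B' T') (hd : disc B = disc B') :
    ∃ φ : V ≃ₗ[K] V, ∀ x y, B (φ x) (φ y) = B' x y := by
  classical
  let b := Module.finBasis K V
  set W₁ := LinearMap.BilinForm.toMatrix b B with hW₁
  set W₂ := LinearMap.BilinForm.toMatrix b B' with hW₂
  have d1 : W₁.det ≠ 0 := (LinearMap.BilinForm.nondegenerate_iff_det_ne_zero b).1 h.1
  have d2 : W₂.det ≠ 0 := (LinearMap.BilinForm.nondegenerate_iff_det_ne_zero b).1 h'.1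
  have s1 : W₁.transpose = W₁ := by ext i j; simp [hW₁, LinearMap.BilinForm.toMatrix_apply, h.2.1]
  have s2 : W₂.transpose = W₂ := by ext i j; simp [hW₂, LinearMap.BilinForm.toMatrix_apply, h'.2.1]
  rw [disc_eq_basis B b, disc_eq_basis B' b] at hd
  obtain ⟨P, hP⟩ := Lead.exists_congr_symm h2 W₁ W₂ s1 s2 d1 d2 (by
    rw [← quadraticChar_one_iff_isSquare (mul_ne_zero d1 d2), map_mul, hd]
    rcases quadraticChar_dichotomy d2 with e | e <;> rw [e] <;> norm_num)
  have hPd : IsUnit P.det := isUnit_iff_ne_zero.2 fun h0 => d2 (by rw [← hP, Matrix.det_mul, h0, mul_zero])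
  let φ := b.equivFun.trans ((Matrix.toLinearEquiv' P ((Matrix.isUnit_iff_isUnit_det P).2 hPd).invertible).trans b.equivFun.symm)
  refine ⟨φ, fun x y => ?_⟩
  have e : B.compl₁₂ φ.toLinearMap φ.toLinearMap = B' := by
    refine (LinearMap.BilinForm.toMatrix b).injective ?_
    rw [← hW₂, ← hP, hW₁]
    rw [show B.compl₁₂ φ.toLinearMap φ.toLinearMap = B.comp φ.toLinearMap φ.toLinearMap from rfl,
      LinearMap.BilinForm.toMatrix_comp b b]
    have : LinearMap.toMatrix b b φ.toLinearMap = P := by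
      ext i j
      simp [LinearMap.toMatrix_apply, φ, Matrix.toLinearEquiv', Finsupp.single_eq_pi_single]
    rw [this]
  exact LinearMap.congr_fun (LinearMap.congr_fun e x) y

/-- The nested minus part is the generalised eigenspace of `-1`. -/
theorem disc_minus [Fintype K] (h2 : (2 : K) ≠ 0) (B : BilinForm K V) (T : Module.End K V) :
    disc ((B.restrict (movPart T)).restrict (fixPart (-movEnd T))) = disc (B.restrict (fixPart (-T))) := by
  have hk : ∀ k, finrank K (LinearMap.ker ((-T - 1) ^ k)) =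
      finrank K (LinearMap.ker (Polynomial.aeval T ((Polynomial.X - Polynomial.C (-1 : K)) ^ k))) := fun k => by
    have e : (-T - 1) ^ k = (-1 : K) ^ k • Polynomial.aeval T ((Polynomial.X - Polynomial.C (-1 : K)) ^ k) := by
      rw [map_pow, ← smul_pow]
      congr 1
      simp [sub_eq_add_neg, add_comm]
    rw [e, LinearMap.ker_smul _ _ (pow_ne_zero _ (by simp))]
  have hfr : finrank K (fixPart (-movEnd T)) = finrank K (fixPart (-T)) := by
    have h1 : ∀ {W : Type v} [AddCommGroup W] [Module K W] [FiniteDimensional K W] (S : Module.End K W) (k : ℕ),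
        finrank K W ≤ k → LinearMap.ker ((S - 1) ^ k) = fixPart S := by
      intro W _ _ _ S k hk
      exact le_antisymm (Module.End.ker_pow_le_ker_pow_finrank (S - 1) k)
        (fun x hx => by
          obtain ⟨j, rfl⟩ := Nat.exists_eq_add_of_le' hk
          rw [LinearMap.mem_ker, pow_add, Module.End.mul_apply, LinearMap.mem_ker.1 hx, map_zero])
    have hle : finrank K (movPart T) ≤ finrank K V := Submodule.finrank_le _
    rw [← h1 (-movEnd T) (finrank K V) hle, ← finrank_ker_fixEnd, SpData.hker_minus_aux h2, ← hk]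
    rfl
  have hmem : ∀ y : fixPart (-movEnd T), ((y : movPart T) : V) ∈ fixPart (-T) := fun y => by
    have key : ∀ (k : ℕ) (z : movPart T), ((((-movEnd T - 1) ^ k) z : movPart T) : V) = ((-T - 1) ^ k) (z : V) := by
      intro k
      induction k with
      | zero => intro z; rfl
      | succ k ih =>
        intro z
        rw [pow_succ, pow_succ, Module.End.mul_apply, Module.End.mul_apply, ih]
        rfl
    have hy : ((-movEnd T - 1) ^ finrank K (movPart T)) (y : movPart T) = 0 := LinearMap.mem_ker.1 y.2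
    have h3 : ((-T - 1) ^ finrank K (movPart T)) ((y : movPart T) : V) = 0 := by rw [← key, hy]; rfl
    exact Module.End.ker_pow_le_ker_pow_finrank (-T - 1) _ (LinearMap.mem_ker.2 h3)
  let f : fixPart (-movEnd T) →ₗ[K] fixPart (-T) :=
    LinearMap.codRestrict (fixPart (-T)) ((movPart T).subtype.comp (fixPart (-movEnd T)).subtype) hmem
  have hfi : Function.Injective f := fun a b hab => Subtype.ext (Subtype.ext (congrArg Subtype.val hab :))
  exact disc_of_isIso (T := 0) (T' := 0)
    ⟨LinearEquiv.ofInjectiveOfFinrankEq f hfi hfr, fun x y => rfl, fun x => by simp⟩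

/-- A similar isometry of the same space with one sign changed at each of `1` and `-1`. -/
theorem exists_flip_both [Fintype K] {p : ℕ} [Fact p.Prime] [CharP K p] (hp : p ≠ 2) {B : BilinForm K V}
    {T : Module.End K V} (h : IsOSys B T) {s t : ℕ} (hs : Odd s) (ht : Odd t) (hxs : hasPlus T s)
    (hxt : hasMinus T t) :
    ∃ T' : Module.End K V, IsOSys B T' ∧ (∃ L : V ≃ₗ[K] V, ∀ x, L (T x) = T' (L x)) ∧
      (∀ r, Odd r → hasPlus T r → (sgnPlus B T' r ↔ ((sgnPlus B T r) ↔ r ≠ s))) ∧
      (∀ r, Odd r → hasMinus T r → (sgnMinus B T' r ↔ ((sgnMinus B T r) ↔ r ≠ t))) ∧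
      disc (B.restrict (fixPart (-T'))) = -disc (B.restrict (fixPart (-T))) := by
  classical
  have hp1 : p.Prime := Fact.out
  have h2 : (2 : K) ≠ 0 := fun h0 => hp ((Nat.prime_dvd_prime_iff_eq hp1 Nat.prime_two).1
    ((CharP.cast_eq_zero_iff K p 2).1 (by exact_mod_cast h0)))
  obtain ⟨Bp, hBp, hdp, hsp⟩ := exists_flip hp h.fix (fixEnd_isNilpotent T) hs hxs
  obtain ⟨Bm, hBm, hdm, hsm⟩ := exists_flip hp h.mov.neg.fix (fixEnd_isNilpotent _) ht hxt
  obtain ⟨Bn, hBn, hn1, hn2⟩ := exists_glue (T := -movEnd T) hBm h.mov.neg.mov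
  have hBn' : IsOSys Bn (movEnd T) := by simpa using hBn.neg
  obtain ⟨B', hB', hb1, hb2⟩ := exists_glue hBp hBn'
  have e1 : disc B' = disc B := by
    rw [disc_parts hB', disc_parts h, hb1, hb2, disc_parts hBn, hn1, hn2, hdp, hdm, disc_parts h.mov.neg]
    ring
  obtain ⟨φ, hφ⟩ := exists_isometry_of_disc h2 h hB' e1.symm
  have hiso : IsIso B' T B (φ.conj T) := ⟨φ, hφ, fun x => by simp [LinearEquiv.conj_apply_apply]⟩
  have hT' : IsOSys B (φ.conj T) := ⟨h.1, h.2.1, fun x y => by
    simp only [LinearEquiv.conj_apply_apply]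
    rw [hφ, hB'.2.2, ← hφ, φ.apply_symm_apply, φ.apply_symm_apply]⟩
  refine ⟨φ.conj T, hT', ⟨φ, fun x => by simp [LinearEquiv.conj_apply_apply]⟩, fun r hr hx => ?_, fun r hr hx => ?_, ?_⟩
  · rw [← sgnPlus_of_isIso hiso]
    show sgn (B'.restrict (fixPart T)) (fixEnd T) r ↔ _
    rw [hb1]
    exact hsp r hr hx
  · rw [← sgnMinus_of_isIso hiso]
    show sgn ((B'.restrict (movPart T)).restrict (fixPart (-movEnd T))) (fixEnd (-movEnd T)) r ↔ _
    rw [hb2, hn1]
    exact hsm r hr hx
  · rw [← disc_minus h2 B T, ← disc_minus h2 B (φ.conj T)]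
    rw [← disc_of_isIso (isIso_parts (isIso_neg (isIso_parts hiso).2)).1, hb2, hn1]
    exact hdm

end Cfsg.Agent.H66.OrthSplit
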