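/-
The spinor norm of similar isometries: it follows the discriminant of the part at `-1`.
-/
import Cfsg.Agent.H66.OrthTransport
import Cfsg.Agent.H5.OmegaMatrix
import Cfsg.Agent.H4.NegOne

set_option autoImplicit false

open LinearMap (BilinForm)
open Module
open QuadraticMap hiding sq

namespace Cfsg.Agent.H66.OrthSpin

open Cfsg.Agent.H66.SpSplit

universe u v

variable {F : Type u} [Field F] {V : Type v} [AddCommGroup V] [Module F V] {Q : QuadraticForm F V}

/-- An isometry as an endomorphism. -/
def endHom (Q : QuadraticForm F V) : H5.orth Q →* Module.End F V where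
  toFun g := (g : V ≃ₗ[F] V).toLinearMap
  map_one' := rfl
  map_mul' _ _ := rfl

theorem endHom_apply (g : H5.orth Q) (x : V) : endHom Q g x = (g : V ≃ₗ[F] V) x := rfl

theorem endHom_injective : Function.Injective (endHom Q) := fun _ _ h =>
  H5.orth_ext fun x => LinearMap.congr_fun h x

theorem isOSys_endHom (hQ : (polarBilin Q).Nondegenerate) (g : H5.orth Q) :
    OrthSplit.IsOSys (polarBilin Q) (endHom Q g) :=
  ⟨hQ, fun x y => QuadraticMap.polar_comm _ x y, fun x y => H5.orth_polar g x y⟩

theorem exists_of_polar (h2 : (2 : F) ≠ 0) (φ : V ≃ₗ[F] V)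
    (h : ∀ x y, polarBilin Q (φ x) (φ y) = polarBilin Q x y) : ∃ c : H5.orth Q, ∀ x, endHom Q c x = φ x := by
  refine ⟨⟨φ, fun x => ?_⟩, fun x => rfl⟩
  have h1 := h x x
  simp only [polarBilin_apply_apply, H5.polar_self'] at h1
  exact mul_left_cancel₀ h2 h1

variable [Fintype F] [FiniteDimensional F V]

theorem sq_self_units (a : ℤˣ) : a * a = 1 := by rw [← sq, Int.units_sq]

/-- The spinor norm of an involution. -/
theorem spin_involution [Finite V] (h2 : (2 : F) ≠ 0) {W W' : Submodule F V}
    (hc : IsCompl W W') (horth : ∀ x ∈ W, ∀ z ∈ W', polar Q x z = 0) (hW : (LinearMap.BilinForm.restrict (polarBilin Q) W).Nondegenerate)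
    (e : H5.orth Q) (he : ∀ x ∈ W, endHom Q e x = -x) (he' : ∀ x ∈ W', endHom Q e x = x) :
    ∃ d : F, d ≠ 0 ∧ H5.spin Q e = H5.sqc d ∧
      OrthSplit.disc (LinearMap.BilinForm.restrict (polarBilin Q) W) = H5.sqc ((2 : F) ^ finrank F W * d) := by
  classical
  have hsqc : ∀ {c : F}, c ≠ 0 → (H5.sqc c : ℤ) = quadraticChar F c := fun {c} hc => by
    by_cases h : IsSquare c
    · rw [H5.sqc_eq_one_iff.2 h, (quadraticChar_one_iff_isSquare hc).2 h]; rfl
    · rw [H5.sqc_eq_neg_one_iff.2 h, quadraticChar_neg_one_iff_not_isSquare.2 h]; rfl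
  rcases Nat.eq_zero_or_pos (finrank F W) with h0 | h0
  · have hz : ∀ x ∈ W, x = 0 := fun x hx => by
      have := Module.finrank_zero_iff.1 h0
      exact congrArg Subtype.val (Subsingleton.elim (⟨x, hx⟩ : W) 0)
    have e1 : e = 1 := H5.orth_ext fun x => by
      obtain ⟨⟨a, b⟩, rfl⟩ := (Submodule.prodEquivOfIsCompl _ _ hc).surjective x
      show endHom Q e _ = _
      simp only [Submodule.coe_prodEquivOfIsCompl', hz a a.2, zero_add]
      exact he' b b.2
    refine ⟨1, one_ne_zero, by rw [e1, map_one, H5.sqc_one], ?_⟩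
    rw [h0, pow_zero, one_mul, hsqc one_ne_zero, OrthSplit.disc_eq_basis _ (Module.finBasis F W)]
    congr 1
    have : IsEmpty (Fin (finrank F W)) := by rw [h0]; infer_instance
    exact Matrix.det_isEmpty
  · obtain ⟨α, hα⟩ := H5.exists_not_isSquare h2
    obtain ⟨n, hn⟩ : ∃ n, finrank F W = n + 1 := ⟨finrank F W - 1, by omega⟩
    have hQW : (polarBilin (Q.comp W.subtype)).Nondegenerate := by
      have : polarBilin (Q.comp W.subtype) = LinearMap.BilinForm.restrict (polarBilin Q) W := by
        refine LinearMap.ext fun x => LinearMap.ext fun y => ?_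
        simp [QuadraticMap.polar]
      rwa [this]
    obtain ⟨b, d, hd, hperp, hq⟩ := H4.exists_orth_basis (Q := Q.comp W.subtype) h2 hQW hn α hα
    have hd0 : d ≠ 0 := by
      rcases hd with rfl | rfl
      · exact one_ne_zero
      · exact fun h => hα (h ▸ IsSquare.zero)
    have hperp' : ∀ i j, i ≠ j → polar Q (b i : V) (b j : V) = 0 := fun i j hij => by
      simpa [QuadraticMap.polar] using hperp i j hij
    have hq0 : ∀ i, Q (b i : V) ≠ 0 := fun i => by
      have := hq i
      rw [QuadraticMap.comp_apply, Submodule.subtype_apply] at this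
      rw [this]; split_ifs <;> simp [hd0]
    let vs := (List.finRange (n + 1)).map fun i => (b i : V)
    set r : H5.orth Q := (vs.map (H5.refl Q)).prod with hr
    have hr1 : ∀ j, endHom Q r (b j : V) = -(b j : V) := fun j => by
      rw [endHom_apply, hr, H4.list_refl_orth_apply hperp' hq0 (List.nodup_finRange _) j]
      simp
    have hr2 : ∀ x ∈ W', endHom Q r x = x := fun x hx => by
      have key : ∀ l : List (Fin (n + 1)), ((((l.map fun i => (b i : V)).map (H5.refl Q)).prod : H5.orth Q) : V ≃ₗ[F] V) x = x := by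
        intro l
        induction l with
        | nil => rfl
        | cons i l ih =>
          rw [List.map_cons, List.map_cons, List.prod_cons, H5.orth_mul_apply, ih]
          exact H5.refl_apply_of_ortho (horth _ (b i).2 x hx)
      exact key _
    have er : e = r := endHom_injective (by
      refine LinearMap.ext fun x => ?_
      obtain ⟨⟨a, c⟩, rfl⟩ := (Submodule.prodEquivOfIsCompl _ _ hc).surjective x
      simp only [Submodule.coe_prodEquivOfIsCompl', map_add, he' c c.2, hr2 c c.2, he a a.2]
      congr 1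
      have hlin : (endHom Q r).comp W.subtype = -W.subtype := b.ext fun j => by simpa using hr1 j
      exact (LinearMap.congr_fun hlin a).symm)
    have hprod : (vs.map fun v => Q v).prod = d := by
      have hq' : ∀ i, Q (b i : V) = if i = Fin.last n then d else 1 := fun i => by
        simpa [QuadraticMap.comp_apply] using hq i
      rw [List.map_map, ← List.ofFn_eq_map, List.prod_ofFn]
      simp [hq']
    refine ⟨d, hd0, ?_, ?_⟩
    · rw [er, hr, H5.spin_list_prod vs (fun v hv => by
        obtain ⟨i, -, rfl⟩ := List.mem_map.1 hv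
        exact hq0 i), hprod]
    · rw [hsqc (mul_ne_zero (pow_ne_zero _ h2) hd0), OrthSplit.disc_eq_basis _ b]
      congr 1
      have hM : LinearMap.BilinForm.toMatrix b (LinearMap.BilinForm.restrict (polarBilin Q) W) =
          Matrix.diagonal fun i => 2 * (if i = Fin.last n then d else 1) := by
        ext i j
        rw [LinearMap.BilinForm.toMatrix_apply]
        rcases eq_or_ne i j with rfl | hij
        · have h1 : Q (b i : V) = if i = Fin.last n then d else 1 := by simpa [QuadraticMap.comp_apply] using hq i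
          rw [Matrix.diagonal_apply_eq, ← h1]
          exact H5.polar_self' Q _
        · rw [Matrix.diagonal_apply_ne _ hij]
          exact hperp' i j hij
      rw [hM, Matrix.det_diagonal, Finset.prod_mul_distrib, Finset.prod_const, Finset.card_univ, Fintype.card_fin,
        Finset.prod_ite_eq' Finset.univ (Fin.last n) (fun _ => d), if_pos (Finset.mem_univ _), hn]

/-- Minus one on the part at `-1`. -/
theorem exists_minusInvol (hQ : (polarBilin Q).Nondegenerate) (g : H5.orth Q) :
    ∃ e : H5.orth Q, (∀ x ∈ fixPart (-endHom Q g), endHom Q e x = -x) ∧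
      ∀ x ∈ movPart (-endHom Q g), endHom Q e x = x := by
  set T := endHom Q g
  have h := (isOSys_endHom hQ g).neg
  let hc := isCompl_parts (-T)
  let ε : V ≃ₗ[F] V := ((Submodule.prodEquivOfIsCompl _ _ hc).symm.trans
    ((LinearEquiv.neg F).prodCongr (LinearEquiv.refl F _))).trans (Submodule.prodEquivOfIsCompl _ _ hc)
  have hε : ∀ (a : fixPart (-T)) (b : movPart (-T)), ε (a + b) = -(a : V) + b := fun a b => by
    have : (a : V) + b = Submodule.prodEquivOfIsCompl _ _ hc (a, b) := by simp
    rw [this]
    simp [ε]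
  refine ⟨⟨ε, fun x => ?_⟩, fun x hx => ?_, fun x hx => ?_⟩
  · obtain ⟨⟨a, b⟩, rfl⟩ := (Submodule.prodEquivOfIsCompl _ _ hc).surjective x
    rw [Submodule.coe_prodEquivOfIsCompl', hε]
    have h0 : polar Q (a : V) b = 0 := (OrthSplit.orth_parts h a.2 b.2).1
    rw [QuadraticMap.map_add (⇑Q), QuadraticMap.map_add (⇑Q) (a : V) b, QuadraticMap.map_neg,
      QuadraticMap.polar_neg_left, h0, neg_zero]
  · show ε x = -x
    have := hε ⟨x, hx⟩ 0
    simpa using this
  · show ε x = x
    have := hε 0 ⟨x, hx⟩
    simpa using this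

/-- The spinor norm follows the discriminant at `-1`. -/
theorem spin_flip [Finite V] {p : ℕ} [Fact p.Prime] [CharP F p] (hp : p ≠ 2)
    (hQ : (polarBilin Q).Nondegenerate) (hn : 1 ≤ finrank F V) (g g' : H5.orth Q)
    (L : V ≃ₗ[F] V) (hL : ∀ x, L (endHom Q g x) = endHom Q g' (L x))
    (hd : OrthSplit.disc (LinearMap.BilinForm.restrict (polarBilin Q) (fixPart (-endHom Q g'))) =
      -OrthSplit.disc (LinearMap.BilinForm.restrict (polarBilin Q) (fixPart (-endHom Q g)))) :
    H5.spin Q g' = -H5.spin Q g := by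
  classical
  have hp1 : p.Prime := Fact.out
  have h2 : (2 : F) ≠ 0 := fun h0 => hp ((Nat.prime_dvd_prime_iff_eq hp1 Nat.prime_two).1
    ((CharP.cast_eq_zero_iff F p 2).1 (by exact_mod_cast h0)))
  obtain ⟨e, he1, he2⟩ := exists_minusInvol hQ g
  obtain ⟨e', he1', he2'⟩ := exists_minusInvol hQ g'
  set T := endHom Q g with hT
  set T' := endHom Q g' with hT'
  have hS := (isOSys_endHom hQ g).neg
  have hS' := (isOSys_endHom hQ g').neg
  rw [← hT] at hS
  rw [← hT'] at hS'
  -- the involutions
  obtain ⟨d, hd0, hs, hdd⟩ := spin_involution h2 (isCompl_parts (-T))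
    (fun x hx z hz => (OrthSplit.orth_parts hS hx hz).1) hS.fix.1 e he1 he2
  obtain ⟨d', hd0', hs', hdd'⟩ := spin_involution h2 (isCompl_parts (-T'))
    (fun x hx z hz => (OrthSplit.orth_parts hS' hx hz).1) hS'.fix.1 e' he1' he2'
  obtain ⟨⟨P₁, hP₁⟩, -⟩ := exists_similar_parts (T := -T) (T' := -T') L (fun x => by simp [hL])
  rw [hdd, hdd', ← P₁.finrank_eq, H5.sqc_mul (pow_ne_zero _ h2) hd0, H5.sqc_mul (pow_ne_zero _ h2) hd0',
    ← hs, ← hs'] at hd
  have he : H5.spin Q e' = -H5.spin Q e := by
    rcases Int.units_eq_one_or (H5.sqc ((2 : F) ^ finrank F (fixPart (-T)))) with u | u <;>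
      rcases Int.units_eq_one_or (H5.spin Q e) with a | a <;>
      rcases Int.units_eq_one_or (H5.spin Q e') with c | c <;> rw [u, a, c] at hd <;> simp [a, c] at hd ⊢
  -- the rest
  have hint : ∀ x, L (endHom Q e x) = endHom Q e' (L x) := fun x => by
    have hk : ∀ (k : ℕ) (y : V), L (((-T - 1) ^ k) y) = ((-T' - 1) ^ k) (L y) := fun k y => by
      have h := H66.intertwine_aeval (L := L.toLinearMap) (f := -T) (g := -T') (fun z => by simp [hL])
        ((Polynomial.X - 1) ^ k) y
      simpa using h
    obtain ⟨⟨a, b⟩, rfl⟩ := (Submodule.prodEquivOfIsCompl _ _ (isCompl_parts (-T))).surjective x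
    have ha : L (a : V) ∈ fixPart (-T') := by
      rw [fixPart, LinearMap.mem_ker, ← hk, LinearMap.mem_ker.1 a.2, map_zero]
    have hb : L (b : V) ∈ movPart (-T') := by
      obtain ⟨y, hy⟩ := b.2
      exact ⟨L y, by rw [← hy, hk]⟩
    simp only [Submodule.coe_prodEquivOfIsCompl', map_add, he1 _ a.2, he2 _ b.2, he1' _ ha, he2' _ hb, map_neg]
  obtain ⟨N, hN⟩ : ∃ N, finrank F V + 1 ≤ p ^ N := ⟨finrank F V + 1, (Nat.lt_pow_self hp1.one_lt).le⟩
  have hodd : Odd (p ^ N) := (hp1.odd_of_ne_two hp).pow
  have : Nontrivial V := Module.finrank_pos_iff.1 hn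
  have : CharP (Module.End F V) p := charP_of_injective_algebraMap (algebraMap F (Module.End F V)).injective p
  -- no eigenvalue `-1` in `g * e`, and only blocks of size one at `1` in its power
  have key : ∀ (g₀ e₀ : H5.orth Q), (∀ x ∈ fixPart (-endHom Q g₀), endHom Q e₀ x = -x) →
      (∀ x ∈ movPart (-endHom Q g₀), endHom Q e₀ x = x) →
      (∀ s, ¬ hasMinus (endHom Q ((g₀ * e₀) ^ (p ^ N))) s) ∧
      ∀ s, hasPlus (endHom Q ((g₀ * e₀) ^ (p ^ N))) s → s = 1 := by
    intro g₀ e₀ k1 k2
    set S := endHom Q g₀ with hS0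
    set U := endHom Q (g₀ * e₀) with hU
    have hUv : ∀ x, U x = S (endHom Q e₀ x) := fun x => rfl
    have hinj : LinearMap.ker (U + 1) = ⊥ := by
      rw [LinearMap.ker_eq_bot']
      intro x hx
      obtain ⟨⟨a, b⟩, rfl⟩ := (Submodule.prodEquivOfIsCompl _ _ (isCompl_parts (-S))).surjective x
      simp only [Submodule.coe_prodEquivOfIsCompl', LinearMap.add_apply, hUv, map_add, k1 _ a.2, k2 _ b.2,
        map_neg, Module.End.one_apply] at hx
      have hua : -S a + a ∈ fixPart (-S) := add_mem (fixPart_mem (-S) a.2) a.2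
      have hub : S b + b ∈ movPart (-S) := add_mem (by simpa using neg_mem (movPart_mem (-S) b.2)) b.2
      have hua0 : -S a + (a : V) = 0 := Submodule.disjoint_def.1 (isCompl_parts (-S)).disjoint _ hua (by
        have : -S a + (a : V) = -(S b + b) := by linear_combination (norm := abel) hx
        rw [this]; exact neg_mem hub)
      have hub0 : S b + (b : V) = 0 := by
        have h3 := hx
        linear_combination (norm := abel) h3 - hua0
      have ha : (a : V) = 0 := by
        have h1 : ((-S - 1) : Module.End F V) (a : V) = (-2 : F) • (a : V) := by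
          simp only [LinearMap.sub_apply, LinearMap.neg_apply, Module.End.one_apply]
          rw [show -S a = -(a : V) by linear_combination (norm := abel) hua0]
          module
        have h3 : ∀ k, ((-S - 1) ^ k) (a : V) = (-2 : F) ^ k • (a : V) := fun k => by
          induction k with
          | zero => simp
          | succ k ih => rw [pow_succ, Module.End.mul_apply, h1, map_smul, ih, smul_smul, ← pow_succ']
        have h4 : ((-S - 1) ^ finrank F V) (a : V) = 0 := LinearMap.mem_ker.1 a.2
        rw [h3, smul_eq_zero] at h4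
        exact h4.resolve_left (pow_ne_zero _ (neg_ne_zero.2 h2))
      have hb : (b : V) = 0 := by
        refine Submodule.disjoint_def.1 (isCompl_parts (-S)).disjoint _ ?_ b.2
        have h1 : ((-S - 1) : Module.End F V) (b : V) = 0 := by
          simp only [LinearMap.sub_apply, LinearMap.neg_apply, Module.End.one_apply]
          linear_combination (norm := abel) -hub0
        obtain ⟨j, hj⟩ := Nat.exists_eq_add_of_le' hn
        rw [fixPart, LinearMap.mem_ker, hj, pow_succ, Module.End.mul_apply, h1, map_zero]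
      simp [ha, hb]
    have hpw : endHom Q ((g₀ * e₀) ^ (p ^ N)) = U ^ (p ^ N) := map_pow _ _ _
    rw [hpw]
    refine ⟨fun s hs => ?_, fun s hs => ?_⟩
    · obtain ⟨a, -⟩ := hs
      obtain ⟨hd1, hdk⟩ := dOf_spec (fixEnd (-movEnd (U ^ (p ^ N)))) (fixEnd_isNilpotent _)
      have h1 : kd (fixEnd (-movEnd (U ^ (p ^ N)))) 1 = 0 := by
        rw [kd, SpData.hker_minus_aux h2, pow_one, Polynomial.C_neg, Polynomial.C_1, sub_neg_eq_add, map_add,
          Polynomial.aeval_X, map_one, ← one_pow (p ^ N), ← add_pow_char_pow_of_commute (p := p) (h := Commute.one_right U)]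
        have : LinearMap.ker ((U + 1) ^ p ^ N) = ⊥ := by
          rw [LinearMap.ker_eq_bot]
          rw [Module.End.coe_pow]
          exact Function.Injective.iterate (LinearMap.ker_eq_bot.1 hinj) _
        rw [this, finrank_bot]
      rw [← congrFun hdk 1, H66.typeKer, Finset.sum_eq_zero_iff] at h1
      have h3 := h1 a (Finset.mem_univ _)
      have h4 := hd1 a
      omega
    · obtain ⟨a, ha⟩ := hs
      obtain ⟨hd1, hdk⟩ := dOf_spec (fixEnd (U ^ (p ^ N))) (fixEnd_isNilpotent _)
      have hker : ∀ k, 1 ≤ k → kd (fixEnd (U ^ (p ^ N))) k = finrank F (fixPart U) := fun k hk => by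
        rw [kd, finrank_ker_fixEnd]
        have e2 : (U ^ (p ^ N) - 1) ^ k = (U - 1) ^ (p ^ N * k) := by
          rw [← one_pow (p ^ N), ← sub_pow_char_pow_of_commute (p := p) (h := Commute.one_right U), one_pow, ← pow_mul]
        rw [e2]
        refine le_antisymm (Submodule.finrank_mono (Module.End.ker_pow_le_ker_pow_finrank (U - 1) _))
          (Submodule.finrank_mono fun x hx => ?_)
        obtain ⟨j, hj⟩ := Nat.exists_eq_add_of_le' (show finrank F V ≤ p ^ N * k from
          le_trans (by omega) (Nat.le_mul_of_pos_right _ hk))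
        rw [LinearMap.mem_ker, hj, pow_add, Module.End.mul_apply, LinearMap.mem_ker.1 hx, map_zero]
      have h12 : H66.typeKer (dOf (kd (fixEnd (U ^ (p ^ N))))).2 1 = H66.typeKer (dOf (kd (fixEnd (U ^ (p ^ N))))).2 2 := by
        rw [congrFun hdk, congrFun hdk, hker 1 le_rfl, hker 2 (by omega)]
      by_contra hne
      have h3 := hd1 a
      simp only [H66.typeKer] at h12
      exact absurd h12 (ne_of_lt (Finset.sum_lt_sum (fun i _ => min_le_min_right _ (by omega))
        ⟨a, Finset.mem_univ _, by omega⟩))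
  obtain ⟨k1, k2⟩ := key g e he1 he2
  have hLh : ∀ x, L (endHom Q (g * e) x) = endHom Q (g' * e') (L x) := fun x => by
    rw [map_mul, map_mul, Module.End.mul_apply, Module.End.mul_apply, hL, hint]
  have hLS : ∀ x, L (endHom Q ((g * e) ^ (p ^ N)) x) = endHom Q ((g' * e') ^ (p ^ N)) (L x) := fun x => by
    rw [map_pow, map_pow]
    have h := H66.intertwine_aeval (L := L.toLinearMap) hLh (Polynomial.X ^ (p ^ N)) x
    simpa using h
  have hsp : H5.spin Q ((g * e) ^ (p ^ N)) = H5.spin Q ((g' * e') ^ (p ^ N)) := by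
    obtain ⟨φ, hφ, hφT⟩ := OrthSplit.isIso_of_similar hp (isOSys_endHom hQ _) (isOSys_endHom hQ _) L hLS
      (fun s ho hx => by
        by_contra hne
        obtain rfl := k2 s hx
        exact OrthSplit.no_flip_plus hp (isOSys_endHom hQ _) (isOSys_endHom hQ _) L hLS ho hx hne
          (fun r _ hr1 hx' => absurd (k2 r hx') hr1) (fun r _ hx' => absurd hx' (k1 r)))
      (fun s _ hx => absurd hx (k1 s))
    obtain ⟨c, hc⟩ := exists_of_polar h2 φ hφ
    have hconj : c * (g * e) ^ (p ^ N) = (g' * e') ^ (p ^ N) * c := endHom_injective (LinearMap.ext fun x => by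
      rw [map_mul, map_mul, Module.End.mul_apply, Module.End.mul_apply, hc, hc, hφT])
    have h3 := congrArg (H5.spin Q) hconj
    rw [map_mul, map_mul, mul_comm (H5.spin Q c)] at h3
    exact mul_right_cancel h3
  have hpow : ∀ a : ℤˣ, a ^ (p ^ N) = a := fun a => by
    rcases Int.units_eq_one_or a with rfl | rfl
    · exact one_pow _
    · exact hodd.neg_one_pow
  rw [map_pow, map_pow, hpow, hpow, map_mul, map_mul, he, mul_neg, ← neg_mul] at hsp
  rw [mul_right_cancel hsp, neg_neg]

end Cfsg.Agent.H66.OrthSpin
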