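/-
Classes of involutions of `PGL_n(q)`, `q` odd.
-/
import Cfsg.Agent.H66.SemisimpleGL

set_option autoImplicit false

open Polynomial Matrix

namespace Cfsg.Agent.H66

universe u

variable {K : Type u} [Field K]

/-- Every factor of a decomposition divides an annihilating polynomial. -/
theorem IsDecomp.dvd_of_aeval_eq_zero {V : Type*} [AddCommGroup V] [Module K V] {ι : Type*}
    {f : Module.End K V} {p : ι → K[X]} {e : ι → ℕ} (hf : IsDecomp f p e) {s : K[X]}
    (h0 : aeval f s = 0) (i : ι) : p i ∣ s := by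
  classical
  obtain ⟨E, hE⟩ := hf.equiv
  have h := congrFun (hE s (E.symm (Pi.single i 1))) i
  rw [h0, LinearMap.zero_apply, map_zero, E.apply_symm_apply, Pi.smul_apply, Pi.single_eq_same,
    Pi.zero_apply] at h
  have h2 : Ideal.Quotient.mk (Ideal.span {p i ^ e i}) s = 0 := by
    rw [h]
    exact Algebra.algebraMap_eq_smul_one s
  exact (dvd_pow_self (p i) (by have := hf.pos i; omega)).trans
    ((Ideal.Quotient.eq_zero_iff_dvd _ _).1 h2)

/-- A matrix with square `lam` has its characteristic polynomial built from the factors of `X ^ 2 - lam`. -/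
theorem exists_prod_eq_charpoly_of_sq {n : ℕ} (h2 : (2 : K) ≠ 0) {A : Matrix (Fin n) (Fin n) K}
    {lam : K} (hl : lam ≠ 0) (hA : A * A = Matrix.scalar (Fin n) lam) :
    ∃ (ι : Type u) (_ : Fintype ι) (p : ι → K[X]),
      (∀ i, (p i).Monic ∧ Irreducible (p i) ∧ p i ∣ X ^ 2 - C lam) ∧ A.charpoly = ∏ i, p i := by
  obtain ⟨ι, hι, p, e, hf⟩ := exists_isDecomp (Matrix.toLin' A)
  have hs : Squarefree (X ^ 2 - C lam : K[X]) :=
    (separable_X_pow_sub_C lam (by exact_mod_cast h2) hl).squarefree
  have h0 : aeval (Matrix.toLin' A) (X ^ 2 - C lam : K[X]) = 0 := by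
    rw [aeval_toLin']
    have : aeval A (X ^ 2 - C lam : K[X]) = 0 := by
      simp [sq, hA, Matrix.algebraMap_eq_diagonal, Pi.algebraMap_def]
    rw [this, map_zero]
  refine ⟨ι, hι, p, fun i => ⟨hf.monic i, hf.irreducible i, hf.dvd_of_aeval_eq_zero h0 i⟩, ?_⟩
  rw [← Matrix.charpoly_toLin', hf.charpoly_eq]
  exact Finset.prod_congr rfl fun i _ => by rw [hf.exp_eq_one hs h0 i, pow_one]

theorem charpoly_of_sq_nonsquare {n : ℕ} (h2 : (2 : K) ≠ 0) {A : Matrix (Fin n) (Fin n) K}
    {lam : K} (hl : ¬ IsSquare lam) (hA : A * A = Matrix.scalar (Fin n) lam) :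
    Even n ∧ A.charpoly = (X ^ 2 - C lam) ^ (n / 2) := by
  classical
  obtain ⟨ι, _, p, hp, hprod⟩ :=
    exists_prod_eq_charpoly_of_sq h2 (fun h => hl (by rw [h]; exact IsSquare.zero)) hA
  have hirr : Irreducible (X ^ 2 - C lam : K[X]) :=
    X_pow_sub_C_irreducible_of_prime Nat.prime_two fun b hb => hl ⟨b, by rw [← hb, sq]⟩
  have he : ∀ i, p i = X ^ 2 - C lam := fun i =>
    eq_of_monic_of_associated (hp i).1 (monic_X_pow_sub_C lam two_ne_zero)
      ((hp i).2.1.associated_of_dvd hirr (hp i).2.2)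
  rw [Finset.prod_congr rfl fun i _ => he i, Finset.prod_const] at hprod
  have hd := congrArg natDegree hprod
  rw [Matrix.charpoly_natDegree_eq_dim, natDegree_pow, natDegree_X_pow_sub_C, Fintype.card_fin] at hd
  exact ⟨⟨Finset.univ.card (α := ι), by omega⟩, by rw [hprod]; congr 1; omega⟩

theorem charpoly_of_sq_one {n : ℕ} (h2 : (2 : K) ≠ 0) {A : Matrix (Fin n) (Fin n) K}
    (hA : A * A = 1) :
    ∃ b ≤ n, A.charpoly = (X - C (-1)) ^ b * (X - C 1) ^ (n - b) := by
  classical
  obtain ⟨ι, _, p, hp, hprod⟩ :=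
    exists_prod_eq_charpoly_of_sq h2 one_ne_zero (lam := (1 : K)) (by rw [hA, map_one])
  have he : ∀ i, ¬ p i = X - C (-1) → p i = X - C 1 := fun i hne => by
    have h := (hp i).2.2
    rw [show (X ^ 2 - C 1 : K[X]) = (X - C (-1)) * (X - C 1) by simp; ring] at h
    rcases (hp i).2.1.prime.dvd_or_dvd h with h | h
    · exact absurd (eq_of_monic_of_associated (hp i).1 (monic_X_sub_C _)
        ((hp i).2.1.associated_of_dvd (irreducible_X_sub_C _) h)) hne
    · exact eq_of_monic_of_associated (hp i).1 (monic_X_sub_C _)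
        ((hp i).2.1.associated_of_dvd (irreducible_X_sub_C _) h)
  rw [← Finset.prod_filter_mul_prod_filter_not Finset.univ (fun i => p i = X - C (-1)),
    Finset.prod_congr rfl (fun i hi => (Finset.mem_filter.1 hi).2),
    Finset.prod_congr rfl (fun i hi => he i (Finset.mem_filter.1 hi).2),
    Finset.prod_const, Finset.prod_const] at hprod
  have hd := congrArg natDegree hprod
  rw [Matrix.charpoly_natDegree_eq_dim, Fintype.card_fin,
    ((monic_X_sub_C _).pow _).natDegree_mul ((monic_X_sub_C _).pow _), natDegree_pow, natDegree_pow,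
    natDegree_X_sub_C, natDegree_X_sub_C, mul_one, mul_one] at hd
  refine ⟨(Finset.univ.filter fun i => p i = X - C (-1)).card, by omega, hprod.trans ?_⟩
  congr 2
  omega

theorem charpoly_diag_two (n b : ℕ) (x y : K) (hb : b ≤ n) :
    (Matrix.diagonal fun i : Fin n => if (i : ℕ) < b then x else y).charpoly =
      (X - C x) ^ b * (X - C y) ^ (n - b) := by
  rw [Matrix.charpoly_diagonal]
  simp only [apply_ite (fun z : K => X - C z), Finset.prod_ite, Finset.prod_const]
  have h := Finset.card_filter_add_card_filter_not (s := (Finset.univ : Finset (Fin n))) (fun i : Fin n => (i : ℕ) < b)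
  rw [Fin.card_filter_val_lt, Nat.min_eq_right hb, Finset.card_univ, Fintype.card_fin] at h
  rw [Fin.card_filter_val_lt, Nat.min_eq_right hb]
  congr 2
  omega

theorem eq_of_two_linear_powers {x y : K} (hxy : x ≠ y) {i k j l : ℕ}
    (h : (X - C x) ^ i * (X - C y) ^ k = (X - C x) ^ j * (X - C y) ^ l) : i = j := by
  classical
  have := congrArg (fun p : K[X] => p.roots.count x) h
  simpa [roots_mul, pow_ne_zero, X_sub_C_ne_zero, roots_pow, Multiset.count_singleton, hxy,
    Ne.symm hxy] using this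

section Quotient

variable {n : ℕ}

local notation "PGLQ" => GL (Fin n) K ⧸ Subgroup.center (GL (Fin n) K)

theorem mk_eq_mk_iff_scalar (g h : GL (Fin n) K) :
    (QuotientGroup.mk g : PGLQ) = QuotientGroup.mk h ↔
      ∃ c : Kˣ, g = h * GeneralLinearGroup.scalar (Fin n) c := by
  rw [eq_comm, QuotientGroup.eq, GeneralLinearGroup.center_eq_range_scalar, MonoidHom.mem_range]
  constructor
  · rintro ⟨c, hc⟩; exact ⟨c, by rw [hc, mul_inv_cancel_left]⟩
  · rintro ⟨c, rfl⟩; exact ⟨c, by rw [inv_mul_cancel_left]⟩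

theorem isConj_mk_iff (g h : GL (Fin n) K) :
    IsConj (QuotientGroup.mk g : PGLQ) (QuotientGroup.mk h) ↔
      ∃ (x : GL (Fin n) K) (c : Kˣ), x * g * x⁻¹ = h * GeneralLinearGroup.scalar (Fin n) c := by
  rw [isConj_iff]
  constructor
  · rintro ⟨y, hy⟩
    obtain ⟨x, rfl⟩ := QuotientGroup.mk_surjective y
    rw [← QuotientGroup.mk_inv, ← QuotientGroup.mk_mul, ← QuotientGroup.mk_mul,
      mk_eq_mk_iff_scalar] at hy
    exact ⟨x, hy⟩
  · rintro ⟨x, hx⟩
    refine ⟨QuotientGroup.mk x, ?_⟩
    rw [← QuotientGroup.mk_inv, ← QuotientGroup.mk_mul, ← QuotientGroup.mk_mul, mk_eq_mk_iff_scalar]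
    exact hx

theorem scalar_comm (c : Kˣ) (g : GL (Fin n) K) :
    GeneralLinearGroup.scalar (Fin n) c * g = g * GeneralLinearGroup.scalar (Fin n) c :=
  (Subgroup.mem_center_iff.1 (GeneralLinearGroup.center_eq_range_scalar (n := Fin n) (R := K) ▸
    ⟨c, rfl⟩ : GeneralLinearGroup.scalar (Fin n) c ∈ Subgroup.center _) g).symm

theorem mul_scalar_sq (g : GL (Fin n) K) (c : Kˣ) :
    (g * GeneralLinearGroup.scalar (Fin n) c) * (g * GeneralLinearGroup.scalar (Fin n) c) =
      g * g * GeneralLinearGroup.scalar (Fin n) (c * c) := by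
  rw [map_mul, mul_assoc g, ← mul_assoc (GeneralLinearGroup.scalar (Fin n) c) g, scalar_comm]
  group

theorem coe_scalarGL (c : Kˣ) :
    (GeneralLinearGroup.scalar (Fin n) c : Matrix (Fin n) (Fin n) K) = Matrix.scalar (Fin n) (c : K) := rfl

theorem scalarGL_injective (hn : 0 < n) : Function.Injective (GeneralLinearGroup.scalar (Fin n) (R := K)) := by
  intro a b h
  have := congrArg (fun g : GL (Fin n) K => (g : Matrix (Fin n) (Fin n) K) ⟨0, hn⟩ ⟨0, hn⟩) h
  simpa [coe_scalarGL, Units.ext_iff] using this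

theorem sq_conj (x g : GL (Fin n) K) {lam : Kˣ} (hg : g * g = GeneralLinearGroup.scalar (Fin n) lam) :
    (x * g * x⁻¹) * (x * g * x⁻¹) = GeneralLinearGroup.scalar (Fin n) lam := by
  rw [show (x * g * x⁻¹) * (x * g * x⁻¹) = x * (g * g) * x⁻¹ by group, hg, ← scalar_comm,
    mul_inv_cancel_right]

theorem coprime_of_sq_scalar [Fintype K] (p : ℕ) [Fact p.Prime] [CharP K p] (hp : p ≠ 2)
    {g : GL (Fin n) K} {lam : Kˣ} (hg : g * g = GeneralLinearGroup.scalar (Fin n) lam) :
    (orderOf g).Coprime p := by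
  classical
  have h1 : g ^ (2 * (Fintype.card K - 1)) = 1 := by
    rw [pow_mul, sq, hg, ← map_pow, ← Fintype.card_units, pow_card_eq_one, map_one]
  refine Nat.Coprime.coprime_dvd_left (orderOf_dvd_of_pow_eq_one h1) (Nat.Coprime.mul_left ?_ ?_)
  · exact (Nat.coprime_primes Nat.prime_two Fact.out).2 (Ne.symm hp)
  · obtain ⟨m, hp', hq⟩ := FiniteField.card K p
    refine (hp'.coprime_iff_not_dvd.2 fun hd => ?_).symm
    have hle : 1 ≤ Fintype.card K := Fintype.card_pos
    have h3 : p ∣ Fintype.card K := hq ▸ dvd_pow_self p m.pos.ne'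
    have := Nat.dvd_sub h3 hd
    rw [Nat.sub_sub_self hle] at this
    exact hp'.not_dvd_one this

/-- `diag(x, …, x, y, …, y)`. -/
noncomputable def diagTwo (n b : ℕ) (x y : Kˣ) : GL (Fin n) K :=
  GeneralLinearGroup.mkOfDetNeZero (Matrix.diagonal fun i : Fin n => if (i : ℕ) < b then (x : K) else y)
    (by
      rw [Matrix.det_diagonal]
      exact Finset.prod_ne_zero_iff.2 fun i _ => by split_ifs <;> exact Units.ne_zero _)

theorem coe_diagTwo (b : ℕ) (x y : Kˣ) :
    (diagTwo n b x y : Matrix (Fin n) (Fin n) K) =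
      Matrix.diagonal fun i : Fin n => if (i : ℕ) < b then (x : K) else y := rfl

theorem diagTwo_mul_scalar (b : ℕ) (x y c : Kˣ) :
    diagTwo n b x y * GeneralLinearGroup.scalar (Fin n) c = diagTwo n b (x * c) (y * c) := by
  apply Units.ext
  rw [Units.val_mul, coe_diagTwo, coe_diagTwo, coe_scalarGL, Matrix.scalar_apply, Matrix.diagonal_mul_diagonal]
  congr 1
  funext i
  split_ifs <;> simp

theorem diagTwo_sq (b : ℕ) :
    diagTwo n b (-1 : Kˣ) 1 * diagTwo n b (-1 : Kˣ) 1 = GeneralLinearGroup.scalar (Fin n) 1 := by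
  apply Units.ext
  rw [Units.val_mul, coe_diagTwo, Matrix.diagonal_mul_diagonal, coe_scalarGL, Matrix.scalar_apply]
  congr 1
  funext i
  split_ifs <;> simp

/-- Count of involution classes of `PGL_n(q)`. -/
theorem card_involution_classes [Fintype K] (hq : Odd (Fintype.card K)) (hn : 2 ≤ n) :
    Nat.card {C : ConjClasses PGLQ // ∃ g, ConjClasses.mk g = C ∧ orderOf g = 2} =
      n / 2 + (if Even n then 1 else 0) := by
  classical
  obtain ⟨p, hchar⟩ := CharP.exists K
  have hpp : p.Prime := (CharP.char_is_prime_or_zero K p).resolve_right fun h => by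
    subst h; have := CharP.charP_to_charZero K; exact not_finite K
  have := Fact.mk hpp
  have hp : p ≠ 2 := by
    rintro rfl
    obtain ⟨m, -, hm⟩ := FiniteField.card K 2
    exact Nat.not_even_iff_odd.2 hq (hm ▸ (Nat.even_pow.2 ⟨even_two, m.pos.ne'⟩))
  have h2 : (2 : K) ≠ 0 := Ring.two_ne_zero (fun h => hp ((ringChar.eq K p).symm.trans h))
  have hne : (-1 : K) ≠ 1 := fun h => h2 (by rw [← one_add_one_eq_two]; nth_rewrite 2 [← h]; simp)
  obtain ⟨mu, hmu⟩ := FiniteField.exists_nonsquare (F := K) (fun h => hp ((ringChar.eq K p).symm.trans h))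
  have hmu0 : mu ≠ 0 := fun h => hmu (h ▸ IsSquare.zero)
  have hE : Even n → ∃ g : GL (Fin n) K, g * g = GeneralLinearGroup.scalar (Fin n) (Units.mk0 mu hmu0) := by
    rintro ⟨k, hk⟩
    let e : Fin 2 × Fin k ≃ Fin n := finProdFinEquiv.trans (finCongr (by omega))
    let A : Matrix (Fin n) (Fin n) K :=
      Matrix.reindex e e (Matrix.blockDiagonal fun _ : Fin k => !![(0 : K), 1; mu, 0])
    have hA : A * A = Matrix.scalar (Fin n) mu := by
      simp only [A, Matrix.reindex_apply]
      rw [Matrix.submatrix_mul_equiv, ← Matrix.blockDiagonal_mul]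
      ext i j
      simp only [Matrix.submatrix_apply, Matrix.blockDiagonal_apply, Matrix.scalar_apply,
        Matrix.diagonal_apply]
      have hij : i = j ↔ (e.symm i).1 = (e.symm j).1 ∧ (e.symm i).2 = (e.symm j).2 := by
        rw [← Prod.ext_iff, e.symm.injective.eq_iff]
      generalize (e.symm i).2 = a, (e.symm i).1 = c, (e.symm j).2 = b, (e.symm j).1 = d at hij ⊢
      by_cases hab : a = b
      · fin_cases c <;> fin_cases d <;> simp [Matrix.mul_apply, Fin.sum_univ_two, hij, hab]
      · simp [hij, hab]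
    refine ⟨GeneralLinearGroup.mkOfDetNeZero A fun h => ?_, Units.ext hA⟩
    have := congrArg Matrix.det hA
    rw [Matrix.det_mul, h, mul_zero, Matrix.scalar_apply, Matrix.det_diagonal] at this
    exact Finset.prod_ne_zero_iff.2 (fun _ _ => hmu0) this.symm
  let R := Fin (n / 2) ⊕ {_u : Unit // Even n}
  let rep : R → GL (Fin n) K := fun r =>
    Sum.elim (fun j : Fin (n / 2) => diagTwo n (j + 1) (-1) 1) (fun u : {_u : Unit // Even n} => (hE u.2).choose) r
  have hrepE : ∀ u : {_u : Unit // Even n}, rep (.inr u) * rep (.inr u) =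
      GeneralLinearGroup.scalar (Fin n) (Units.mk0 mu hmu0) := fun u => (hE u.2).choose_spec
  have hinj0 := scalarGL_injective (K := K) (n := n) (by omega)
  have hord : ∀ r, orderOf (QuotientGroup.mk (rep r) : PGLQ) = 2 := fun r => by
    refine orderOf_eq_prime ?_ ?_
    · rw [sq, ← QuotientGroup.mk_mul, ← QuotientGroup.mk_one, mk_eq_mk_iff_scalar]
      rcases r with j | u
      · exact ⟨1, by rw [one_mul]; exact diagTwo_sq _⟩
      · exact ⟨_, by rw [one_mul]; exact hrepE u⟩
    · rw [← QuotientGroup.mk_one, Ne, mk_eq_mk_iff_scalar]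
      rintro ⟨c, hc⟩
      rw [one_mul] at hc
      rcases r with j | u
      · have h1 := congrArg (fun g : GL (Fin n) K => (g : Matrix (Fin n) (Fin n) K) ⟨0, by omega⟩ ⟨0, by omega⟩) hc
        have h2' := congrArg (fun g : GL (Fin n) K => (g : Matrix (Fin n) (Fin n) K) ⟨n - 1, by omega⟩ ⟨n - 1, by omega⟩) hc
        have := j.2
        simp only [rep, Sum.elim_inl, coe_diagTwo, coe_scalarGL, Matrix.scalar_apply,
          Matrix.diagonal_apply_eq] at h1 h2'
        rw [if_pos (show 0 < (j : ℕ) + 1 by omega)] at h1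
        rw [if_neg (show ¬ n - 1 < (j : ℕ) + 1 by omega)] at h2'
        exact hne (by simpa using h1.trans h2'.symm)
      · have h1 := hrepE u
        rw [hc, ← map_mul] at h1
        exact hmu ⟨c, by simpa [Units.ext_iff] using (congrArg Units.val (hinj0 h1)).symm⟩
  let cls : R → {C : ConjClasses PGLQ // ∃ g, ConjClasses.mk g = C ∧ orderOf g = 2} :=
    fun r => ⟨ConjClasses.mk (QuotientGroup.mk (rep r)), _, rfl, hord r⟩
  suffices Function.Bijective cls by
    rw [← Nat.card_eq_of_bijective cls this, Nat.card_sum, Nat.card_eq_fintype_card (α := Fin (n / 2)),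
      Fintype.card_fin]
    congr 1
    split_ifs with h
    · have : Unique {_u : Unit // Even n} := ⟨⟨⟨(), h⟩⟩, fun _ => Subsingleton.elim _ _⟩
      exact Nat.card_unique
    · have : IsEmpty {_u : Unit // Even n} := ⟨fun u => h u.2⟩
      exact Nat.card_of_isEmpty
  refine ⟨fun r r' hrr => ?_, ?_⟩
  · have h := (isConj_mk_iff _ _).1 (ConjClasses.mk_eq_mk_iff_isConj.1 (congrArg Subtype.val hrr))
    obtain ⟨x, c, hx⟩ := h
    rcases r with j | u <;> rcases r' with j' | u'
    · simp only [rep, Sum.elim_inl] at hx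
      have hsq := sq_conj x _ (diagTwo_sq (K := K) (n := n) (j + 1))
      rw [hx, mul_scalar_sq, diagTwo_sq, ← map_mul, one_mul] at hsq
      have hch := charpoly_eq_of_isConj (Units.coeHom _ |>.map_isConj (isConj_iff.2 ⟨x, hx⟩))
      simp only [Units.coeHom_apply, diagTwo_mul_scalar, coe_diagTwo] at hch
      have := j.2
      have := j'.2
      rw [charpoly_diag_two n _ _ _ (by omega), charpoly_diag_two n _ _ _ (by omega)] at hch
      have hc : (c : K) = 1 ∨ (c : K) = -1 :=
        mul_self_eq_one_iff.1 (by simpa [Units.ext_iff] using congrArg Units.val (hinj0 hsq))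
      apply congrArg Sum.inl
      apply Fin.ext
      rcases hc with hc | hc
      · simp only [Units.val_mul, Units.val_neg, Units.val_one, hc, mul_one] at hch
        have := eq_of_two_linear_powers hne hch
        omega
      · simp only [Units.val_mul, Units.val_neg, Units.val_one, hc, mul_neg, mul_one, neg_neg, neg_mul] at hch
        rw [mul_comm ((X - C (1 : K)) ^ _)] at hch
        have := eq_of_two_linear_powers hne hch
        omega
    · exfalso
      have hsq := sq_conj x _ (diagTwo_sq (K := K) (n := n) (j + 1))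
      simp only [rep, Sum.elim_inl] at hx
      rw [hx, mul_scalar_sq] at hsq
      change rep (.inr u') * rep (.inr u') * _ = _ at hsq
      rw [hrepE, ← map_mul] at hsq
      have := congrArg Units.val (hinj0 hsq)
      simp only [Units.val_mul, Units.val_mk0, Units.val_one] at this
      exact hmu ⟨(c : K)⁻¹, by field_simp; linear_combination this⟩
    · exfalso
      have hsq := sq_conj x _ (hrepE u)
      rw [show x * rep (.inr u) * x⁻¹ = _ from hx, mul_scalar_sq] at hsq
      simp only [rep, Sum.elim_inl, diagTwo_sq, ← map_mul] at hsq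
      have := congrArg Units.val (hinj0 hsq)
      simp only [Units.val_mul, Units.val_mk0, Units.val_one, one_mul] at this
      exact hmu ⟨c, this.symm⟩
    · exact congrArg Sum.inr (Subsingleton.elim _ _)
  · rintro ⟨-, g', rfl, hg'⟩
    obtain ⟨g, rfl⟩ := QuotientGroup.mk_surjective g'
    have hsq2 : (QuotientGroup.mk (g * g) : PGLQ) = 1 := by
      rw [QuotientGroup.mk_mul, ← sq, ← hg']; exact pow_orderOf_eq_one _
    rw [← QuotientGroup.mk_one, mk_eq_mk_iff_scalar] at hsq2
    obtain ⟨lam, hlam⟩ := hsq2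
    rw [one_mul] at hlam
    have hnc : ∀ c, g ≠ GeneralLinearGroup.scalar (Fin n) c := fun c hc => by
      have : (QuotientGroup.mk g : PGLQ) = QuotientGroup.mk 1 :=
        (mk_eq_mk_iff_scalar g 1).2 ⟨c, by rw [one_mul, hc]⟩
      rw [this, QuotientGroup.mk_one, orderOf_one] at hg'
      omega
    suffices ∃ r, ∃ c : Kˣ, IsConj (g * GeneralLinearGroup.scalar (Fin n) c) (rep r) by
      obtain ⟨r, c, hc⟩ := this
      refine ⟨r, Subtype.ext (ConjClasses.mk_eq_mk_iff_isConj.2 ?_)⟩
      obtain ⟨x, hx⟩ := isConj_iff.1 hc.symm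
      exact (isConj_mk_iff _ _).2 ⟨x, c, hx⟩
    by_cases hl : IsSquare (lam : K)
    · obtain ⟨m, hm⟩ := hl
      have hm0 : m ≠ 0 := fun h => lam.ne_zero (by rw [hm, h, mul_zero])
      set d : Kˣ := (Units.mk0 m hm0)⁻¹ with hd
      set h := g * GeneralLinearGroup.scalar (Fin n) d with hh
      have hh2 : h * h = GeneralLinearGroup.scalar (Fin n) 1 := by
        rw [hh, mul_scalar_sq, hlam, ← map_mul]
        congr 1
        exact Units.ext (by simp [hd, hm]; field_simp)
      obtain ⟨b, hb, hch⟩ := charpoly_of_sq_one h2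
        (A := (h : Matrix (Fin n) (Fin n) K)) (by rw [← Units.val_mul, hh2, map_one]; rfl)
      have key : ∀ (b : ℕ) (e : Kˣ), e * e = 1 → b ≤ n →
          (h : Matrix (Fin n) (Fin n) K).charpoly = (X - C ((-1 : Kˣ) * e : Kˣ).1) ^ b * (X - C (((1 : Kˣ) * e : Kˣ) : K)) ^ (n - b) →
          IsConj h (diagTwo n b (-1) 1 * GeneralLinearGroup.scalar (Fin n) e) := fun b e he hb hc => by
        refine isConj_of_charpoly_eq p (coprime_of_sq_scalar p hp hh2) (coprime_of_sq_scalar p hp (lam := 1) ?_) ?_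
        · rw [mul_scalar_sq, diagTwo_sq, ← map_mul, he, one_mul]
        · rw [hc, diagTwo_mul_scalar, coe_diagTwo, charpoly_diag_two n b _ _ hb]
      obtain ⟨b', e, hb', hc'⟩ : ∃ (b' : ℕ) (e : Kˣ), 2 * b' ≤ n ∧
          IsConj h (diagTwo n b' (-1) 1 * GeneralLinearGroup.scalar (Fin n) e) ∧ e * e = 1 := by
        rcases le_or_gt (2 * b) n with h2b | h2b
        · exact ⟨b, 1, h2b, key b 1 (one_mul 1) hb (by simpa using hch), one_mul 1⟩
        · refine ⟨n - b, -1, by omega, key _ _ (by simp) (by omega) ?_, by simp⟩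
          rw [hch, mul_comm, show n - (n - b) = b by omega]
          simp
      obtain ⟨x, hx⟩ := isConj_iff.1 hc'.1
      have hb0 : b' ≠ 0 := by
        rintro rfl
        have : diagTwo n 0 (-1 : Kˣ) 1 = 1 := Units.ext (by simp [coe_diagTwo])
        rw [this, one_mul] at hx
        refine hnc (e * d⁻¹) ?_
        have h4 : h = x⁻¹ * GeneralLinearGroup.scalar (Fin n) e * x := by rw [← hx]; group
        rw [mul_assoc, scalar_comm, inv_mul_cancel_left, hh, ← eq_mul_inv_iff_mul_eq, ← map_inv, ← map_mul] at h4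
        exact h4
      refine ⟨Sum.inl ⟨b' - 1, by omega⟩, d * e, isConj_iff.2 ⟨x, ?_⟩⟩
      simp only [rep, Sum.elim_inl, Nat.sub_add_cancel (Nat.one_le_iff_ne_zero.2 hb0)]
      rw [map_mul, ← mul_assoc g, ← hh, show x * (h * GeneralLinearGroup.scalar (Fin n) e) * x⁻¹ =
        x * h * (GeneralLinearGroup.scalar (Fin n) e * x⁻¹) by group, scalar_comm,
        show x * h * (x⁻¹ * GeneralLinearGroup.scalar (Fin n) e) = (x * h * x⁻¹) * GeneralLinearGroup.scalar (Fin n) e by group,
        hx, mul_assoc, ← map_mul, hc'.2, map_one, mul_one]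
    · obtain ⟨hev, hch⟩ := charpoly_of_sq_nonsquare h2 hl (congrArg Units.val hlam)
      have hsq : IsSquare (mu / (lam : K)) := by
        have h1 : quadraticChar K mu = -1 := quadraticChar_neg_one_iff_not_isSquare.2 hmu
        have h3 : quadraticChar K (lam : K) = -1 := quadraticChar_neg_one_iff_not_isSquare.2 hl
        have h4 : quadraticChar K (mu * (lam : K)) = 1 := by rw [map_mul, h1, h3]; norm_num
        obtain ⟨c, hc⟩ := (quadraticChar_one_iff_isSquare (mul_ne_zero hmu0 lam.ne_zero)).1 h4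
        exact ⟨c / lam, by field_simp; linear_combination hc⟩
      obtain ⟨c, hc⟩ := hsq
      have hc0 : c ≠ 0 := fun h => by simp [h, hmu0] at hc
      set h := g * GeneralLinearGroup.scalar (Fin n) (Units.mk0 c hc0) with hh
      have hh2 : h * h = GeneralLinearGroup.scalar (Fin n) (Units.mk0 mu hmu0) := by
        rw [hh, mul_scalar_sq, hlam, ← map_mul]
        congr 1
        refine Units.ext ?_
        simp [← hc]
        field_simp
      refine ⟨Sum.inr ⟨(), hev⟩, _, isConj_of_charpoly_eq p (coprime_of_sq_scalar p hp hh2)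
        (coprime_of_sq_scalar p hp (hrepE _)) ?_⟩
      rw [(charpoly_of_sq_nonsquare h2 hmu (congrArg Units.val hh2)).2,
        (charpoly_of_sq_nonsquare h2 hmu (congrArg Units.val (hrepE ⟨(), hev⟩))).2]

end Quotient

end Cfsg.Agent.H66
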