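/-
Elements of order `r p` in `PSL_n(q)`.
-/
import Cfsg.Agent.H66.SylowLarge
import Cfsg.Agent.H66.PGLInvolutions

set_option autoImplicit false

open Polynomial Matrix Module

namespace Cfsg.Agent.H66

/-- Lifting elements of coprime order through a quotient of bounded exponent. -/
theorem exists_pow_lift {G : Type*} [Group G] {Z : Subgroup G} [Z.Normal] {M : ℕ} (hM : ∀ z ∈ Z, z ^ M = 1)
    {N : ℕ} (hco : N.Coprime M) (x : G ⧸ Z) (hx : x ^ N = 1) :
    ∃ X : G, (QuotientGroup.mk X : G ⧸ Z) = x ∧ X ^ N = 1 := by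
  obtain ⟨y, rfl⟩ := QuotientGroup.mk_surjective x
  obtain ⟨s, hs1, hs2⟩ := Nat.chineseRemainder hco 1 0
  refine ⟨y ^ s, ?_, ?_⟩
  · rw [QuotientGroup.mk_pow, pow_eq_pow_mod s hx, hs1, ← pow_eq_pow_mod 1 hx, pow_one]
  · rw [← QuotientGroup.mk_pow, QuotientGroup.eq_one_iff] at hx
    obtain ⟨m, hm⟩ := Nat.modEq_zero_iff_dvd.1 hs2
    rw [← pow_mul, mul_comm, pow_mul, hm, pow_mul, hM _ hx, one_pow]

variable {F : Type*} [Field F] [Fintype F]

theorem sl_center_pow {n : ℕ} (hn : 1 ≤ n) {z : Matrix.SpecialLinearGroup (Fin n) F}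
    (hz : z ∈ Subgroup.center (Matrix.SpecialLinearGroup (Fin n) F)) :
    z ^ (Fintype.card F - 1) = 1 := by
  obtain ⟨c, hc, hcz⟩ := Matrix.SpecialLinearGroup.mem_center_iff.1 hz
  have hc0 : c ≠ 0 := fun h => by
    rw [h, Fintype.card_fin, zero_pow (by omega)] at hc
    exact zero_ne_one hc
  apply Subtype.ext
  rw [Matrix.SpecialLinearGroup.coe_pow, ← hcz, ← map_pow, FiniteField.pow_card_sub_one_eq_one c hc0,
    map_one]
  rfl

theorem prime_coprime_card_sub_one {r : ℕ} (hr : r.Prime) (h : ¬ r ∣ Fintype.card F - 1) :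
    r.Coprime (Fintype.card F - 1) := hr.coprime_iff_not_dvd.2 h

theorem char_not_dvd_card_sub_one (p : ℕ) [Fact p.Prime] [CharP F p] : ¬ p ∣ Fintype.card F - 1 := by
  obtain ⟨m, hp, hq⟩ := FiniteField.card F p
  intro hd
  have h3 : p ∣ Fintype.card F := hq ▸ dvd_pow_self p m.pos.ne'
  have := Nat.dvd_sub h3 hd
  rw [Nat.sub_sub_self Fintype.card_pos] at this
  exact hp.not_dvd_one this

theorem not_dvd_card_of_prime_ne (p : ℕ) [Fact p.Prime] [CharP F p] {r : ℕ} (hr : r.Prime) (hrp : r ≠ p) :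
    ¬ r ∣ Fintype.card F := by
  obtain ⟨m, hp, hq⟩ := FiniteField.card F p
  exact fun h => hrp ((Nat.prime_dvd_prime_iff_eq hr hp).1 (hr.dvd_of_dvd_pow (hq ▸ h)))

/-- A fixed-point-free operator of prime order lives in dimensions divisible by the order of `q`. -/
theorem orderOf_dvd_finrank_of_fpf {r : ℕ} [Fact r.Prime] {W : Type*} [AddCommGroup W] [Module F W]
    [FiniteDimensional F W] (f : Module.End F W) (hf : f ^ r = 1) (hfix : ∀ w, f w = w → w = 0) :
    orderOf (Fintype.card F : ZMod r) ∣ finrank F W := by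
  have hr : r.Prime := Fact.out
  have : Finite W := Module.finite_of_finite F
  have h1 : f * f ^ (r - 1) = 1 := by rw [← pow_succ', Nat.sub_add_cancel hr.pos, hf]
  have h2 : f ^ (r - 1) * f = 1 := by rw [← pow_succ, Nat.sub_add_cancel hr.pos, hf]
  let σ : Equiv.Perm W :=
    ⟨f, (f ^ (r - 1) : Module.End F W), fun w => LinearMap.congr_fun h2 w, fun w => LinearMap.congr_fun h1 w⟩
  have hσr : σ ^ r = 1 := by
    have key : ∀ i : ℕ, ∀ w, (σ ^ i) w = (f ^ i) w := by
      intro i
      induction i with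
      | zero => simp
      | succ i ih => intro w; rw [pow_succ', pow_succ', Equiv.Perm.mul_apply, Module.End.mul_apply, ih]; rfl
    exact Equiv.ext fun w => by rw [key, hf]; rfl
  have hP : IsPGroup r (Subgroup.zpowers σ) := by
    rcases hr.eq_one_or_self_of_dvd _ (orderOf_dvd_of_pow_eq_one hσr) with h | h
    · exact IsPGroup.of_card (n := 0) (by rw [Nat.card_zpowers, h, pow_zero])
    · exact IsPGroup.of_card (n := 1) (by rw [Nat.card_zpowers, h, pow_one])
  have hmod := hP.card_modEq_card_fixedPoints W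
  have hfp : Nat.card (MulAction.fixedPoints (Subgroup.zpowers σ) W) = 1 := by
    rw [Nat.card_eq_one_iff_exists]
    refine ⟨⟨0, ?_⟩, fun w => Subtype.ext (hfix w.1 (w.2 ⟨σ, Subgroup.mem_zpowers σ⟩))⟩
    rintro ⟨g, hg⟩
    obtain ⟨i, rfl⟩ := (Submonoid.mem_powers_iff _ _).1 ((mem_powers_iff_mem_zpowers).2 hg)
    show (σ ^ i) 0 = 0
    induction i with
    | zero => rfl
    | succ i ih =>
      rw [pow_succ', Equiv.Perm.mul_apply, ih (Subgroup.pow_mem _ (Subgroup.mem_zpowers σ) i)]
      exact map_zero f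
  rw [hfp, Module.natCard_eq_pow_finrank (K := F), Nat.card_eq_fintype_card] at hmod
  exact (dvd_pow_sub_one_iff Fintype.card_pos _).1
    ((Nat.modEq_iff_dvd' (Nat.one_le_pow _ _ Fintype.card_pos)).1 hmod.symm)

omit [Fintype F] in
/-- A nilpotent operator kills a non-zero vector of each non-zero invariant subspace. -/
theorem exists_ker_of_nilpotent {V : Type*} [AddCommGroup V] [Module F V] {N : Module.End F V}
    (hN : IsNilpotent N) (Y : Submodule F V) (hY : Y ≠ ⊥) (hYN : ∀ y ∈ Y, N y ∈ Y) :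
    ∃ y ∈ Y, y ≠ 0 ∧ N y = 0 := by
  obtain ⟨m, hm⟩ := hN
  obtain ⟨y, hy, hy0⟩ := Submodule.exists_mem_ne_zero_of_ne_bot hY
  have key : ∀ i, ∀ y ∈ Y, y ≠ 0 → (N ^ i) y = 0 → ∃ z ∈ Y, z ≠ 0 ∧ N z = 0 := by
    intro i
    induction i with
    | zero => intro y _ hy0 h; simp at h; exact absurd h hy0
    | succ i ih =>
      intro y hy hy0 h
      by_cases hNy : N y = 0
      · exact ⟨y, hy, hy0, hNy⟩
      · exact ih (N y) (hYN y hy) hNy (by rwa [pow_succ, Module.End.mul_apply] at h)
  exact key m y hy hy0 (by rw [hm]; rfl)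

/-- No non-trivial unipotent commutes with an element of order `r` whose primitive degree is large. -/
theorem unipotent_commute_eq_one {r : ℕ} [Fact r.Prime] (hr0 : (r : F) ≠ 0) {n : ℕ}
    {A B : Matrix (Fin n) (Fin n) F} (hk : n ≤ orderOf (Fintype.card F : ZMod r) + 1)
    (hk2 : 2 ≤ orderOf (Fintype.card F : ZMod r)) (hB : B ^ r = 1) (hB1 : B ≠ 1) (hA : IsNilpotent (A - 1))
    (hAB : A * B = B * A) : A = 1 := by
  set k := orderOf (Fintype.card F : ZMod r) with hkdef
  set b : Module.End F (Fin n → F) := Matrix.toLinAlgEquiv' B with hb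
  set N : Module.End F (Fin n → F) := Matrix.toLinAlgEquiv' (A - 1) with hNdef
  have hbr : b ^ r = 1 := by rw [hb, ← map_pow, hB, map_one]
  have hNn : IsNilpotent N := hA.map _
  have hNb : N * b = b * N := by
    rw [hb, hNdef, ← map_mul, ← map_mul, sub_mul, mul_sub, hAB, one_mul, mul_one]
  have hNb' : ∀ v, N (b v) = b (N v) := fun v => LinearMap.congr_fun hNb v
  set U := LinearMap.ker (b - 1) with hU
  set W := LinearMap.range (b - 1) with hW
  have hUW : ∀ w ∈ W, b w = w → w = 0 := by
    rintro w ⟨v, hv⟩ hw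
    have h1 : (∑ i ∈ Finset.range r, b ^ i) * (b - 1) = 0 := by
      rw [geom_sum_mul, hbr, sub_self]
    have h2 : ∀ i : ℕ, (b ^ i) w = w := fun i => by
      induction i with
      | zero => rfl
      | succ i ih => rw [pow_succ, Module.End.mul_apply, hw, ih]
    have h3 := LinearMap.congr_fun h1 v
    rw [Module.End.mul_apply, hv, LinearMap.sum_apply, Finset.sum_congr rfl fun i _ => h2 i,
      Finset.sum_const, Finset.card_range, ← Nat.cast_smul_eq_nsmul F] at h3
    exact (smul_eq_zero.1 h3).resolve_left hr0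
  have hdimY : ∀ Y : Submodule F (Fin n → F), Y ≤ W → (∀ y ∈ Y, b y ∈ Y) → k ∣ finrank F Y := by
    intro Y hYW hY
    refine orderOf_dvd_finrank_of_fpf (b.restrict hY) ?_ fun w hw => ?_
    · rw [Module.End.pow_restrict]
      refine LinearMap.ext fun w => Subtype.ext ?_
      simp [hbr]
    · exact Subtype.ext (hUW w.1 (hYW w.2) (congrArg Subtype.val hw))
  have hWb : ∀ w ∈ W, b w ∈ W := by
    rintro w ⟨v, rfl⟩
    exact ⟨b v, by simp⟩
  have hWN : ∀ w ∈ W, N w ∈ W := by
    rintro w ⟨v, rfl⟩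
    exact ⟨N v, by simp [hNb']⟩
  have hUN : ∀ w ∈ U, N w ∈ U := fun w hw => by
    simp only [hU, LinearMap.mem_ker, LinearMap.sub_apply, Module.End.one_apply, sub_eq_zero] at hw ⊢
    rw [← hNb', hw]
  have hW0 : W ≠ ⊥ := fun h => hB1 (by
    rw [hW, LinearMap.range_eq_bot, sub_eq_zero, hb, ← map_one Matrix.toLinAlgEquiv'] at h
    exact Matrix.toLinAlgEquiv'.injective h)
  have hsum : finrank F W + finrank F U = n := by
    rw [hW, hU, LinearMap.finrank_range_add_finrank_ker, Module.finrank_pi, Fintype.card_fin]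
  have hWk : finrank F W = k := by
    obtain ⟨c, hc⟩ := hdimY W le_rfl hWb
    have hpos : finrank F W ≠ 0 := fun h => hW0 (Submodule.finrank_eq_zero.1 h)
    rcases c with _ | _ | c
    · rw [mul_zero] at hc; exact absurd hc hpos
    · rw [hc]; ring
    · have : 2 * k ≤ k * (c + 1 + 1) := by rw [Nat.mul_comm 2]; exact Nat.mul_le_mul_left _ (by omega)
      omega
  have hNW : ∀ w ∈ W, N w = 0 := by
    obtain ⟨w, hw, hw0, hNw⟩ := exists_ker_of_nilpotent hNn W hW0 hWN
    have hY : ∀ y ∈ W ⊓ LinearMap.ker N, b y ∈ W ⊓ LinearMap.ker N := fun y hy =>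
      ⟨hWb y hy.1, by
        have h' : N y = 0 := hy.2
        show N (b y) = 0
        rw [hNb', h', map_zero]⟩
    obtain ⟨c, hc⟩ := hdimY _ inf_le_left hY
    have hne : W ⊓ LinearMap.ker N ≠ ⊥ := fun h => hw0 (by
      have : w ∈ W ⊓ LinearMap.ker N := ⟨hw, hNw⟩
      rwa [h, Submodule.mem_bot] at this)
    have hc0 : c ≠ 0 := fun h => hne (Submodule.finrank_eq_zero.1 (by rw [hc, h, mul_zero]))
    have hle : finrank F W ≤ finrank F ↥(W ⊓ LinearMap.ker N) := by
      rw [hWk, hc]; exact Nat.le_mul_of_pos_right _ (Nat.pos_of_ne_zero hc0)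
    have heq := Submodule.eq_of_le_of_finrank_le inf_le_left hle
    intro y hy
    rw [← heq] at hy
    exact hy.2
  have hNU : ∀ w ∈ U, N w = 0 := by
    intro u hu
    by_cases hu0 : u = 0
    · rw [hu0, map_zero]
    obtain ⟨w, hw, hw0, hNw⟩ := exists_ker_of_nilpotent hNn U (fun h => hu0 (by rwa [h, Submodule.mem_bot] at hu)) hUN
    have hpos : 1 ≤ finrank F ↥(F ∙ w) := by rw [finrank_span_singleton hw0]
    have heq : (F ∙ w) = U :=
      Submodule.eq_of_le_of_finrank_le (by rwa [Submodule.span_singleton_le_iff_mem]) (by omega)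
    rw [← heq, Submodule.mem_span_singleton] at hu
    obtain ⟨c, rfl⟩ := hu
    rw [map_smul, hNw, smul_zero]
  have hdis : W ⊓ U = ⊥ := by
    rw [eq_bot_iff]
    rintro w ⟨hw, hw'⟩
    have hw'' : (b - 1) w = 0 := hw'
    rw [LinearMap.sub_apply, Module.End.one_apply, sub_eq_zero] at hw''
    exact (Submodule.mem_bot F).2 (hUW w hw hw'')
  have htop : W ⊔ U = ⊤ := Submodule.eq_top_of_finrank_eq (by
    have := Submodule.finrank_sup_add_finrank_inf_eq W U
    rw [hdis, finrank_bot, add_zero] at this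
    rw [this, hsum, Module.finrank_pi, Fintype.card_fin])
  have hN0 : N = 0 := LinearMap.ext fun v => by
    obtain ⟨w, hw, u, hu, rfl⟩ := Submodule.mem_sup.1 (htop ▸ Submodule.mem_top : v ∈ W ⊔ U)
    rw [map_add, hNW w hw, hNU u hu, add_zero]; rfl
  rw [hNdef, ← map_zero Matrix.toLinAlgEquiv'] at hN0
  exact sub_eq_zero.1 (Matrix.toLinAlgEquiv'.injective hN0)

/-- Block sum in `SL`. -/
noncomputable def slPair {k l m : ℕ} (ψ : Fin k ⊕ Fin l ≃ Fin m) :
    Matrix.SpecialLinearGroup (Fin k) F × Matrix.SpecialLinearGroup (Fin l) F →*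
      Matrix.SpecialLinearGroup (Fin m) F where
  toFun x := ⟨Matrix.reindex ψ ψ (Matrix.fromBlocks (x.1 : Matrix (Fin k) (Fin k) F) 0 0 (x.2 : Matrix (Fin l) (Fin l) F)), by
    rw [Matrix.det_reindex_self, Matrix.det_fromBlocks_zero₂₁, x.1.2, x.2.2, one_mul]⟩
  map_one' := Subtype.ext (by simp [Matrix.fromBlocks_one])
  map_mul' x y := Subtype.ext (by
    show _ = Matrix.reindex ψ ψ _ * Matrix.reindex ψ ψ _
    simp [Matrix.reindex_apply, Matrix.submatrix_mul_equiv, Matrix.fromBlocks_multiply])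

omit [Fintype F] in
theorem slPair_coe {k l m : ℕ} (ψ : Fin k ⊕ Fin l ≃ Fin m)
    (x : Matrix.SpecialLinearGroup (Fin k) F × Matrix.SpecialLinearGroup (Fin l) F) :
    (slPair ψ x : Matrix (Fin m) (Fin m) F) =
      Matrix.reindex ψ ψ (Matrix.fromBlocks (x.1 : Matrix (Fin k) (Fin k) F) 0 0 (x.2 : Matrix (Fin l) (Fin l) F)) := rfl

omit [Fintype F] in
theorem slPair_injective {k l m : ℕ} (ψ : Fin k ⊕ Fin l ≃ Fin m) : Function.Injective (slPair (F := F) ψ) := by
  intro x y h
  have h1 := (Matrix.reindex ψ ψ).injective (congrArg Subtype.val h)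
  exact Prod.ext (Subtype.ext (congrArg Matrix.toBlocks₁₁ h1)) (Subtype.ext (congrArg Matrix.toBlocks₂₂ h1))

/-- An element of order `r` in `SL_k` for `k` the order of `q` mod `r`, `k ≥ 2`. -/
theorem exists_SL_primitive {r : ℕ} [Fact r.Prime] (hrq : ¬ r ∣ Fintype.card F)
    (h2 : 2 ≤ orderOf (Fintype.card F : ZMod r)) :
    ∃ C : Matrix.SpecialLinearGroup (Fin (orderOf (Fintype.card F : ZMod r))) F, C ^ r = 1 ∧ C ≠ 1 := by
  classical
  obtain ⟨p, hchar⟩ := CharP.exists F
  have hpp : p.Prime := (CharP.char_is_prime_or_zero F p).resolve_right fun h => by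
    subst h; have := CharP.charP_to_charZero F; exact not_finite F
  have := Fact.mk hpp
  have hr : r.Prime := Fact.out
  obtain ⟨f, hf, hirr, hdeg, h0, hN, hN', -⟩ := exists_root_poly (F := F) hrq one_pos
    (by rw [pow_one]; exact (dvd_pow_sub_one_iff Fintype.card_pos _).2 dvd_rfl)
  rw [pow_one] at hN hN'
  obtain ⟨g, hg, -⟩ := exists_gl_charpoly_eq p hf hdeg h0
  have hgr : (g : Matrix (Fin (orderOf (Fintype.card F : ZMod r))) (Fin (orderOf (Fintype.card F : ZMod r))) F) ^ r = 1 := (pow_eq_one_iff_dvd hf hirr hg r).2 hN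
  have hdet : (g : Matrix (Fin (orderOf (Fintype.card F : ZMod r))) (Fin (orderOf (Fintype.card F : ZMod r))) F).det = 1 := by
    set δ := Matrix.GeneralLinearGroup.det g with hδ
    have h1 : δ ^ r = 1 := Units.ext (by
      rw [Units.val_pow_eq_pow_val, hδ, Matrix.GeneralLinearGroup.val_det_apply, ← Matrix.det_pow, hgr,
        Matrix.det_one, Units.val_one])
    have h2' : δ ^ (Fintype.card F - 1) = 1 := by rw [← Fintype.card_units]; exact pow_card_eq_one
    have h3 := pow_gcd_eq_one.2 ⟨h1, h2'⟩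
    rw [Nat.Coprime.gcd_eq_one (prime_coprime_card_sub_one hr fun h => by
      have := Nat.le_of_dvd one_pos ((dvd_pow_sub_one_iff Fintype.card_pos 1).1 (by simpa using h))
      omega), pow_one] at h3
    exact congrArg Units.val h3
  refine ⟨⟨(g : Matrix (Fin (orderOf (Fintype.card F : ZMod r))) (Fin (orderOf (Fintype.card F : ZMod r))) F), hdet⟩, Subtype.ext hgr, fun h => ?_⟩
  exact one_ne_zero (hN' 1 hr.one_lt ((pow_eq_one_iff_dvd hf hirr hg 1).1 (by
    rw [pow_one]; exact congrArg Subtype.val h)))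

omit [Fintype F] in
theorem nilpotent_sub_one_of_pow_char (p : ℕ) [Fact p.Prime] [CharP F p] {n : ℕ}
    {A : Matrix (Fin n) (Fin n) F} (hA : A ^ p = 1) : IsNilpotent (A - 1) := by
  rcases isEmpty_or_nonempty (Fin n) with h | h
  · exact ⟨1, Subsingleton.elim _ _⟩
  · exact ⟨p, by rw [sub_pow_char_of_commute p (Commute.one_right A), hA, one_pow, sub_self]⟩

/-- Commuting lifts of commuting elements, one of which has order `p`. -/
theorem exists_lifts (p : ℕ) [Fact p.Prime] [CharP F p] {n : ℕ} (hn : 1 ≤ n)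
    {a b : Matrix.ProjectiveSpecialLinearGroup (Fin n) F} (ha : a ^ p = 1) (hab : Commute a b)
    (Y : Matrix.SpecialLinearGroup (Fin n) F) (hY : QuotientGroup.mk Y = b) :
    ∃ X : Matrix.SpecialLinearGroup (Fin n) F, QuotientGroup.mk X = a ∧ X ^ p = 1 ∧ X * Y = Y * X := by
  have hp : p.Prime := Fact.out
  have hco := prime_coprime_card_sub_one (F := F) hp (char_not_dvd_card_sub_one p)
  obtain ⟨X, hX, hXp⟩ := exists_pow_lift (fun z hz => sl_center_pow (F := F) hn hz) hco a ha
  refine ⟨X, hX, hXp, ?_⟩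
  set z := X⁻¹ * (Y * X * Y⁻¹) with hz
  have hzc : z ∈ Subgroup.center (Matrix.SpecialLinearGroup (Fin n) F) := by
    rw [← QuotientGroup.eq_one_iff, hz, QuotientGroup.mk_mul, QuotientGroup.mk_mul, QuotientGroup.mk_mul,
      QuotientGroup.mk_inv, QuotientGroup.mk_inv, hX, hY, ← hab.eq, mul_inv_cancel_right, inv_mul_cancel]
  have hzp : z ^ p = 1 := by
    have h1 : (X * z) ^ p = 1 := by
      rw [hz, mul_inv_cancel_left, conj_pow, hXp, mul_one, mul_inv_cancel]
    rwa [(show Commute X z from Subgroup.mem_center_iff.1 hzc X).mul_pow, hXp, one_mul] at h1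
  have h3 := pow_gcd_eq_one.2 ⟨hzp, sl_center_pow hn hzc⟩
  rw [Nat.Coprime.gcd_eq_one hco, pow_one] at h3
  rw [h3, eq_comm, inv_mul_eq_one, eq_mul_inv_iff_mul_eq] at hz
  exact hz

/-- An element of order `r` in `SL_m` when the order of `q` mod `r` is at most `m`. -/
theorem dvd_card_SL_of_order_le {r : ℕ} [Fact r.Prime] (hrq : ¬ r ∣ Fintype.card F) {m : ℕ} (hm : 2 ≤ m)
    (hk : orderOf (Fintype.card F : ZMod r) ≤ m) : r ∣ Nat.card (Matrix.SpecialLinearGroup (Fin m) F) := by
  classical
  have hr : r.Prime := Fact.out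
  suffices ∃ X : Matrix.SpecialLinearGroup (Fin m) F, X ^ r = 1 ∧ X ≠ 1 by
    obtain ⟨X, hX, hX1⟩ := this
    rw [← orderOf_eq_prime hX hX1]
    exact orderOf_dvd_natCard X
  by_cases h2 : 2 ≤ orderOf (Fintype.card F : ZMod r)
  · obtain ⟨C, hC, hC1⟩ := exists_SL_primitive hrq h2
    obtain ⟨ψ⟩ : Nonempty (Fin (orderOf (Fintype.card F : ZMod r)) ⊕ Fin (m - orderOf (Fintype.card F : ZMod r)) ≃ Fin m) :=
      ⟨Fintype.equivOfCardEq (by simp; omega)⟩
    refine ⟨slPair ψ (C, 1), by rw [← map_pow, Prod.pow_mk, hC, one_pow]; exact map_one _, fun h => hC1 ?_⟩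
    exact congrArg Prod.fst (slPair_injective ψ (h.trans (map_one (slPair ψ)).symm))
  · have hdvd : r ∣ Fintype.card Fˣ := by
      rw [Fintype.card_units]
      have h1 : orderOf (Fintype.card F : ZMod r) = 1 := by
        have := orderOf_natCast_pos (r := r) hrq
        omega
      have := (dvd_pow_sub_one_iff (r := r) (q := Fintype.card F) Fintype.card_pos 1).2 (h1 ▸ dvd_rfl)
      rwa [pow_one] at this
    obtain ⟨ζ, hζ⟩ := exists_prime_orderOf_dvd_card r hdvd
    let d : Fin m → F := fun i => if (i : ℕ) = 0 then (ζ : F) else if (i : ℕ) = 1 then ((ζ⁻¹ : Fˣ) : F) else 1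
    have hd : (Matrix.diagonal d).det = 1 := by
      rw [Matrix.det_diagonal, Finset.prod_eq_mul (⟨0, by omega⟩ : Fin m) ⟨1, by omega⟩ (by simp)]
      · simp [d]
      · intro i _ hi
        simp only [ne_eq, Fin.ext_iff] at hi
        simp [d, hi.1, hi.2]
      · simp
      · simp
    refine ⟨⟨_, hd⟩, Subtype.ext ?_, fun h => ?_⟩
    · change (Matrix.diagonal d) ^ r = 1
      rw [Matrix.diagonal_pow, ← Matrix.diagonal_one]
      congr 1
      funext i
      have hz : (ζ : F) ^ r = 1 := by rw [← Units.val_pow_eq_pow_val, ← hζ, pow_orderOf_eq_one]; rfl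
      simp only [d, Pi.pow_apply]
      split_ifs <;> simp [hz]
    · have := congrArg (fun X : Matrix.SpecialLinearGroup (Fin m) F => (X : Matrix (Fin m) (Fin m) F) ⟨0, by omega⟩ ⟨0, by omega⟩) h
      simp [d] at this
      rw [this, orderOf_one] at hζ
      exact hr.one_lt.ne hζ

omit [Fintype F] in
/-- Two-dimensional case: a commuting element with scalar `r`-th power is scalar. -/
theorem eq_scalar_of_commute_two {r : ℕ} (hr0 : (r : F) ≠ 0) {A B : Matrix (Fin 2) (Fin 2) F}
    (hA : IsNilpotent (A - 1)) (hA1 : A ≠ 1) (hAB : A * B = B * A) (hdet : B.det ≠ 0) {z : F}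
    (hB : B ^ r = Matrix.scalar (Fin 2) z) : ∃ c : F, B = Matrix.scalar (Fin 2) c := by
  set N : Module.End F (Fin 2 → F) := Matrix.toLinAlgEquiv' (A - 1) with hNdef
  set g : Module.End F (Fin 2 → F) := Matrix.toLinAlgEquiv' B with hgdef
  have hNn : IsNilpotent N := hA.map _
  have hNg : ∀ v, N (g v) = g (N v) := fun v => by
    rw [hNdef, hgdef, ← Module.End.mul_apply, ← map_mul, ← Module.End.mul_apply, ← map_mul,
      sub_mul, mul_sub, hAB, one_mul, mul_one]
  have hN0 : N ≠ 0 := fun h => hA1 (by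
    rw [hNdef, ← map_zero Matrix.toLinAlgEquiv'] at h
    exact sub_eq_zero.1 (Matrix.toLinAlgEquiv'.injective h))
  have hR0 : LinearMap.range N ≠ ⊥ := fun h => hN0 (LinearMap.range_eq_bot.1 h)
  have hrk := LinearMap.finrank_range_add_finrank_ker N
  rw [Module.finrank_pi, Fintype.card_fin] at hrk
  obtain ⟨y, hy, hy0, hNy⟩ := exists_ker_of_nilpotent hNn (LinearMap.range N) hR0 fun w _ => ⟨w, rfl⟩
  have hNN : ∀ v, N (N v) = 0 := by
    intro v
    have hker : 1 ≤ finrank F (LinearMap.ker N) := by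
      rw [← finrank_span_singleton (K := F) hy0]
      exact Submodule.finrank_mono (by rwa [Submodule.span_singleton_le_iff_mem])
    have heq : (F ∙ y) = LinearMap.range N :=
      Submodule.eq_of_le_of_finrank_le (by rwa [Submodule.span_singleton_le_iff_mem])
        (by rw [finrank_span_singleton hy0]; omega)
    have : N v ∈ F ∙ y := heq ▸ LinearMap.mem_range_self N v
    obtain ⟨c, hc⟩ := Submodule.mem_span_singleton.1 this
    rw [← hc, map_smul, hNy, smul_zero]
  obtain ⟨v, hv⟩ : ∃ v, N v ≠ 0 := by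
    by_contra h
    push Not at h
    exact hN0 (LinearMap.ext h)
  have hli : LinearIndependent F ![v, N v] := by
    rw [LinearIndependent.pair_iff]
    intro s t h
    have h1 := congrArg N h
    rw [map_add, map_smul, map_smul, hNN, smul_zero, add_zero, map_zero] at h1
    have hs : s = 0 := (smul_eq_zero.1 h1).resolve_right hv
    rw [hs, zero_smul, zero_add] at h
    exact ⟨hs, (smul_eq_zero.1 h).resolve_right hv⟩
  let bs : Basis (Fin 2) F (Fin 2 → F) := basisOfLinearIndependentOfCardEqFinrank hli (by simp)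
  have hb0 : bs 0 = v := by simp [bs]
  have hb1 : bs 1 = N v := by simp [bs]
  set β := bs.repr (g v) 0 with hβ
  set γ := bs.repr (g v) 1 with hγ
  have hgv : g v = β • v + γ • N v := by
    conv_lhs => rw [← bs.sum_repr (g v), Fin.sum_univ_two, hb0, hb1]
  have hg : ∀ w, g w = β • w + γ • N w := by
    have : g = β • (1 : Module.End F (Fin 2 → F)) + γ • N := bs.ext fun i => by
      fin_cases i
      · simpa [hb0] using hgv
      · show g (bs 1) = (β • (1 : Module.End F (Fin 2 → F)) + γ • N) (bs 1)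
        rw [hb1, ← hNg, hgv, map_add, map_smul, map_smul, hNN, LinearMap.add_apply, LinearMap.smul_apply,
          LinearMap.smul_apply, Module.End.one_apply, hNN]
    intro w
    rw [this]; rfl
  have hpow : ∀ i : ℕ, ∀ w, (g ^ (i + 1)) w = β ^ (i + 1) • w + ((i + 1 : ℕ) * β ^ i * γ) • N w := by
    intro i
    induction i with
    | zero => intro w; simpa using hg w
    | succ i ih =>
      intro w
      rw [pow_succ, Module.End.mul_apply, hg w, map_add, map_smul, map_smul, ih, ih, hNN]
      simp only [smul_add, smul_smul, smul_zero, add_zero]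
      push_cast
      rw [show β * β ^ (i + 1) = β ^ (i + 1 + 1) by ring]
      match_scalars <;> ring
  obtain ⟨i, hi⟩ : ∃ i, r = i + 1 := ⟨r - 1, by
    rcases Nat.eq_zero_or_pos r with rfl | h
    · simp at hr0
    · omega⟩
  have hgr : (g ^ r) v = z • v := by
    rw [hgdef, ← map_pow, hB, Matrix.toLinAlgEquiv'_apply, Matrix.scalar_apply]
    funext j
    simp [Matrix.mulVec_diagonal]
  rw [hi, hpow] at hgr
  have hzero := LinearIndependent.pair_iff.1 hli (β ^ (i + 1) - z) ((i + 1 : ℕ) * β ^ i * γ) (by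
    rw [sub_smul, sub_add_eq_add_sub, hgr, sub_self])
  have hβ0 : β ≠ 0 := fun h => by
    have h1 : g (N v) = 0 := by rw [← hNg, hgv, h, zero_smul, zero_add, map_smul, hNN, smul_zero]
    rw [hgdef, Matrix.toLinAlgEquiv'_apply] at h1
    exact hv (Matrix.eq_zero_of_mulVec_eq_zero hdet h1)
  have hγ0 : γ = 0 := by
    rcases mul_eq_zero.1 hzero.2 with h | h
    · rcases mul_eq_zero.1 h with h | h
      · exact absurd (by rw [hi]; exact h) hr0
      · exact absurd h (pow_ne_zero _ hβ0)
    · exact h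
  refine ⟨β, Matrix.toLinAlgEquiv'.injective (LinearMap.ext fun w => ?_)⟩
  rw [← hgdef, hg w, hγ0, zero_smul, add_zero, Matrix.toLinAlgEquiv'_apply, Matrix.scalar_apply]
  funext j
  simp [Matrix.mulVec_diagonal]

omit [Fintype F] in
/-- Three-dimensional exceptional case. -/
theorem eq_scalar_of_commute_three (h3 : (3 : F) ≠ 0) (hroots : ∀ b : F, b ^ 9 = 1 → b ^ 3 = 1)
    {ω : F} (hω : ω ^ 3 = 1) (hω1 : ω ≠ 1)
    {A B : Matrix (Fin 3) (Fin 3) F} (hA : IsNilpotent (A - 1)) (hA1 : A ≠ 1) (hAB : A * B = B * A)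
    (hdet : B.det = 1) {z : F} (hB : B ^ 3 = Matrix.scalar (Fin 3) z) :
    ∃ c : F, B = Matrix.scalar (Fin 3) c := by
  classical
  have hz3 : z ^ 3 = 1 := by
    have := congrArg Matrix.det hB
    rw [Matrix.det_pow, hdet, one_pow, Matrix.scalar_apply, Matrix.det_diagonal, Finset.prod_const,
      Finset.card_univ, Fintype.card_fin] at this
    exact this.symm
  set N : Module.End F (Fin 3 → F) := Matrix.toLinAlgEquiv' (A - 1) with hNdef
  set g : Module.End F (Fin 3 → F) := Matrix.toLinAlgEquiv' B with hgdef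
  have hNn : IsNilpotent N := hA.map _
  have hNg : ∀ v, N (g v) = g (N v) := fun v => by
    rw [hNdef, hgdef, ← Module.End.mul_apply, ← map_mul, ← Module.End.mul_apply, ← map_mul,
      sub_mul, mul_sub, hAB, one_mul, mul_one]
  have hN0 : N ≠ 0 := fun h => hA1 (by
    rw [hNdef, ← map_zero Matrix.toLinAlgEquiv'] at h
    exact sub_eq_zero.1 (Matrix.toLinAlgEquiv'.injective h))
  have hR0 : LinearMap.range N ≠ ⊥ := fun h => hN0 (LinearMap.range_eq_bot.1 h)
  have hrk := LinearMap.finrank_range_add_finrank_ker N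
  rw [Module.finrank_pi, Fintype.card_fin] at hrk
  obtain ⟨y, hy, hy0, hNy⟩ := exists_ker_of_nilpotent hNn (LinearMap.range N) hR0 fun w _ => ⟨w, rfl⟩
  set Y := LinearMap.range N ⊓ LinearMap.ker N with hYdef
  have hY1 : finrank F Y ≤ 1 := by
    by_contra h
    have h1 : finrank F Y ≤ finrank F (LinearMap.range N) := Submodule.finrank_mono inf_le_left
    have h2 : finrank F Y ≤ finrank F (LinearMap.ker N) := Submodule.finrank_mono inf_le_right
    omega
  have hyY : (F ∙ y) = Y := Submodule.eq_of_le_of_finrank_le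
    (by rw [Submodule.span_singleton_le_iff_mem]; exact ⟨hy, hNy⟩) (by rw [finrank_span_singleton hy0]; omega)
  have hgy : g y ∈ Y := by
    refine ⟨?_, ?_⟩
    · obtain ⟨w, rfl⟩ := hy
      exact ⟨g w, hNg w⟩
    · show N (g y) = 0
      rw [hNg, hNy, map_zero]
  rw [← hyY, Submodule.mem_span_singleton] at hgy
  obtain ⟨b, hb⟩ := hgy
  have hb3 : b ^ 3 = z := by
    have h1 : (g ^ 3) y = z • y := by
      rw [hgdef, ← map_pow, hB, Matrix.toLinAlgEquiv'_apply, Matrix.scalar_apply]
      funext j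
      simp [Matrix.mulVec_diagonal]
    have h2 : (g ^ 3) y = b ^ 3 • y := by
      simp only [pow_succ, pow_zero, one_mul, Module.End.mul_apply, ← hb, map_smul, smul_smul, mul_assoc]
    exact smul_left_injective F hy0 (h2.symm.trans h1)
  have hz1 : z = 1 := by rw [← hb3]; exact hroots b (by rw [show (9 : ℕ) = 3 * 3 by norm_num, pow_mul, hb3, hz3])
  rw [hz1, map_one] at hB
  obtain ⟨ι, hι, p, e, hf⟩ := exists_isDecomp (Matrix.toLin' B)
  have hs : Squarefree (X ^ 3 - C (1 : F)) :=
    (separable_X_pow_sub_C (1 : F) (by exact_mod_cast h3) one_ne_zero).squarefree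
  have h0 : aeval (Matrix.toLin' B) (X ^ 3 - C (1 : F)) = 0 := by
    rw [aeval_toLin', show aeval B (X ^ 3 - C (1 : F)) = 0 by simp [hB], map_zero]
  have hsplit : ∀ i, ∃ c : F, p i = X - C c := by
    intro i
    have hsum : ω ^ 2 + ω + 1 = 0 := by
      have : (ω - 1) * (ω ^ 2 + ω + 1) = 0 := by linear_combination hω
      exact (mul_eq_zero.1 this).resolve_left (sub_ne_zero.2 hω1)
    have hfac : (X ^ 3 - C (1 : F)) = (X - C 1) * ((X - C ω) * (X - C (ω ^ 2))) := by
      have h1 : C ω + C (ω ^ 2) = -1 := by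
        rw [← map_add, show ω + ω ^ 2 = -1 by linear_combination hsum, map_neg, map_one]
      have h2 : C ω * C (ω ^ 2) = 1 := by
        rw [← map_mul, show ω * ω ^ 2 = 1 by linear_combination hω, map_one]
      rw [map_one]
      linear_combination (X ^ 2 - X) * h1 - (X - 1) * h2
    have hdv := hf.dvd_of_aeval_eq_zero h0 i
    rw [hfac] at hdv
    have key : ∀ c : F, p i ∣ X - C c → p i = X - C c := fun c h => eq_of_monic_of_associated (hf.monic i)
      (monic_X_sub_C _) ((hf.irreducible i).associated_of_dvd (irreducible_X_sub_C _) h)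
    rcases (hf.irreducible i).prime.dvd_or_dvd hdv with h | h
    · exact ⟨_, key _ h⟩
    · rcases (hf.irreducible i).prime.dvd_or_dvd h with h | h
      · exact ⟨_, key _ h⟩
      · exact ⟨_, key _ h⟩
  choose c hc using hsplit
  have hchar : B.charpoly = ∏ i, (X - C (c i)) := by
    rw [← Matrix.charpoly_toLin', hf.charpoly_eq]
    exact Finset.prod_congr rfl fun i _ => by rw [hf.exp_eq_one hs h0 i, pow_one, hc]
  have hcard : Fintype.card ι = 3 := by
    have := congrArg natDegree hchar
    rw [Matrix.charpoly_natDegree_eq_dim, Fintype.card_fin, natDegree_prod_of_monic _ _ fun i _ => monic_X_sub_C _] at this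
    simpa using this.symm
  let eι : Fin 3 ≃ ι := (Fintype.equivFinOfCardEq hcard).symm
  let d : Fin 3 → F := fun j => c (eι j)
  have hd3 : ∀ j, d j ^ 3 = 1 := fun j => by
    have hdv := hf.dvd_of_aeval_eq_zero h0 (eι j)
    rw [hc, dvd_iff_isRoot] at hdv
    simpa [sub_eq_zero, d] using hdv
  have hcd : B.charpoly = (Matrix.diagonal d).charpoly := by
    rw [hchar, Matrix.charpoly_diagonal, ← eι.prod_comp]
  have hdd : d 0 * d 1 * d 2 = 1 := by
    have h1 := Matrix.det_eq_sign_charpoly_coeff B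
    rw [hcd, ← Matrix.det_eq_sign_charpoly_coeff, hdet, Matrix.det_diagonal, Fin.prod_univ_three] at h1
    exact h1.symm
  obtain ⟨L, hL⟩ := exists_equiv_of_charpoly_eq hs hs h0
    (show aeval (Matrix.toLin' (Matrix.diagonal d)) (X ^ 3 - C (1 : F)) = 0 by
      rw [aeval_toLin', show aeval (Matrix.diagonal d) (X ^ 3 - C (1 : F)) = 0 by
        simp only [map_sub, map_pow, aeval_X, aeval_C, map_one, Matrix.diagonal_pow, sub_eq_zero]
        rw [← Matrix.diagonal_one]; congr 1; funext j; simp [hd3], map_zero])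
    (by simpa [Matrix.charpoly_toLin'] using hcd)
  by_cases hinj : Function.Injective d
  · exfalso
    apply hN0
    have key : ∀ j, L (N (L.symm (Pi.single j 1))) = (L (N (L.symm (Pi.single j 1))) j) • Pi.single j 1 := by
      intro j
      set w := L (N (L.symm (Pi.single j 1))) with hw
      have hD : Matrix.toLin' (Matrix.diagonal d) w = d j • w := by
        rw [hw, ← hL]
        have h1 : Matrix.toLin' B (L.symm (Pi.single j 1)) = d j • L.symm (Pi.single j 1) := by
          apply L.injective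
          rw [hL, L.apply_symm_apply, map_smul, L.apply_symm_apply, Matrix.toLin'_apply]
          funext k
          simp [Matrix.mulVec_diagonal, Pi.single_apply]
          split_ifs with hk <;> simp [hk]
        have h2 : Matrix.toLin' B (N (L.symm (Pi.single j 1))) = N (Matrix.toLin' B (L.symm (Pi.single j 1))) := by
          rw [show (Matrix.toLin' B) = g from rfl, hNg]
        rw [h2, h1, map_smul, map_smul]
      funext k
      rcases eq_or_ne k j with rfl | hk
      · simp
      · have := congrFun hD k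
        rw [Matrix.toLin'_apply, Matrix.mulVec_diagonal, Pi.smul_apply, smul_eq_mul, mul_eq_mul_right_iff] at this
        rcases this with h | h
        · exact absurd (hinj h) hk
        · simp [h, hk]
    obtain ⟨m, hm⟩ := hNn
    have hzero : ∀ j, N (L.symm (Pi.single j 1)) = 0 := by
      intro j
      set a := L (N (L.symm (Pi.single j 1))) j with ha
      have h1 : N (L.symm (Pi.single j 1)) = a • L.symm (Pi.single j 1) := by
        apply L.injective
        rw [map_smul, L.apply_symm_apply]; exact key j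
      have h2 : ∀ i : ℕ, (N ^ i) (L.symm (Pi.single j 1)) = a ^ i • L.symm (Pi.single j 1) := by
        intro i
        induction i with
        | zero => simp
        | succ i ih => rw [pow_succ', Module.End.mul_apply, ih, map_smul, h1, smul_smul, ← pow_succ]
      have h3' := h2 m
      rw [hm, LinearMap.zero_apply, eq_comm, smul_eq_zero] at h3'
      rcases h3' with h | h
      · rw [h1, eq_zero_of_pow_eq_zero h, zero_smul]
      · simp at h
    apply ((Pi.basisFun F (Fin 3)).map L.symm).ext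
    intro j
    simpa using hzero j
  · obtain ⟨c₀, hc₀⟩ : ∃ c₀, ∀ j, d j = c₀ := by
      simp only [Function.Injective, not_forall] at hinj
      obtain ⟨i, j, hij, hne⟩ := hinj
      refine ⟨d i, fun l => ?_⟩
      have h0' := hd3 0
      have h1' := hd3 1
      have h2' := hd3 2
      have hdne : ∀ k, d k ≠ 0 := fun k h => by simpa [h] using hd3 k
      have e01 : d 0 = d 1 → d 2 = d 0 := fun h => by
        apply mul_left_cancel₀ (mul_ne_zero (hdne 0) (hdne 0))
        rw [← h] at hdd
        linear_combination hdd - h0'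
      have e02 : d 0 = d 2 → d 1 = d 0 := fun h => by
        apply mul_left_cancel₀ (mul_ne_zero (hdne 0) (hdne 0))
        rw [← h] at hdd
        linear_combination hdd - h0'
      have e12 : d 1 = d 2 → d 0 = d 1 := fun h => by
        apply mul_left_cancel₀ (mul_ne_zero (hdne 1) (hdne 1))
        rw [← h] at hdd
        linear_combination hdd - h1'
      have hall : d 0 = d 1 ∧ d 0 = d 2 := by
        fin_cases i <;> fin_cases j <;>
          first
          | exact absurd rfl hne
          | exact ⟨hij, (e01 hij).symm⟩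
          | exact ⟨(e02 hij).symm, hij⟩
          | exact ⟨e12 hij, (e12 hij).trans hij⟩
          | exact ⟨hij.symm, (e01 hij.symm).symm⟩
          | exact ⟨(e02 hij.symm).symm, hij.symm⟩
          | exact ⟨e12 hij.symm, (e12 hij.symm).trans hij.symm⟩
      have hconst : ∀ k, d k = d 0 := fun k => by
        fin_cases k
        · rfl
        · exact hall.1.symm
        · exact hall.2.symm
      rw [hconst l, hconst i]
    refine ⟨c₀, Matrix.toLin'.injective (LinearMap.ext fun v => L.injective ?_)⟩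
    rw [hL, Matrix.toLin'_apply, Matrix.toLin'_apply]
    have : Matrix.scalar (Fin 3) c₀ *ᵥ v = c₀ • v := by
      funext j; simp [Matrix.scalar_apply, Matrix.mulVec_diagonal]
    rw [this, map_smul]
    funext j
    simp [Matrix.mulVec_diagonal, hc₀]

end Cfsg.Agent.H66
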