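/-
Adjacency to the characteristic in the prime graph of `PSL_n(q)`.
-/
import Cfsg.Agent.H66.PSLPrimeGraph

set_option autoImplicit false

open Polynomial Matrix

namespace Cfsg.Agent.H66

variable {F : Type*} [Field F] [Fintype F]

/-- The identity `PSL` element from an identity matrix lift. -/
theorem mk_eq_one_of_scalar {n : ℕ} {X : Matrix.SpecialLinearGroup (Fin n) F} {c : F}
    (h : (X : Matrix (Fin n) (Fin n) F) = Matrix.scalar (Fin n) c) :
    (QuotientGroup.mk X : Matrix.ProjectiveSpecialLinearGroup (Fin n) F) = 1 := by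
  rw [QuotientGroup.eq_one_iff, Matrix.SpecialLinearGroup.mem_center_iff]
  refine ⟨c, ?_, h.symm⟩
  have := X.2
  rw [h, Matrix.scalar_apply, Matrix.det_diagonal, Finset.prod_const, Finset.card_univ] at this
  exact this

theorem not_mem_center_of_ne {n : ℕ} {X : Matrix.SpecialLinearGroup (Fin n) F} {i j : Fin n}
    (h : (i ≠ j ∧ (X : Matrix (Fin n) (Fin n) F) i j ≠ 0) ∨
      (X : Matrix (Fin n) (Fin n) F) i i ≠ (X : Matrix (Fin n) (Fin n) F) j j) :
    (QuotientGroup.mk X : Matrix.ProjectiveSpecialLinearGroup (Fin n) F) ≠ 1 := by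
  intro hX
  rw [QuotientGroup.eq_one_iff, Matrix.SpecialLinearGroup.mem_center_iff] at hX
  obtain ⟨c, -, hc⟩ := hX
  rw [← hc, Matrix.scalar_apply] at h
  rcases h with ⟨hij, h⟩ | h
  · exact h (Matrix.diagonal_apply_ne _ hij)
  · simp at h

/-- Two commuting elements of coprime prime orders give the product order. -/
theorem mem_range_orderOf {n : ℕ} (p : ℕ) [Fact p.Prime] {r : ℕ} (hr : r.Prime) (hrp : r ≠ p)
    {A B : Matrix.SpecialLinearGroup (Fin n) F} (hAB : Commute B A) (hA : A ^ p = 1)
    (hA1 : (QuotientGroup.mk A : Matrix.ProjectiveSpecialLinearGroup (Fin n) F) ≠ 1)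
    (hB : (QuotientGroup.mk (B ^ r) : Matrix.ProjectiveSpecialLinearGroup (Fin n) F) = 1)
    (hB1 : (QuotientGroup.mk B : Matrix.ProjectiveSpecialLinearGroup (Fin n) F) ≠ 1) :
    r * p ∈ Set.range (orderOf : Matrix.ProjectiveSpecialLinearGroup (Fin n) F → ℕ) := by
  have := Fact.mk hr
  refine ⟨QuotientGroup.mk B * QuotientGroup.mk A, ?_⟩
  have hob : orderOf (QuotientGroup.mk B : Matrix.ProjectiveSpecialLinearGroup (Fin n) F) = r :=
    orderOf_eq_prime (by rw [← QuotientGroup.mk_pow, hB]) hB1
  have hoa : orderOf (QuotientGroup.mk A : Matrix.ProjectiveSpecialLinearGroup (Fin n) F) = p :=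
    orderOf_eq_prime (by rw [← QuotientGroup.mk_pow, hA, QuotientGroup.mk_one]) hA1
  have hcomm : Commute (QuotientGroup.mk B : Matrix.ProjectiveSpecialLinearGroup (Fin n) F) (QuotientGroup.mk A) :=
    hAB.map (QuotientGroup.mk' _)
  rw [hcomm.orderOf_mul_eq_mul_orderOf_of_coprime
    (by rw [hob, hoa]; exact (Nat.coprime_primes hr Fact.out).2 hrp), hob, hoa]

omit [Fintype F] in
theorem transvection_pow (p : ℕ) [Fact p.Prime] [CharP F p] {n : ℕ} {i j : Fin n} (hij : i ≠ j) :
    (Matrix.SpecialLinearGroup.transvection hij (1 : F)) ^ p = 1 := by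
  have h : ∀ m : ℕ, (Matrix.SpecialLinearGroup.transvection hij (1 : F)) ^ m =
      Matrix.SpecialLinearGroup.transvection hij (m : F) := by
    intro m
    induction m with
    | zero => apply Subtype.ext; simp [Matrix.SpecialLinearGroup.transvection_coe]
    | succ m ih =>
      rw [pow_succ, ih]
      apply Subtype.ext
      push_cast
      simp only [Matrix.SpecialLinearGroup.coe_mul, Matrix.SpecialLinearGroup.transvection_coe]
      exact Matrix.transvection_mul_transvection_same (i := i) (j := j) hij _ _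
  rw [h, CharP.cast_eq_zero]
  apply Subtype.ext; simp [Matrix.SpecialLinearGroup.transvection_coe]

/-- An element of order `r p` in the large-dimensional case. -/
theorem exists_order_rp (p : ℕ) [Fact p.Prime] [CharP F p] {n r : ℕ} (hr : r.Prime) (hrp : r ≠ p)
    (hk : orderOf (Fintype.card F : ZMod r) ≤ n - 2) (hn : 3 ≤ n)
    (hexc : ¬ (n = 3 ∧ r = 3 ∧ 3 ∣ Fintype.card F - 1 ∧ ¬ 9 ∣ Fintype.card F - 1)) :
    r * p ∈ Set.range (orderOf : Matrix.ProjectiveSpecialLinearGroup (Fin n) F → ℕ) := by
  classical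
  have := Fact.mk hr
  have hrq : ¬ r ∣ Fintype.card F := not_dvd_card_of_prime_ne p hr hrp
  set k := orderOf (Fintype.card F : ZMod r) with hkdef
  by_cases h2 : 2 ≤ k
  · obtain ⟨C, hC, hC1⟩ := exists_SL_primitive hrq h2
    obtain ⟨ψ⟩ : Nonempty (Fin k ⊕ Fin (n - k) ≃ Fin n) := ⟨Fintype.equivOfCardEq (by simp; omega)⟩
    have hij : (⟨0, by omega⟩ : Fin (n - k)) ≠ ⟨1, by omega⟩ := by simp
    let T := Matrix.SpecialLinearGroup.transvection hij (1 : F)
    refine mem_range_orderOf p hr hrp (A := slPair ψ (1, T)) (B := slPair ψ (C, 1))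
      ((Prod.commute_iff.2 ⟨Commute.one_right C, Commute.one_left T⟩).map (slPair ψ)) ?_ ?_ ?_ ?_
    · rw [← map_pow, Prod.pow_mk, one_pow, transvection_pow p hij]; exact map_one _
    · refine not_mem_center_of_ne (i := ψ (Sum.inr ⟨0, by omega⟩)) (j := ψ (Sum.inr ⟨1, by omega⟩)) (Or.inl ⟨?_, ?_⟩)
      · simp
      · simp [slPair_coe, T, Matrix.SpecialLinearGroup.transvection_coe, Matrix.transvection, hij]
    · rw [← map_pow, Prod.pow_mk, one_pow, hC]
      rw [show ((1 : Matrix.SpecialLinearGroup (Fin k) F), (1 : Matrix.SpecialLinearGroup (Fin (n - k)) F)) = 1 from rfl,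
        map_one, QuotientGroup.mk_one]
    · intro hX
      rw [QuotientGroup.eq_one_iff, Matrix.SpecialLinearGroup.mem_center_iff] at hX
      obtain ⟨c, -, hc⟩ := hX
      have hc1 : c = 1 := by
        have := congrFun (congrFun hc (ψ (Sum.inr ⟨0, by omega⟩))) (ψ (Sum.inr ⟨0, by omega⟩))
        simpa [slPair_coe] using this
      refine hC1 (Subtype.ext (Matrix.ext fun a b => ?_))
      have h3 := congrFun (congrFun hc (ψ (Sum.inl a))) (ψ (Sum.inl b))
      simp [slPair_coe, hc1, Matrix.diagonal_apply] at h3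
      simpa [Matrix.one_apply] using h3.symm
  · have hk1 : k = 1 := by have := orderOf_natCast_pos (r := r) hrq; omega
    have hdvd : r ∣ Fintype.card F - 1 := by
      have := (dvd_pow_sub_one_iff (r := r) (q := Fintype.card F) Fintype.card_pos 1).2 (by rw [← hkdef, hk1])
      rwa [pow_one] at this
    have hunit : ∀ m, m ∣ Fintype.card F - 1 → m ≠ 0 → ∃ ζ : Fˣ, orderOf ζ = m := by
      rintro m ⟨j, hj⟩ hm
      obtain ⟨γ, hγ⟩ := IsCyclic.exists_generator (α := Fˣ)
      have hγo : orderOf γ = Fintype.card F - 1 := by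
        rw [orderOf_eq_card_of_forall_mem_zpowers hγ, Nat.card_units, Nat.card_eq_fintype_card]
      have hj0 : j ≠ 0 := by
        rintro rfl
        have := Fintype.one_lt_card (α := F)
        omega
      exact ⟨γ ^ j, by rw [orderOf_pow' _ hj0, hγo, hj, Nat.gcd_mul_left_left,
        Nat.mul_div_cancel _ (Nat.pos_of_ne_zero hj0)]⟩
    have main : ∀ (d : Fin n → F) (i j : Fin n), i ≠ j → d i = d j → ∏ l, d l = 1 →
        (∃ a b, d a ≠ d b) → (∀ a b, d a ^ r = d b ^ r) →
        r * p ∈ Set.range (orderOf : Matrix.ProjectiveSpecialLinearGroup (Fin n) F → ℕ) := by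
      intro d i j hij hdij hdet hne hpow
      let B : Matrix.SpecialLinearGroup (Fin n) F := ⟨Matrix.diagonal d, by rw [Matrix.det_diagonal, hdet]⟩
      let T := Matrix.SpecialLinearGroup.transvection hij (1 : F)
      refine mem_range_orderOf p hr hrp (A := T) (B := B) ?_ (transvection_pow p hij) ?_ ?_ ?_
      · apply Subtype.ext
        show Matrix.diagonal d * Matrix.transvection i j (1 : F) = Matrix.transvection i j (1 : F) * Matrix.diagonal d
        ext a b
        rw [Matrix.diagonal_mul, Matrix.mul_diagonal, Matrix.transvection, Matrix.add_apply]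
        rcases eq_or_ne a b with rfl | hab
        · rw [mul_comm]
        · by_cases hh : a = i ∧ b = j
          · obtain ⟨rfl, rfl⟩ := hh
            rw [hdij, mul_comm]
          · rw [Matrix.one_apply_ne hab, Matrix.single_apply, if_neg (fun h => hh ⟨h.1.symm, h.2.symm⟩)]
            ring
      · exact not_mem_center_of_ne (i := i) (j := j) (Or.inl ⟨hij, by
          simp [T, Matrix.SpecialLinearGroup.transvection_coe, Matrix.transvection, hij]⟩)
      · refine mk_eq_one_of_scalar (c := d i ^ r) ?_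
        show Matrix.diagonal d ^ r = _
        rw [Matrix.diagonal_pow, Matrix.scalar_apply]
        congr 1
        funext a
        exact hpow a i
      · obtain ⟨a, b, hab⟩ := hne
        exact not_mem_center_of_ne (i := a) (j := b) (Or.inr (by simpa [B] using hab))
    rcases Nat.lt_or_ge n 4 with h4 | h4
    · obtain rfl : n = 3 := by omega
      by_cases hr3 : r = 3
      · have h9 : 9 ∣ Fintype.card F - 1 := by
          by_contra h9
          exact hexc ⟨rfl, hr3, hr3 ▸ hdvd, h9⟩
        obtain ⟨ζ, hζ⟩ := hunit 9 h9 (by norm_num)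
        have hz : (ζ : F) ^ 9 = 1 := by rw [← Units.val_pow_eq_pow_val, ← hζ, pow_orderOf_eq_one]; rfl
        refine main ![(ζ : F), ζ, (ζ : F) ^ 7] 0 1 (by decide) rfl ?_ ⟨0, 2, ?_⟩ ?_
        · simp [Fin.prod_univ_three]; linear_combination hz
        · intro h
          simp at h
          have h6 : ζ ^ 6 = 1 := by
            apply mul_left_cancel (a := ζ)
            rw [mul_one, ← pow_succ']
            exact (Units.ext (by simpa using h)).symm
          have := orderOf_dvd_of_pow_eq_one h6
          rw [hζ] at this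
          omega
        · subst hr3
          have h21 : ((ζ : F) ^ 7) ^ 3 = (ζ : F) ^ 3 := by
            rw [← pow_mul, show (7 * 3 : ℕ) = 9 + 9 + 3 from rfl, pow_add, pow_add, hz, one_mul, one_mul]
          have hu : ∀ a : Fin 3, (![(ζ : F), ζ, (ζ : F) ^ 7] a) ^ 3 = (ζ : F) ^ 3 := by
            intro a
            fin_cases a
            · rfl
            · rfl
            · exact h21
          intro a b
          rw [hu a, hu b]
      · obtain ⟨ζ, hζ⟩ := hunit r hdvd hr.ne_zero
        have hz : (ζ : F) ^ r = 1 := by rw [← Units.val_pow_eq_pow_val, ← hζ, pow_orderOf_eq_one]; rfl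
        refine main ![(ζ : F), ζ, ((ζ ^ 2)⁻¹ : Fˣ)] 0 1 (by decide) rfl ?_ ⟨0, 2, ?_⟩ ?_
        · simp [Fin.prod_univ_three, pow_two]; field_simp
        · intro h
          have h' : ζ = (ζ ^ 2)⁻¹ := Units.ext (by simpa using h)
          rw [eq_inv_iff_mul_eq_one, ← pow_succ'] at h'
          have := orderOf_dvd_of_pow_eq_one h'
          rw [hζ] at this
          exact hr3 ((Nat.prime_dvd_prime_iff_eq hr Nat.prime_three).1 this)
        · have hu : ∀ a : Fin 3, (![(ζ : F), ζ, ((ζ ^ 2)⁻¹ : Fˣ)] a) ^ r = 1 := by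
            intro a
            fin_cases a
            · exact hz
            · exact hz
            · show (((ζ ^ 2)⁻¹ : Fˣ) : F) ^ r = 1
              rw [← Units.val_pow_eq_pow_val, inv_pow, ← pow_mul, mul_comm, pow_mul,
                show ζ ^ r = 1 from Units.ext (by simpa using hz), one_pow, inv_one, Units.val_one]
          intro a b
          rw [hu a, hu b]
    · obtain ⟨ζ, hζ⟩ := hunit r hdvd hr.ne_zero
      have hz : (ζ : F) ^ r = 1 := by rw [← Units.val_pow_eq_pow_val, ← hζ, pow_orderOf_eq_one]; rfl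
      let d : Fin n → F := fun i => if (i : ℕ) = 0 then (ζ : F) else if (i : ℕ) = 1 then ((ζ⁻¹ : Fˣ) : F) else 1
      refine main d ⟨2, by omega⟩ ⟨3, by omega⟩ (by simp) (by simp [d]) ?_ ⟨⟨0, by omega⟩, ⟨2, by omega⟩, ?_⟩ ?_
      · rw [Finset.prod_eq_mul (⟨0, by omega⟩ : Fin n) ⟨1, by omega⟩ (by simp)]
        · simp [d]
        · intro i _ hi
          simp only [ne_eq, Fin.ext_iff] at hi
          simp [d, hi.1, hi.2]
        · simp
        · simp
      · intro h
        simp [d] at h
        rw [h, orderOf_one] at hζ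
        exact hr.one_lt.ne hζ
      · have hu : ∀ a, d a ^ r = 1 := fun a => by simp only [d]; split_ifs <;> simp [hz]
        intro a b
        rw [hu, hu]

/-- Powers of an element of order `r p`. -/
theorem exists_commuting_of_order {G : Type*} [Group G] {r p : ℕ} (hr : r.Prime) (hp : p.Prime) {x : G}
    (hx : orderOf x = r * p) : ∃ a b : G, orderOf a = p ∧ orderOf b = r ∧ Commute a b := by
  refine ⟨x ^ r, x ^ p, ?_, ?_, Commute.pow_pow (Commute.refl x) r p⟩
  · rw [orderOf_pow' _ hr.ne_zero, hx, Nat.gcd_mul_right_left, Nat.mul_div_cancel_left _ hr.pos]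
  · rw [orderOf_pow' _ hp.ne_zero, hx, Nat.gcd_mul_left_left, Nat.mul_div_cancel _ hp.pos]

/-- No commuting pair when the primitive degree exceeds `n - 2`. -/
theorem false_of_large_degree (p : ℕ) [Fact p.Prime] [CharP F p] {n r : ℕ} (hr : r.Prime) (hrp : r ≠ p)
    (hn : 1 ≤ n) (hk : n ≤ orderOf (Fintype.card F : ZMod r) + 1) (hk2 : 2 ≤ orderOf (Fintype.card F : ZMod r))
    {a b : Matrix.ProjectiveSpecialLinearGroup (Fin n) F} (ha : orderOf a = p) (hb : orderOf b = r)
    (hab : Commute a b) : False := by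
  have := Fact.mk hr
  have hr1 : ¬ r ∣ Fintype.card F - 1 := fun h => by
    have := Nat.le_of_dvd one_pos ((dvd_pow_sub_one_iff Fintype.card_pos 1).1 (by simpa using h))
    omega
  obtain ⟨Y, hY, hYr⟩ := exists_pow_lift (fun z hz => sl_center_pow (F := F) hn hz)
    (prime_coprime_card_sub_one hr hr1) b (hb ▸ pow_orderOf_eq_one b)
  obtain ⟨X, hX, hXp, hXY⟩ := exists_lifts p hn (ha ▸ pow_orderOf_eq_one a) hab Y hY
  have hYr' : (Y : Matrix (Fin n) (Fin n) F) ^ r = 1 := congrArg Subtype.val hYr
  have hXp' : (X : Matrix (Fin n) (Fin n) F) ^ p = 1 := congrArg Subtype.val hXp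
  have hX1 := unipotent_commute_eq_one (A := (X : Matrix (Fin n) (Fin n) F)) (r := r)
    (by
      rw [Ne, CharP.cast_eq_zero_iff F p]
      exact fun h => hrp ((Nat.prime_dvd_prime_iff_eq Fact.out hr).1 h).symm)
    hk hk2 hYr'
    (fun h => hr.one_lt.ne (by
      rw [← hb, ← hY, show Y = 1 from Subtype.ext h, QuotientGroup.mk_one, orderOf_one]))
    (nilpotent_sub_one_of_pow_char p hXp') (congrArg Subtype.val hXY)
  rw [← hX, show X = 1 from Subtype.ext hX1, QuotientGroup.mk_one, orderOf_one] at ha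
  exact (Fact.out : p.Prime).one_lt.ne ha

/-- The prime-graph criterion. -/
theorem not_mem_range_iff (p : ℕ) [Fact p.Prime] [CharP F p] {n r : ℕ} (hn : 2 ≤ n) (hr : r.Prime) (hrp : r ≠ p) :
    (r * p ∉ Set.range (orderOf : Matrix.ProjectiveSpecialLinearGroup (Fin n) F → ℕ)) ↔
      (n - 2 < orderOf (Fintype.card F : ZMod r) ∨
        (n = 3 ∧ r = 3 ∧ 3 ∣ Fintype.card F - 1 ∧ ¬ 9 ∣ Fintype.card F - 1)) := by
  classical
  have := Fact.mk hr
  have hrq : ¬ r ∣ Fintype.card F := not_dvd_card_of_prime_ne p hr hrp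
  have hk0 := orderOf_natCast_pos (r := r) hrq
  have hr0 : (r : F) ≠ 0 := by
    rw [Ne, CharP.cast_eq_zero_iff F p]
    exact fun h => hrp ((Nat.prime_dvd_prime_iff_eq Fact.out hr).1 h).symm
  constructor
  · intro h
    by_contra hc
    rw [not_or, not_lt] at hc
    exact h (exists_order_rp p hr hrp hc.1 (by omega) hc.2)
  · rintro h ⟨x, hx⟩
    obtain ⟨a, b, ha, hb, hab⟩ := exists_commuting_of_order hr Fact.out hx
    have hcases : (n = 2 ∨ n = 3 ∧ r = 3 ∧ 3 ∣ Fintype.card F - 1 ∧ ¬ 9 ∣ Fintype.card F - 1) ∨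
        (n ≤ orderOf (Fintype.card F : ZMod r) + 1 ∧ 2 ≤ orderOf (Fintype.card F : ZMod r)) := by
      rcases h with h | h
      · rcases Nat.eq_or_lt_of_le hn with h' | h'
        · exact Or.inl (Or.inl h'.symm)
        · exact Or.inr ⟨by omega, by omega⟩
      · exact Or.inl (Or.inr h)
    rcases hcases with hsmall | ⟨hk1, hk2⟩
    · obtain ⟨Y, hY⟩ := QuotientGroup.mk_surjective b
      obtain ⟨X, hX, hXp, hXY⟩ := exists_lifts p (by omega) (ha ▸ pow_orderOf_eq_one a) hab Y hY
      have hA := nilpotent_sub_one_of_pow_char p (show (X : Matrix (Fin n) (Fin n) F) ^ p = 1 from congrArg Subtype.val hXp)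
      have hA1 : (X : Matrix (Fin n) (Fin n) F) ≠ 1 := fun h => by
        rw [← hX, show X = 1 from Subtype.ext h, QuotientGroup.mk_one, orderOf_one] at ha
        exact (Fact.out : p.Prime).one_lt.ne ha
      have hZ : Y ^ r ∈ Subgroup.center (Matrix.SpecialLinearGroup (Fin n) F) := by
        rw [← QuotientGroup.eq_one_iff, QuotientGroup.mk_pow, hY, ← hb, pow_orderOf_eq_one]
      obtain ⟨z, -, hz⟩ := Matrix.SpecialLinearGroup.mem_center_iff.1 hZ
      have hz' : (Y : Matrix (Fin n) (Fin n) F) ^ r = Matrix.scalar (Fin n) z := hz.symm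
      suffices ∃ c, (Y : Matrix (Fin n) (Fin n) F) = Matrix.scalar (Fin n) c by
        obtain ⟨c, hc⟩ := this
        rw [← hY, mk_eq_one_of_scalar hc, orderOf_one] at hb
        exact hr.one_lt.ne hb
      rcases hsmall with rfl | ⟨rfl, rfl, h3, h9⟩
      · exact eq_scalar_of_commute_two hr0 hA hA1 (congrArg Subtype.val hXY)
          (by rw [Y.2]; exact one_ne_zero) hz'
      · obtain ⟨ω, hω⟩ := exists_prime_orderOf_dvd_card (G := Fˣ) 3 (by rwa [Fintype.card_units])
        refine eq_scalar_of_commute_three (by exact_mod_cast hr0) ?_ (ω := (ω : F))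
          (by rw [← Units.val_pow_eq_pow_val, ← hω, pow_orderOf_eq_one]; rfl) ?_ hA hA1
          (congrArg Subtype.val hXY) Y.2 hz'
        · intro b hb9
          have hb0 : b ≠ 0 := fun h => by simp [h] at hb9
          by_contra hb3
          apply h9
          have ho : orderOf (Units.mk0 b hb0) = 9 := by
            have := orderOf_eq_prime_pow (p := 3) (n := 1) (x := Units.mk0 b hb0)
              (fun h => hb3 (by simpa [Units.ext_iff] using h)) (Units.ext (by simpa using hb9))
            simpa using this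
          rw [← ho, ← Fintype.card_units]
          exact orderOf_dvd_card
        · intro h
          rw [show ω = 1 from Units.ext h, orderOf_one] at hω
          omega
    · exact false_of_large_degree p hr hrp (by omega) hk1 hk2 ha hb hab

/-- Primes of elements commuting with an element of order `p`. -/
theorem primeFactors_commuting (p : ℕ) [Fact p.Prime] [CharP F p] {n : ℕ} (hn : 4 ≤ n)
    (a b : Matrix.ProjectiveSpecialLinearGroup (Fin n) F) (ha : orderOf a = p) (hab : Commute a b) :
    (orderOf b).primeFactors ⊆ (Nat.card (Matrix.SpecialLinearGroup (Fin (n - 2)) F)).primeFactors := by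
  classical
  intro r hr
  obtain ⟨hrP, hrd, hb0⟩ := Nat.mem_primeFactors.1 hr
  refine Nat.mem_primeFactors.2 ⟨hrP, ?_, Nat.card_pos.ne'⟩
  have := Fact.mk hrP
  by_cases hrp : r = p
  · have hij : (⟨0, by omega⟩ : Fin (n - 2)) ≠ ⟨1, by omega⟩ := by simp
    have h1 : Matrix.SpecialLinearGroup.transvection hij (1 : F) ≠ 1 := fun h => by
      have := congrArg (fun X : Matrix.SpecialLinearGroup (Fin (n - 2)) F =>
        (X : Matrix (Fin (n - 2)) (Fin (n - 2)) F) ⟨0, by omega⟩ ⟨1, by omega⟩) h
      simp [Matrix.SpecialLinearGroup.transvection_coe, Matrix.transvection, hij] at this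
    rw [hrp, ← orderOf_eq_prime (transvection_pow (F := F) p hij) h1]
    exact orderOf_dvd_natCard _
  have hrq : ¬ r ∣ Fintype.card F := not_dvd_card_of_prime_ne p hrP hrp
  rcases Nat.lt_or_ge (n - 2) (orderOf (Fintype.card F : ZMod r)) with hk | hk
  · exfalso
    obtain ⟨j, hj⟩ := hrd
    have hb : orderOf (b ^ j) = r := by
      rw [orderOf_pow' _ (by rintro rfl; simp [hj] at hb0), hj, Nat.gcd_mul_left_left,
        Nat.mul_div_cancel _ (Nat.pos_of_ne_zero (by rintro rfl; simp [hj] at hb0))]
    exact false_of_large_degree p hrP hrp (by omega) (by omega) (by omega) ha hb (hab.pow_right j)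
  · exact dvd_card_SL_of_order_le hrq (by omega) hk

end Cfsg.Agent.H66
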