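/-
Elements of order `r s` for two primes prime to `q - 1` in `PSL_n(q)`.
-/
import Cfsg.Agent.H66.PSLAdjacent
import Mathlib.FieldTheory.Finite.Extension

set_option autoImplicit false

open Polynomial Matrix Module

namespace Cfsg.Agent.H66

variable {F : Type*} [Field F] [Fintype F]

/-- Orders prime to `q - 1` survive in `PSL`. -/
theorem orderOf_mk_of_coprime {n : ℕ} (hn : 1 ≤ n) {X : Matrix.SpecialLinearGroup (Fin n) F}
    (hX : (orderOf X).Coprime (Fintype.card F - 1)) :
    orderOf (QuotientGroup.mk X : Matrix.ProjectiveSpecialLinearGroup (Fin n) F) = orderOf X := by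
  apply Nat.dvd_antisymm
  · exact orderOf_dvd_of_pow_eq_one (by rw [← QuotientGroup.mk_pow, pow_orderOf_eq_one, QuotientGroup.mk_one])
  · refine hX.dvd_of_dvd_mul_right (orderOf_dvd_of_pow_eq_one ?_)
    rw [pow_mul]
    refine sl_center_pow hn ?_
    rw [← QuotientGroup.eq_one_iff, QuotientGroup.mk_pow, pow_orderOf_eq_one]

/-- A divisor of `q ^ l - 1` prime to `q - 1` is an order in `SL_l`. -/
theorem exists_SL_orderOf {l m : ℕ} (hl : 0 < l) (hm : m ∣ Fintype.card F ^ l - 1) (hm0 : m ≠ 0)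
    (hco : m.Coprime (Fintype.card F - 1)) :
    ∃ X : Matrix.SpecialLinearGroup (Fin l) F, orderOf X = m := by
  classical
  obtain ⟨p, hchar⟩ := CharP.exists F
  have hpp : p.Prime := (CharP.char_is_prime_or_zero F p).resolve_right fun h => by
    subst h; have := CharP.charP_to_charZero F; exact not_finite F
  have := Fact.mk hpp
  have : NeZero l := ⟨hl.ne'⟩
  let L := FiniteField.Extension F p l
  have : Finite L := Module.finite_of_finite F
  have := Fintype.ofFinite L
  have hcard : Fintype.card Lˣ = Fintype.card F ^ l - 1 := by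
    rw [Fintype.card_units, Fintype.card_eq_nat_card, Fintype.card_eq_nat_card, FiniteField.natCard_extension]
  obtain ⟨x, hx⟩ := IsCyclic.exists_ofOrder_eq_natCard (α := Lˣ)
  rw [Nat.card_eq_fintype_card, hcard] at hx
  obtain ⟨j, hj⟩ := hm
  have hj0 : j ≠ 0 := by
    rintro rfl
    rw [mul_zero] at hj
    have := orderOf_pos x
    omega
  have hy : orderOf (x ^ j) = m := by
    rw [orderOf_pow' _ hj0, hx, hj, Nat.gcd_mul_left_left, Nat.mul_div_cancel _ (Nat.pos_of_ne_zero hj0)]
  let b : Basis (Fin l) F L := Module.finBasisOfFinrankEq F L (FiniteField.finrank_extension F p l)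
  have hdet : (Algebra.leftMulMatrix b ((x ^ j : Lˣ) : L)).det = 1 := by
    let δ : Fˣ := Units.map ((Matrix.detMonoidHom (R := F) (n := Fin l)).comp (Algebra.leftMulMatrix b).toMonoidHom) (x ^ j)
    have h1 : δ ^ m = 1 := by rw [← map_pow, ← hy, pow_orderOf_eq_one, map_one]
    have h2 : δ ^ (Fintype.card F - 1) = 1 := by rw [← Fintype.card_units]; exact pow_card_eq_one
    have h3 := pow_gcd_eq_one.2 ⟨h1, h2⟩
    rw [hco.gcd_eq_one, pow_one] at h3
    exact congrArg Units.val h3
  refine ⟨⟨_, hdet⟩, ?_⟩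
  rw [← hy]
  set Y : Matrix.SpecialLinearGroup (Fin l) F := ⟨_, hdet⟩ with hY
  have key : ∀ i : ℕ, (Y ^ i = 1 ↔ (x ^ j) ^ i = 1) := by
    intro i
    have h1 : Algebra.leftMulMatrix b (((x ^ j) ^ i : Lˣ) : L) = 1 ↔ (x ^ j) ^ i = 1 := by
      rw [map_eq_one_iff _ (Algebra.leftMulMatrix_injective b), Units.val_eq_one]
    rw [← h1, Units.val_pow_eq_pow_val, map_pow]
    exact ⟨fun h => congrArg Subtype.val h, fun h => Subtype.ext h⟩
  exact Nat.dvd_antisymm (orderOf_dvd_of_pow_eq_one ((key _).2 (pow_orderOf_eq_one _)))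
    (orderOf_dvd_of_pow_eq_one ((key _).1 (pow_orderOf_eq_one _)))

/-- No commuting pair of elements of orders `r`, `s` when `k + l > n`, `k ∤ l`. -/
theorem commute_two_primes_eq_one {r s : ℕ} [Fact r.Prime] [Fact s.Prime] (hr0 : (r : F) ≠ 0) (hs0 : (s : F) ≠ 0)
    {n : ℕ} {R S : Matrix (Fin n) (Fin n) F}
    (hkl : orderOf (Fintype.card F : ZMod r) ≤ orderOf (Fintype.card F : ZMod s))
    (hn : n < orderOf (Fintype.card F : ZMod r) + orderOf (Fintype.card F : ZMod s))
    (hdvd : ¬ orderOf (Fintype.card F : ZMod r) ∣ orderOf (Fintype.card F : ZMod s))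
    (hR : R ^ r = 1) (hS : S ^ s = 1) (hS1 : S ≠ 1) (hRS : R * S = S * R) : R = 1 := by
  set k := orderOf (Fintype.card F : ZMod r) with hkdef
  set l := orderOf (Fintype.card F : ZMod s) with hldef
  set a : Module.End F (Fin n → F) := Matrix.toLinAlgEquiv' R with ha
  set b : Module.End F (Fin n → F) := Matrix.toLinAlgEquiv' S with hb
  have har : a ^ r = 1 := by rw [ha, ← map_pow, hR, map_one]
  have hbs : b ^ s = 1 := by rw [hb, ← map_pow, hS, map_one]
  have hab : ∀ v, a (b v) = b (a v) := fun v => by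
    rw [← Module.End.mul_apply, ← Module.End.mul_apply, ha, hb, ← map_mul, hRS, map_mul]
  have hfix : ∀ (c : Module.End F (Fin n → F)) (m : ℕ), c ^ m = 1 → (m : F) ≠ 0 →
      ∀ w ∈ LinearMap.range (c - 1), c w = w → w = 0 := by
    rintro c m hc hm w ⟨v, hv⟩ hw
    have h1 : (∑ i ∈ Finset.range m, c ^ i) * (c - 1) = 0 := by
      rw [geom_sum_mul, hc, sub_self]
    have h2 : ∀ i : ℕ, (c ^ i) w = w := fun i => by
      induction i with
      | zero => rfl
      | succ i ih => rw [pow_succ, Module.End.mul_apply, hw, ih]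
    have h3 := LinearMap.congr_fun h1 v
    rw [Module.End.mul_apply, hv, LinearMap.sum_apply, Finset.sum_congr rfl fun i _ => h2 i,
      Finset.sum_const, Finset.card_range, ← Nat.cast_smul_eq_nsmul F] at h3
    exact (smul_eq_zero.1 h3).resolve_left hm
  have hdimA : ∀ Y : Submodule F (Fin n → F), Y ≤ LinearMap.range (a - 1) → (∀ y ∈ Y, a y ∈ Y) →
      k ∣ finrank F Y := by
    intro Y hYW hY
    refine orderOf_dvd_finrank_of_fpf (a.restrict hY) ?_ fun w hw => ?_
    · rw [Module.End.pow_restrict]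
      refine LinearMap.ext fun w => Subtype.ext ?_
      simp [har]
    · exact Subtype.ext (hfix a r har hr0 w.1 (hYW w.2) (congrArg Subtype.val hw))
  have hdimB : ∀ Y : Submodule F (Fin n → F), Y ≤ LinearMap.range (b - 1) → (∀ y ∈ Y, b y ∈ Y) →
      l ∣ finrank F Y := by
    intro Y hYW hY
    refine orderOf_dvd_finrank_of_fpf (b.restrict hY) ?_ fun w hw => ?_
    · rw [Module.End.pow_restrict]
      refine LinearMap.ext fun w => Subtype.ext ?_
      simp [hbs]
    · exact Subtype.ext (hfix b s hbs hs0 w.1 (hYW w.2) (congrArg Subtype.val hw))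
  set U := LinearMap.ker (b - 1) with hU
  set W := LinearMap.range (b - 1) with hW
  have hWb : ∀ w ∈ W, b w ∈ W := by
    rintro w ⟨v, rfl⟩
    exact ⟨b v, by simp⟩
  have hWa : ∀ w ∈ W, a w ∈ W := by
    rintro w ⟨v, rfl⟩
    exact ⟨a v, by simp [hab]⟩
  have hUa : ∀ w ∈ U, a w ∈ U := fun w hw => by
    simp only [hU, LinearMap.mem_ker, LinearMap.sub_apply, Module.End.one_apply, sub_eq_zero] at hw ⊢
    rw [← hab, hw]
  have hsum : finrank F W + finrank F U = n := by
    rw [hW, hU, LinearMap.finrank_range_add_finrank_ker, Module.finrank_pi, Fintype.card_fin]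
  have hW0 : finrank F W ≠ 0 := fun h => hS1 (by
    rw [Submodule.finrank_eq_zero, hW, LinearMap.range_eq_bot, sub_eq_zero, hb,
      ← map_one Matrix.toLinAlgEquiv'] at h
    exact Matrix.toLinAlgEquiv'.injective h)
  have hWl : finrank F W = l := by
    obtain ⟨c, hc⟩ := hdimB W le_rfl hWb
    rcases c with _ | _ | c
    · rw [mul_zero] at hc; exact absurd hc hW0
    · rw [hc]; ring
    · have : l * 2 ≤ l * (c + 1 + 1) := Nat.mul_le_mul_left _ (by omega)
      omega
  have hmapA : ∀ X : Submodule F (Fin n → F), (∀ y ∈ X, a y ∈ X) →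
      X.map (a - 1) ≤ X ∧ k ∣ finrank F (X.map (a - 1)) := by
    intro X hX
    refine ⟨?_, hdimA _ LinearMap.map_le_range ?_⟩
    · rintro y ⟨x, hx, rfl⟩
      exact X.sub_mem (hX x hx) hx
    · rintro y ⟨x, hx, rfl⟩
      exact ⟨a x, hX x hx, by simp⟩
  have hzero : ∀ X : Submodule F (Fin n → F), X.map (a - 1) = ⊥ → ∀ x ∈ X, (a - 1) x = 0 := fun X h x hx => by
    rw [← Submodule.mem_bot F, ← h]
    exact Submodule.mem_map_of_mem hx
  have hU0 : U.map (a - 1) = ⊥ := by
    obtain ⟨hle, hk⟩ := hmapA U hUa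
    exact Submodule.finrank_eq_zero.1
      (Nat.eq_zero_of_dvd_of_lt hk (lt_of_le_of_lt (Submodule.finrank_mono hle) (by omega)))
  have hW1 : W.map (a - 1) = ⊥ := by
    obtain ⟨hle, hk⟩ := hmapA W hWa
    have hl' : l ∣ finrank F (W.map (a - 1)) := hdimB _ hle (by
      rintro y ⟨x, hx, rfl⟩
      exact ⟨b x, hWb x hx, by simp [hab]⟩)
    have hle' := Submodule.finrank_mono hle
    obtain ⟨c, hc⟩ := hl'
    rcases c with _ | c
    · exact Submodule.finrank_eq_zero.1 (by rw [hc, mul_zero])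
    · have h1 : l ≤ l * (c + 1) := Nat.le_mul_of_pos_right _ (by omega)
      exact absurd (show k ∣ l by rwa [show finrank F (W.map (a - 1)) = l by omega] at hk) hdvd
  have hdis : W ⊓ U = ⊥ := by
    rw [eq_bot_iff]
    rintro w ⟨hw, hw'⟩
    have hw'' : (b - 1) w = 0 := hw'
    rw [LinearMap.sub_apply, Module.End.one_apply, sub_eq_zero] at hw''
    exact (Submodule.mem_bot F).2 (hfix b s hbs hs0 w hw hw'')
  have htop : W ⊔ U = ⊤ := Submodule.eq_top_of_finrank_eq (by
    have := Submodule.finrank_sup_add_finrank_inf_eq W U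
    rw [hdis, finrank_bot, add_zero] at this
    rw [this, hsum, Module.finrank_pi, Fintype.card_fin])
  have hN0 : a - 1 = 0 := LinearMap.ext fun v => by
    obtain ⟨w, hw, u, hu, rfl⟩ := Submodule.mem_sup.1 (htop ▸ Submodule.mem_top : v ∈ W ⊔ U)
    rw [map_add, hzero W hW1 w hw, hzero U hU0 u hu, add_zero]; rfl
  rw [sub_eq_zero, ha, ← map_one Matrix.toLinAlgEquiv'] at hN0
  exact Matrix.toLinAlgEquiv'.injective hN0

/-- The prime graph criterion for two primes prime to `q (q - 1)`. -/
theorem not_mem_range_two_primes_iff (p : ℕ) [Fact p.Prime] [CharP F p] {n r s : ℕ} (hn : 1 ≤ n)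
    (hr : r.Prime) (hs : s.Prime) (hrp : r ≠ p) (hsp : s ≠ p) (hrs : r ≠ s)
    (hrG : r ∣ Nat.card (Matrix.ProjectiveSpecialLinearGroup (Fin n) F))
    (hsG : s ∣ Nat.card (Matrix.ProjectiveSpecialLinearGroup (Fin n) F))
    (h2k : 2 ≤ orderOf (Fintype.card F : ZMod r))
    (hkl : orderOf (Fintype.card F : ZMod r) ≤ orderOf (Fintype.card F : ZMod s)) :
    (r * s ∉ Set.range (orderOf : Matrix.ProjectiveSpecialLinearGroup (Fin n) F → ℕ)) ↔
      (n < orderOf (Fintype.card F : ZMod r) + orderOf (Fintype.card F : ZMod s) ∧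
        ¬ orderOf (Fintype.card F : ZMod r) ∣ orderOf (Fintype.card F : ZMod s)) := by
  classical
  have := Fact.mk hr
  have := Fact.mk hs
  set k := orderOf (Fintype.card F : ZMod r) with hkdef
  set l := orderOf (Fintype.card F : ZMod s) with hldef
  have hr1 : ¬ r ∣ Fintype.card F - 1 := fun h => by
    have := Nat.le_of_dvd one_pos ((dvd_pow_sub_one_iff (r := r) Fintype.card_pos 1).1 (by simpa using h))
    omega
  have hs1 : ¬ s ∣ Fintype.card F - 1 := fun h => by
    have := Nat.le_of_dvd one_pos ((dvd_pow_sub_one_iff (r := s) Fintype.card_pos 1).1 (by simpa using h))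
    omega
  have hco : (r * s).Coprime (Fintype.card F - 1) :=
    Nat.Coprime.mul_left (prime_coprime_card_sub_one hr hr1) (prime_coprime_card_sub_one hs hs1)
  have hcop : r.Coprime s := (Nat.coprime_primes hr hs).2 hrs
  have hchar : ∀ t : ℕ, t.Prime → t ≠ p → (t : F) ≠ 0 := fun t ht htp => by
    rw [Ne, CharP.cast_eq_zero_iff F p]
    exact fun h => htp ((Nat.prime_dvd_prime_iff_eq Fact.out ht).1 h).symm
  have hlift : ∀ t : ℕ, t.Prime → t ≠ p → ¬ t ∣ Fintype.card F - 1 →
      t ∣ Nat.card (Matrix.ProjectiveSpecialLinearGroup (Fin n) F) →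
      orderOf (Fintype.card F : ZMod t) ≤ n := by
    intro t ht htp ht1 htG
    have := Fact.mk ht
    have : Finite (Matrix.ProjectiveSpecialLinearGroup (Fin n) F) := Quotient.finite _
    obtain ⟨x, hx⟩ := exists_prime_orderOf_dvd_card' t htG
    obtain ⟨X, hX, hXt⟩ := exists_pow_lift (fun z hz => sl_center_pow (F := F) hn hz)
      (prime_coprime_card_sub_one ht ht1) x (hx ▸ pow_orderOf_eq_one x)
    set c : Module.End F (Fin n → F) := Matrix.toLinAlgEquiv' (X : Matrix (Fin n) (Fin n) F) with hc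
    have hct : c ^ t = 1 := by
      rw [hc, ← map_pow, show (X : Matrix (Fin n) (Fin n) F) ^ t = 1 from congrArg Subtype.val hXt, map_one]
    have hW0 : LinearMap.range (c - 1) ≠ ⊥ := fun h => ht.one_lt.ne (by
      rw [LinearMap.range_eq_bot, sub_eq_zero, hc, ← map_one Matrix.toLinAlgEquiv'] at h
      rw [← hx, ← hX, show X = 1 from Subtype.ext (Matrix.toLinAlgEquiv'.injective h), QuotientGroup.mk_one,
        orderOf_one])
    have hY : ∀ y ∈ LinearMap.range (c - 1), c y ∈ LinearMap.range (c - 1) := by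
      rintro w ⟨v, rfl⟩
      exact ⟨c v, by simp⟩
    have hdvd : orderOf (Fintype.card F : ZMod t) ∣ finrank F (LinearMap.range (c - 1)) := by
      refine orderOf_dvd_finrank_of_fpf (c.restrict hY) ?_ fun w hw => ?_
      · rw [Module.End.pow_restrict]
        refine LinearMap.ext fun w => Subtype.ext ?_
        simp [hct]
      · obtain ⟨v, hv⟩ := w.2
        have h1 : (∑ i ∈ Finset.range t, c ^ i) * (c - 1) = 0 := by rw [geom_sum_mul, hct, sub_self]
        have h2 : ∀ i : ℕ, (c ^ i) w.1 = w.1 := fun i => by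
          induction i with
          | zero => rfl
          | succ i ih => rw [pow_succ, Module.End.mul_apply, show c w.1 = w.1 from congrArg Subtype.val hw, ih]
        have h3 := LinearMap.congr_fun h1 v
        rw [Module.End.mul_apply, hv, LinearMap.sum_apply, Finset.sum_congr rfl fun i _ => h2 i,
          Finset.sum_const, Finset.card_range, ← Nat.cast_smul_eq_nsmul F] at h3
        exact Subtype.ext ((smul_eq_zero.1 h3).resolve_left (hchar t ht htp))
    have hle := Submodule.finrank_le (LinearMap.range (c - 1))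
    rw [Module.finrank_pi, Fintype.card_fin] at hle
    exact (Nat.le_of_dvd (Nat.pos_of_ne_zero fun h => hW0 (Submodule.finrank_eq_zero.1 h)) hdvd).trans hle
  have hkn := hlift r hr hrp hr1 hrG
  have hln := hlift s hs hsp hs1 hsG
  rw [← hkdef] at hkn
  rw [← hldef] at hln
  have hmem : (∃ X : Matrix.SpecialLinearGroup (Fin n) F, orderOf X = r * s) →
      r * s ∈ Set.range (orderOf : Matrix.ProjectiveSpecialLinearGroup (Fin n) F → ℕ) := by
    rintro ⟨X, hX⟩
    exact ⟨QuotientGroup.mk X, (orderOf_mk_of_coprime hn (hX ▸ hco)).trans hX⟩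
  constructor
  · intro h
    by_contra hc
    rw [not_and_or, not_lt, not_not] at hc
    apply h
    apply hmem
    rcases hc with hc | hc
    · obtain ⟨C, hC⟩ := exists_SL_orderOf (F := F) (l := k) (by omega)
        ((dvd_pow_sub_one_iff Fintype.card_pos _).2 dvd_rfl) hr.ne_zero (prime_coprime_card_sub_one hr hr1)
      obtain ⟨D, hD⟩ := exists_SL_orderOf (F := F) (l := l) (by omega)
        ((dvd_pow_sub_one_iff Fintype.card_pos _).2 dvd_rfl) hs.ne_zero (prime_coprime_card_sub_one hs hs1)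
      obtain ⟨ψ⟩ : Nonempty (Fin (k + l) ⊕ Fin (n - (k + l)) ≃ Fin n) :=
        ⟨Fintype.equivOfCardEq (by simp; omega)⟩
      refine ⟨slPair ψ (slPair finSumFinEquiv (C, D), 1), ?_⟩
      rw [orderOf_injective _ (slPair_injective ψ), Prod.orderOf, orderOf_one, Nat.lcm_one_right,
        orderOf_injective _ (slPair_injective _), Prod.orderOf, hC, hD, hcop.lcm_eq_mul]
    · obtain ⟨C, hC⟩ := exists_SL_orderOf (F := F) (l := l) (by omega)
        (hcop.mul_dvd_of_dvd_of_dvd ((dvd_pow_sub_one_iff Fintype.card_pos _).2 hc)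
          ((dvd_pow_sub_one_iff Fintype.card_pos _).2 dvd_rfl))
        (Nat.mul_ne_zero hr.ne_zero hs.ne_zero) hco
      obtain ⟨ψ⟩ : Nonempty (Fin l ⊕ Fin (n - l) ≃ Fin n) := ⟨Fintype.equivOfCardEq (by simp; omega)⟩
      refine ⟨slPair ψ (C, 1), ?_⟩
      rw [orderOf_injective _ (slPair_injective ψ), Prod.orderOf, orderOf_one, Nat.lcm_one_right, hC]
  · rintro ⟨hnkl, hdvd⟩ ⟨x, hx⟩
    obtain ⟨X, hX, hXp⟩ := exists_pow_lift (fun z hz => sl_center_pow (F := F) hn hz) hco x
      (hx ▸ pow_orderOf_eq_one x)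
    have hne : ∀ e, 0 < e → e < r * s → (X : Matrix (Fin n) (Fin n) F) ^ e ≠ 1 := fun e he he' h => by
      have h1 : x ^ e = 1 := by
        rw [← hX, ← QuotientGroup.mk_pow, show X ^ e = 1 from Subtype.ext h, QuotientGroup.mk_one]
      have := Nat.le_of_dvd he (orderOf_dvd_of_pow_eq_one h1)
      omega
    have hXp' : (X : Matrix (Fin n) (Fin n) F) ^ (r * s) = 1 := congrArg Subtype.val hXp
    refine hne s hs.pos (lt_mul_left hs.pos hr.one_lt) ?_
    refine commute_two_primes_eq_one (hchar r hr hrp) (hchar s hs hsp) hkl hnkl hdvd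
      (S := (X : Matrix (Fin n) (Fin n) F) ^ r) ?_ ?_ (hne r hr.pos (lt_mul_right hr.pos hs.one_lt)) ?_
    · rw [← pow_mul, mul_comm, hXp']
    · rw [← pow_mul, hXp']
    · exact pow_mul_comm _ _ _

end Cfsg.Agent.H66
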