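/-
The decomposition of the permutation character of `SL_n(q)` on non-zero vectors.
-/
import Cfsg.Agent.H57.VChar
import Mathlib.GroupTheory.FiniteAbelian.Duality
import Mathlib.Analysis.Complex.Polynomial.Basic
import Mathlib.RingTheory.RootsOfUnity.AlgebraicallyClosed
import Mathlib.LinearAlgebra.PID

set_option autoImplicit false

open Matrix
open scoped ComplexConjugate
open Cfsg.Agent.H26

namespace Cfsg.Agent.H66.VecChar

/-- Fibres of an orbit map have equal size. -/
theorem card_fibre_mul {G α : Type*} [Group G] [Fintype G] [DecidableEq α] (act : G → α → α)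
    (hmul : ∀ g h a, act (g * h) a = act g (act h a)) (S : Finset α)
    (hS : ∀ g, ∀ a ∈ S, act g a ∈ S) (htr : ∀ a ∈ S, ∀ b ∈ S, ∃ g, act g a = b)
    {a b : α} (ha : a ∈ S) (hb : b ∈ S) :
    (Finset.univ.filter fun g => act g a = b).card * S.card = Fintype.card G := by
  classical
  have h1 : (Finset.univ : Finset G).card =
      ∑ c ∈ S, (Finset.univ.filter fun g => act g a = c).card :=
    Finset.card_eq_sum_card_fiberwise fun g _ => hS g a ha
  rw [Finset.card_univ] at h1
  rw [h1, mul_comm, ← smul_eq_mul, ← Finset.sum_const]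
  refine Finset.sum_congr rfl fun c hc => ?_
  obtain ⟨x, hx⟩ := htr b hb c hc
  obtain ⟨y, hy⟩ := htr c hc a ha
  obtain ⟨u, hu⟩ := htr a ha b hb
  apply le_antisymm
  · exact Finset.card_le_card_of_injOn (fun g => x * g)
      (fun g hg => by
        have hg' := (Finset.mem_filter.1 hg).2
        exact Finset.mem_filter.2 ⟨Finset.mem_univ _, by rw [hmul, hg', hx]⟩)
      (fun _ _ _ _ h => mul_left_cancel h)
  · exact Finset.card_le_card_of_injOn (fun g => (u * y) * g)
      (fun g hg => by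
        have hg' := (Finset.mem_filter.1 hg).2
        exact Finset.mem_filter.2 ⟨Finset.mem_univ _, by rw [hmul, hmul, hg', hy, hu]⟩)
      (fun _ _ _ _ h => mul_left_cancel h)

variable {F : Type*} [Field F] [Fintype F] [DecidableEq F] {n : ℕ}

/-- The action by multiplication. -/
def act (g : Matrix.SpecialLinearGroup (Fin n) F) (v : Fin n → F) : Fin n → F :=
  (g : Matrix (Fin n) (Fin n) F) *ᵥ v

omit [Fintype F] [DecidableEq F] in
theorem act_mul (g h : Matrix.SpecialLinearGroup (Fin n) F) (v : Fin n → F) :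
    act (g * h) v = act g (act h v) := by
  simp [act, Matrix.mulVec_mulVec]

omit [Fintype F] [DecidableEq F] in
theorem act_one (v : Fin n → F) : act 1 v = v := by simp [act]

omit [Fintype F] [DecidableEq F] in
theorem act_smul (g : Matrix.SpecialLinearGroup (Fin n) F) (c : F) (v : Fin n → F) :
    act g (c • v) = c • act g v := by
  simp [act, Matrix.mulVec_smul]

omit [Fintype F] [DecidableEq F] in
theorem act_eq_zero (g : Matrix.SpecialLinearGroup (Fin n) F) (v : Fin n → F) : act g v = 0 ↔ v = 0 := by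
  constructor
  · intro h
    rw [← act_one v, ← inv_mul_cancel g, act_mul, h]
    simp [act]
  · rintro rfl
    simp [act]

omit [Fintype F] [DecidableEq F] in
/-- An invertible matrix with two given first columns. -/
theorem exists_columns (hn : 2 ≤ n) {v w : Fin n → F} (h : LinearIndependent F ![v, w]) :
    ∃ P : Matrix (Fin n) (Fin n) F, P.det ≠ 0 ∧ P *ᵥ Pi.single (⟨0, by omega⟩ : Fin n) 1 = v ∧
      P *ᵥ Pi.single (⟨1, by omega⟩ : Fin n) 1 = w := by
  classical
  let b := Module.Basis.sumExtend h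
  have : Finite (Fin 2 ⊕ Module.Basis.sumExtendIndex h) := Module.Finite.finite_basis b
  have : Finite ↥(Module.Basis.sumExtendIndex h) := Finite.sum_right (Fin 2)
  have := Fintype.ofFinite ↥(Module.Basis.sumExtendIndex h)
  have hc : Fintype.card ↥(Module.Basis.sumExtendIndex h) = n - 2 := by
    have := Module.finrank_eq_card_basis b
    rw [Module.finrank_pi, Fintype.card_fin, Fintype.card_sum, Fintype.card_fin] at this
    omega
  let e : Fin 2 ⊕ ↥(Module.Basis.sumExtendIndex h) ≃ Fin n :=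
    ((Equiv.refl (Fin 2)).sumCongr (Fintype.equivFinOfCardEq hc)).trans
      (finSumFinEquiv.trans (finCongr (by omega)))
  let B := b.reindex e
  have hB : ∀ i : Fin 2, B (e (Sum.inl i)) = ![v, w] i := fun i => by
    simp [B, b, Module.Basis.sumExtend]
    rfl
  refine ⟨(Pi.basisFun F (Fin n)).toMatrix B, ?_, ?_, ?_⟩
  · have := (Pi.basisFun F (Fin n)).invertibleToMatrix B
    exact ((Matrix.isUnit_iff_isUnit_det _).1 (isUnit_of_invertible _)).ne_zero
  · rw [Matrix.mulVec_single_one]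
    funext i
    rw [Matrix.col_apply, Module.Basis.toMatrix_apply, Pi.basisFun_repr,
      show (⟨0, by omega⟩ : Fin n) = e (Sum.inl 0) from Fin.ext rfl, hB]
    rfl
  · rw [Matrix.mulVec_single_one]
    funext i
    rw [Matrix.col_apply, Module.Basis.toMatrix_apply, Pi.basisFun_repr,
      show (⟨1, by omega⟩ : Fin n) = e (Sum.inl 1) from Fin.ext rfl, hB]
    rfl

omit [Fintype F] [DecidableEq F] in
/-- `SL_n` is transitive on independent pairs for `n ≥ 3`. -/
theorem exists_map_pair (hn : 3 ≤ n) {v w v' w' : Fin n → F} (h : LinearIndependent F ![v, w])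
    (h' : LinearIndependent F ![v', w']) :
    ∃ g : Matrix.SpecialLinearGroup (Fin n) F, act g v = v' ∧ act g w = w' := by
  classical
  obtain ⟨P, hP, hP0, hP1⟩ := exists_columns (by omega) h
  obtain ⟨Q, hQ, hQ0, hQ1⟩ := exists_columns (by omega) h'
  let d : Fin n → F := fun i => if (i : ℕ) = 2 then P.det / Q.det else 1
  have hd : (Matrix.diagonal d).det = P.det / Q.det := by
    rw [Matrix.det_diagonal, Finset.prod_eq_single (⟨2, by omega⟩ : Fin n)]
    · simp [d]
    · intro i _ hi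
      simp only [ne_eq, Fin.ext_iff] at hi
      simp [d, hi]
    · simp
  have hu : IsUnit P.det := isUnit_iff_ne_zero.2 hP
  refine ⟨⟨Q * Matrix.diagonal d * P⁻¹, ?_⟩, ?_, ?_⟩
  · rw [Matrix.det_mul, Matrix.det_mul, hd, Matrix.det_nonsing_inv, Ring.inverse_eq_inv']
    field_simp
  · show (Q * Matrix.diagonal d * P⁻¹) *ᵥ v = v'
    rw [← hP0, Matrix.mulVec_mulVec, Matrix.mul_assoc _ P⁻¹ P, Matrix.nonsing_inv_mul _ hu, Matrix.mul_one,
      ← Matrix.mulVec_mulVec, Matrix.diagonal_mulVec_single]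
    simpa [d] using hQ0
  · show (Q * Matrix.diagonal d * P⁻¹) *ᵥ w = w'
    rw [← hP1, Matrix.mulVec_mulVec, Matrix.mul_assoc _ P⁻¹ P, Matrix.nonsing_inv_mul _ hu, Matrix.mul_one,
      ← Matrix.mulVec_mulVec, Matrix.diagonal_mulVec_single]
    simpa [d] using hQ1

omit [Fintype F] [DecidableEq F] in
theorem exists_indep (hn : 2 ≤ n) {v : Fin n → F} (hv : v ≠ 0) : ∃ w, LinearIndependent F ![v, w] := by
  by_contra h
  push Not at h
  have hle : (⊤ : Submodule F (Fin n → F)) ≤ F ∙ v := fun w _ => by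
    have := h w
    rw [LinearIndependent.pair_iff' hv] at this
    push Not at this
    obtain ⟨a, ha⟩ := this
    exact Submodule.mem_span_singleton.2 ⟨a, ha⟩
  have h2 := Submodule.finrank_mono hle
  rw [finrank_top, Module.finrank_pi, Fintype.card_fin, finrank_span_singleton hv] at h2
  omega

omit [Fintype F] [DecidableEq F] in
theorem exists_map_vec (hn : 3 ≤ n) {v v' : Fin n → F} (hv : v ≠ 0) (hv' : v' ≠ 0) :
    ∃ g : Matrix.SpecialLinearGroup (Fin n) F, act g v = v' := by
  obtain ⟨w, hw⟩ := exists_indep (by omega) hv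
  obtain ⟨w', hw'⟩ := exists_indep (by omega) hv'
  obtain ⟨g, hg, -⟩ := exists_map_pair hn hw hw'
  exact ⟨g, hg⟩

omit [Fintype F] [DecidableEq F] in
theorem indep_act (g : Matrix.SpecialLinearGroup (Fin n) F) {v w : Fin n → F} (h : LinearIndependent F ![v, w]) :
    LinearIndependent F ![act g v, act g w] := by
  rw [LinearIndependent.pair_iff] at h ⊢
  intro s t hst
  refine h s t ?_
  rw [← act_eq_zero g]
  simpa [act, Matrix.mulVec_add, Matrix.mulVec_smul] using hst

omit [Fintype F] [DecidableEq F] in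
theorem indep_smul {v w : Fin n → F} (h : LinearIndependent F ![v, w]) (c d : Fˣ) :
    LinearIndependent F ![(c : F) • v, (d : F) • w] := by
  rw [LinearIndependent.pair_iff] at h ⊢
  intro s t hst
  rw [smul_smul, smul_smul] at hst
  obtain ⟨h1, h2⟩ := h _ _ hst
  exact ⟨(mul_eq_zero.1 h1).resolve_right c.ne_zero, (mul_eq_zero.1 h2).resolve_right d.ne_zero⟩

variable (F n) in
/-- The non-zero vectors. -/
def nz : Finset (Fin n → F) := Finset.univ.filter (fun v => v ≠ 0)

/-- Non-zero eigenvectors of eigenvalue `c`. -/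
def eig (c : Fˣ) (g : Matrix.SpecialLinearGroup (Fin n) F) : Finset (Fin n → F) :=
  (nz F n).filter (fun v => act g v = (c : F) • v)

theorem mem_nz {v : Fin n → F} : v ∈ nz F n ↔ v ≠ 0 := by simp [nz]

/-- Total number of eigenvectors. -/
theorem sum_eig (hn : 3 ≤ n) (c : Fˣ) :
    ∑ g : Matrix.SpecialLinearGroup (Fin n) F, (eig c g).card = Fintype.card (Matrix.SpecialLinearGroup (Fin n) F) := by
  classical
  have hne : 0 < (nz F n).card := Finset.card_pos.2 ⟨Pi.single ⟨0, by omega⟩ 1, by simp [mem_nz]⟩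
  have h1 : ∀ v ∈ nz F n, (Finset.univ.filter fun g => act g v = (c : F) • v).card * (nz F n).card =
      Fintype.card (Matrix.SpecialLinearGroup (Fin n) F) := fun v hv =>
    card_fibre_mul act act_mul (nz F n) (fun g a ha => mem_nz.2 fun h => mem_nz.1 ha ((act_eq_zero g a).1 h))
      (fun a ha b hb => exists_map_vec hn (mem_nz.1 ha) (mem_nz.1 hb)) hv
      (mem_nz.2 (smul_ne_zero c.ne_zero (mem_nz.1 hv)))
  have h2 : ∑ g : Matrix.SpecialLinearGroup (Fin n) F, (eig c g).card =
      ∑ v ∈ nz F n, (Finset.univ.filter fun g => act g v = (c : F) • v).card := by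
    simp only [eig, Finset.card_filter]
    exact Finset.sum_comm
  apply Nat.eq_of_mul_eq_mul_right hne
  rw [h2, Finset.sum_mul, Finset.sum_congr rfl h1, Finset.sum_const, smul_eq_mul, mul_comm]

/-- Pairs of eigenvectors. -/
theorem sum_eig_mul (hn : 3 ≤ n) (c d : Fˣ) :
    ∑ g : Matrix.SpecialLinearGroup (Fin n) F, (eig c g).card * (eig d g).card =
      Fintype.card (Matrix.SpecialLinearGroup (Fin n) F) * ((if c = d then Fintype.card F - 1 else 0) + 1) := by
  classical
  set G := Matrix.SpecialLinearGroup (Fin n) F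
  let act2 : G → (Fin n → F) × (Fin n → F) → (Fin n → F) × (Fin n → F) := fun g x => (act g x.1, act g x.2)
  let N : (Fin n → F) × (Fin n → F) → ℕ := fun x =>
    (Finset.univ.filter fun g => act g x.1 = (c : F) • x.1 ∧ act g x.2 = (d : F) • x.2).card
  have h0 : ∑ g : G, (eig c g).card * (eig d g).card = ∑ x ∈ nz F n ×ˢ nz F n, N x := by
    have h : ∀ g : G, (eig c g).card * (eig d g).card =
        ((nz F n ×ˢ nz F n).filter fun x => act g x.1 = (c : F) • x.1 ∧ act g x.2 = (d : F) • x.2).card := fun g => by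
      rw [← Finset.card_product, eig, eig, ← Finset.filter_product]
    simp only [h, N, Finset.card_filter]
    exact Finset.sum_comm
  let I := (nz F n ×ˢ nz F n).filter fun x => LinearIndependent F ![x.1, x.2]
  let D := (nz F n ×ˢ nz F n).filter fun x => ¬ LinearIndependent F ![x.1, x.2]
  have hI : ∑ x ∈ I, N x = Fintype.card G := by
    obtain ⟨w, hw⟩ := exists_indep (F := F) (n := n) (by omega) (v := Pi.single ⟨0, by omega⟩ 1) (by simp)
    have hmem : ∀ x, x ∈ I ↔ LinearIndependent F ![x.1, x.2] := fun x => by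
      simp only [I, Finset.mem_filter, Finset.mem_product, mem_nz, and_iff_right_iff_imp]
      exact fun h => ⟨h.ne_zero 0, h.ne_zero 1⟩
    have hpos : 0 < I.card := Finset.card_pos.2 ⟨(_, w), (hmem _).2 hw⟩
    have h1 : ∀ x ∈ I, N x * I.card = Fintype.card G := by
      intro x hx
      have := card_fibre_mul act2 (fun g h a => Prod.ext (act_mul g h a.1) (act_mul g h a.2)) I
        (fun g a ha => (hmem _).2 (indep_act g ((hmem a).1 ha)))
        (fun a ha b hb => by
          obtain ⟨g, hg1, hg2⟩ := exists_map_pair hn ((hmem a).1 ha) ((hmem b).1 hb)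
          exact ⟨g, Prod.ext hg1 hg2⟩) hx
        ((hmem ((c : F) • x.1, (d : F) • x.2)).2 (indep_smul ((hmem x).1 hx) c d))
      rw [← this]
      refine congrArg (fun s => Finset.card s * I.card) (Finset.ext fun g => ?_)
      simp [act2]
    apply Nat.eq_of_mul_eq_mul_right hpos
    rw [Finset.sum_mul, Finset.sum_congr rfl h1, Finset.sum_const, smul_eq_mul, mul_comm]
  have hD : ∑ x ∈ D, N x = Fintype.card G * (if c = d then Fintype.card F - 1 else 0) := by
    have h1 : ∑ x ∈ D, N x = ∑ v ∈ nz F n, ∑ a : Fˣ, N (v, (a : F) • v) := by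
      rw [← Finset.sum_product']
      symm
      refine Finset.sum_bij (fun y _ => (y.1, (y.2 : F) • y.1)) ?_ ?_ ?_ (fun _ _ => rfl)
      · rintro ⟨v, a⟩ hy
        have hv := mem_nz.1 (Finset.mem_product.1 hy).1
        simp only [D, Finset.mem_filter, Finset.mem_product, mem_nz]
        refine ⟨⟨hv, smul_ne_zero a.ne_zero hv⟩, ?_⟩
        rw [LinearIndependent.pair_iff' hv]
        exact fun h => h a rfl
      · rintro ⟨v, a⟩ hy ⟨v', a'⟩ hy' h
        have hv := mem_nz.1 (Finset.mem_product.1 hy).1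
        simp only [Prod.mk.injEq] at h
        obtain ⟨rfl, h⟩ := h
        exact Prod.ext rfl (Units.ext (smul_left_injective F hv h))
      · rintro ⟨v, w⟩ hy
        simp only [D, Finset.mem_filter, Finset.mem_product, mem_nz] at hy
        obtain ⟨⟨hv, hw⟩, hli⟩ := hy
        rw [LinearIndependent.pair_iff' hv] at hli
        push Not at hli
        obtain ⟨a, ha⟩ := hli
        have ha0 : a ≠ 0 := by rintro rfl; exact hw (by rw [← ha, zero_smul])
        exact ⟨(v, Units.mk0 a ha0), Finset.mem_product.2 ⟨mem_nz.2 hv, Finset.mem_univ _⟩, Prod.ext rfl ha⟩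
    have h2 : ∀ v ∈ nz F n, ∀ a : Fˣ, N (v, (a : F) • v) =
        if c = d then (Finset.univ.filter fun g : G => act g v = (c : F) • v).card else 0 := by
      intro v hv a
      split_ifs with hcd
      · subst hcd
        refine congrArg Finset.card (Finset.ext fun g => ?_)
        simp only [Finset.mem_filter, Finset.mem_univ, true_and, and_iff_left_iff_imp]
        intro h
        rw [act_smul, h, smul_comm]
      · refine Finset.card_eq_zero.2 (Finset.filter_eq_empty_iff.2 fun g _ h => hcd ?_)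
        have h' := h.2
        rw [act_smul, h.1, smul_smul, smul_smul, mul_comm (d : F)] at h'
        exact Units.ext (mul_left_cancel₀ a.ne_zero (smul_left_injective F (mem_nz.1 hv) h'))
    rw [h1, Finset.sum_congr rfl fun v hv => Finset.sum_congr rfl fun a _ => h2 v hv a]
    split_ifs with hcd
    · simp only [Finset.sum_const, Finset.card_univ, smul_eq_mul]
      rw [← Finset.mul_sum, Fintype.card_units, mul_comm]
      congr 1
      have := sum_eig (F := F) hn c
      simp only [eig, Finset.card_filter] at this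
      rw [Finset.sum_comm] at this
      simpa only [Finset.card_filter] using this
    · simp
  rw [h0, ← Finset.sum_filter_add_sum_filter_not (nz F n ×ˢ nz F n) (fun x => LinearIndependent F ![x.1, x.2]), mul_add, mul_one]
  rw [add_comm (Fintype.card G * _)]
  exact congrArg₂ (· + ·) hI hD

/-- The constituent attached to a character of the multiplicative group. -/
noncomputable def piChar (μ : Fˣ →* ℂˣ) (g : Matrix.SpecialLinearGroup (Fin n) F) : ℂ :=
  (Fintype.card Fˣ : ℂ)⁻¹ * ∑ c : Fˣ, ((μ c⁻¹ : ℂˣ) : ℂ) * ((eig c g).card : ℂ)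

omit [DecidableEq F] in
theorem conj_mu (μ : Fˣ →* ℂˣ) (c : Fˣ) : conj ((μ c : ℂˣ) : ℂ) = ((μ c⁻¹ : ℂˣ) : ℂ) := by
  classical
  have h : ((μ c : ℂˣ) : ℂ) ^ Fintype.card Fˣ = 1 := by
    rw [← Units.val_pow_eq_pow_val, ← map_pow, pow_card_eq_one, map_one, Units.val_one]
  rw [map_inv, Units.val_inv_eq_inv_val,
    ← Complex.inv_eq_conj (Complex.norm_eq_one_of_pow_eq_one h Fintype.card_ne_zero)]

omit [DecidableEq F] in
theorem sum_mu [DecidableEq (Fˣ →* ℂˣ)] (μ : Fˣ →* ℂˣ) [Fintype Fˣ] :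
    ∑ c : Fˣ, ((μ c : ℂˣ) : ℂ) = if μ = 1 then (Fintype.card Fˣ : ℂ) else 0 := by
  classical
  have := sum_hom_units ((Units.coeHom ℂ).comp μ)
  rw [show (∑ c : Fˣ, ((μ c : ℂˣ) : ℂ)) = ∑ c : Fˣ, ((Units.coeHom ℂ).comp μ) c from rfl, this]
  by_cases hμ : μ = 1
  · subst hμ
    simp
  · rw [if_neg hμ, if_neg, Nat.cast_zero]
    intro h
    exact hμ (MonoidHom.ext fun c => Units.ext (DFunLike.congr_fun h c))

/-- `piChar` is a character. -/
theorem isCharacter_piChar (μ : Fˣ →* ℂˣ) :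
    Cfsg.IsCharacter (Matrix.SpecialLinearGroup (Fin n) F) (piChar μ) := by
  classical
  set G := Matrix.SpecialLinearGroup (Fin n) F
  let X := {v : Fin n → F // v ≠ 0}
  let mv : G → X → X := fun g v => ⟨act g v.1, fun h => v.2 ((act_eq_zero g _).1 h)⟩
  let sc : Fˣ → X → X := fun c v => ⟨(c : F) • v.1, smul_ne_zero c.ne_zero v.2⟩
  let ρ : Representation ℂ G (X → ℂ) :=
    { toFun := fun g => LinearMap.funLeft ℂ ℂ (mv g⁻¹)
      map_one' := by ext f x; simp [LinearMap.funLeft_apply, mv, act_one]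
      map_mul' := fun a b => LinearMap.ext fun f => funext fun x =>
        congrArg f (Subtype.ext (by show act (a * b)⁻¹ x.1 = act b⁻¹ (act a⁻¹ x.1); rw [_root_.mul_inv_rev, act_mul])) }
  let W : Submodule ℂ (X → ℂ) :=
    { carrier := {f | ∀ c x, f (sc c x) = ((μ c : ℂˣ) : ℂ) * f x}
      add_mem' := fun {a b} ha hb c x => by simp [ha c x, hb c x, mul_add]
      zero_mem' := fun c x => by simp
      smul_mem' := fun r f hf c x => by simp [hf c x, mul_left_comm] }
  let P : (X → ℂ) →ₗ[ℂ] (X → ℂ) :=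
    (Fintype.card Fˣ : ℂ)⁻¹ • ∑ c : Fˣ, ((μ c⁻¹ : ℂˣ) : ℂ) • LinearMap.funLeft ℂ ℂ (sc c)
  have hP : ∀ f x, P f x = (Fintype.card Fˣ : ℂ)⁻¹ * ∑ c : Fˣ, ((μ c⁻¹ : ℂˣ) : ℂ) * f (sc c x) := by
    intro f x
    simp [P, LinearMap.funLeft_apply]
  have hρW : ∀ g, ∀ f ∈ W, ρ g f ∈ W := by
    intro g f hf c x
    have : mv g⁻¹ (sc c x) = sc c (mv g⁻¹ x) := Subtype.ext (act_smul _ _ _)
    show f (mv g⁻¹ (sc c x)) = _ * f (mv g⁻¹ x)
    rw [this, hf]
  have hPW : ∀ f, P f ∈ W := by
    intro f d x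
    rw [hP, hP, mul_left_comm ((μ d : ℂˣ) : ℂ)]
    refine congrArg _ ?_
    rw [Finset.mul_sum]
    refine Fintype.sum_equiv (Equiv.mulRight d) _ _ fun c => ?_
    have h1 : sc c (sc d x) = sc (c * d) x := Subtype.ext (by simp [sc, smul_smul])
    simp only [Equiv.coe_mulRight, h1, mul_inv, map_mul, Units.val_mul]
    rw [map_inv μ d, Units.val_inv_eq_inv_val]
    field_simp
  have hPid : ∀ f ∈ W, P f = f := by
    intro f hf
    funext x
    rw [hP, Finset.sum_congr rfl (g := fun _ : Fˣ => f x) fun c _ => by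
      rw [hf, ← mul_assoc, ← Units.val_mul, ← map_mul, inv_mul_cancel, map_one, Units.val_one, one_mul]]
    simp
  let σ : Representation ℂ G W :=
    { toFun := fun g => (ρ g).restrict (hρW g)
      map_one' := LinearMap.ext fun f => Subtype.ext (by
        show ρ 1 f.1 = f.1
        rw [map_one]; rfl)
      map_mul' := fun a b => LinearMap.ext fun f => Subtype.ext (by
        show ρ (a * b) f.1 = ρ a (ρ b f.1)
        rw [map_mul]; rfl) }
  have : FiniteDimensional ℂ W := inferInstance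
  suffices h : piChar μ = σ.character from h ▸ isCharacter_char σ
  funext g
  have hmem : ∀ f, (ρ g ∘ₗ P) f ∈ W := fun f => hρW g _ (hPW f)
  have h1 : σ g = (ρ g ∘ₗ P).restrict (p := W) (q := W) (fun f _ => hmem f) :=
    LinearMap.ext fun f => Subtype.ext (by
      show ρ g f.1 = ρ g (P f.1)
      rw [hPid f.1 f.2])
  rw [Representation.character, h1, LinearMap.trace_restrict_eq_of_forall_mem W (ρ g ∘ₗ P) hmem]
  have h2 : ρ g ∘ₗ P = (Fintype.card Fˣ : ℂ)⁻¹ •
      ∑ c : Fˣ, ((μ c⁻¹ : ℂˣ) : ℂ) • LinearMap.funLeft ℂ ℂ (fun x => sc c (mv g⁻¹ x)) := by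
    refine LinearMap.ext fun f => funext fun x => ?_
    show P f (mv g⁻¹ x) = _
    rw [hP]
    simp [LinearMap.funLeft_apply]
  rw [h2, map_smul, map_sum, piChar, smul_eq_mul]
  congr 1
  refine Finset.sum_congr rfl fun c _ => ?_
  rw [map_smul, smul_eq_mul]
  congr 1
  rw [LinearMap.trace_eq_matrix_trace ℂ (Pi.basisFun ℂ X), Matrix.trace]
  simp only [Matrix.diag_apply, LinearMap.toMatrix_apply, Pi.basisFun_repr, Pi.basisFun_apply]
  show _ = ∑ x, (Pi.single x (1 : ℂ) : X → ℂ) (sc c (mv g⁻¹ x))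
  simp only [Pi.single_apply]
  rw [Finset.sum_boole]
  refine congrArg Nat.cast (Finset.card_bij' (fun v hv => (⟨v, mem_nz.1 (Finset.mem_filter.1 hv).1⟩ : X))
    (fun x _ => x.1) ?_ ?_ (fun _ _ => rfl) (fun _ _ => rfl))
  · intro v hv
    simp only [eig, Finset.mem_filter] at hv
    simp only [Finset.mem_filter, Finset.mem_univ, true_and]
    refine Subtype.ext ?_
    show (c : F) • act g⁻¹ v = v
    rw [← act_smul, ← hv.2, ← act_mul, inv_mul_cancel, act_one]
  · intro x hx
    simp only [Finset.mem_filter, Finset.mem_univ, true_and] at hx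
    simp only [eig, Finset.mem_filter]
    refine ⟨mem_nz.2 x.2, ?_⟩
    have h : (c : F) • act g⁻¹ x.1 = x.1 := congrArg Subtype.val hx
    conv_lhs => rw [← h]
    rw [act_smul, ← act_mul, mul_inv_cancel, act_one]

theorem inner_piChar_one (hn : 3 ≤ n) [DecidableEq (Fˣ →* ℂˣ)] (μ : Fˣ →* ℂˣ) :
    Cfsg.classInner (piChar (n := n) μ) (fun _ => 1) = if μ = 1 then 1 else 0 := by
  classical
  have h : ∑ g : Matrix.SpecialLinearGroup (Fin n) F, piChar μ g =
      (Fintype.card Fˣ : ℂ)⁻¹ * ((∑ c : Fˣ, ((μ c : ℂˣ) : ℂ)) * Fintype.card (Matrix.SpecialLinearGroup (Fin n) F)) := by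
    simp only [piChar]
    rw [← Finset.mul_sum, Finset.sum_comm, Finset.sum_mul]
    congr 1
    refine Fintype.sum_equiv (Equiv.inv Fˣ) _ _ fun c => ?_
    rw [← Finset.mul_sum, ← Nat.cast_sum, sum_eig hn c]
    rfl
  have hG : (Fintype.card (Matrix.SpecialLinearGroup (Fin n) F) : ℂ) ≠ 0 := Nat.cast_ne_zero.2 Fintype.card_ne_zero
  have hU : (Fintype.card Fˣ : ℂ) ≠ 0 := Nat.cast_ne_zero.2 Fintype.card_ne_zero
  rw [Cfsg.classInner, Nat.card_eq_fintype_card]
  simp only [map_one, mul_one]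
  rw [h, sum_mu]
  split_ifs <;> simp [hU, hG]

theorem inner_piChar (hn : 3 ≤ n) [DecidableEq (Fˣ →* ℂˣ)] (μ ν : Fˣ →* ℂˣ) :
    Cfsg.classInner (piChar (n := n) μ) (piChar ν) =
      (if μ = ν then 1 else 0) + (if μ = 1 then 1 else 0) * (if ν = 1 then 1 else 0) := by
  classical
  set G := Matrix.SpecialLinearGroup (Fin n) F
  have hG : (Fintype.card G : ℂ) ≠ 0 := Nat.cast_ne_zero.2 Fintype.card_ne_zero
  have hU : (Fintype.card Fˣ : ℂ) ≠ 0 := Nat.cast_ne_zero.2 Fintype.card_ne_zero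
  have hq : ((Fintype.card F - 1 : ℕ) : ℂ) = Fintype.card Fˣ := by rw [Fintype.card_units]
  have h : ∑ g : G, piChar μ g * conj (piChar ν g) = (Fintype.card Fˣ : ℂ)⁻¹ * (Fintype.card Fˣ : ℂ)⁻¹ *
      ((Fintype.card G : ℂ) * ((Fintype.card Fˣ : ℂ) * ∑ c : Fˣ, ((μ c⁻¹ : ℂˣ) : ℂ) * ((ν c : ℂˣ) : ℂ) +
        (∑ c : Fˣ, ((μ c⁻¹ : ℂˣ) : ℂ)) * ∑ d : Fˣ, ((ν d : ℂˣ) : ℂ))) := by
    simp only [piChar, map_mul, map_inv₀, map_sum, map_natCast, conj_mu, inv_inv]
    rw [Finset.sum_congr rfl fun g _ => mul_mul_mul_comm _ _ _ _, ← Finset.mul_sum]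
    congr 1
    simp only [Finset.sum_mul_sum]
    rw [Finset.sum_comm, Finset.sum_congr rfl fun c _ => Finset.sum_comm, Finset.mul_sum, ← Finset.sum_add_distrib,
      Finset.mul_sum]
    refine Finset.sum_congr rfl fun c _ => ?_
    have h1 : ∀ d : Fˣ, ∑ g : G, ((μ c⁻¹ : ℂˣ) : ℂ) * ((eig c g).card : ℂ) * (((ν d : ℂˣ) : ℂ) * ((eig d g).card : ℂ)) =
        ((μ c⁻¹ : ℂˣ) : ℂ) * ((ν d : ℂˣ) : ℂ) * ((Fintype.card G : ℂ) * ((if c = d then (Fintype.card Fˣ : ℂ) else 0) + 1)) := by
      intro d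
      rw [Finset.sum_congr rfl fun g _ => mul_mul_mul_comm _ _ _ _, ← Finset.mul_sum,
        Finset.sum_congr rfl fun g _ => (Nat.cast_mul _ _).symm, ← Nat.cast_sum, sum_eig_mul hn c d]
      push_cast
      rw [hq]
    rw [Finset.sum_congr rfl fun d _ => h1 d]
    simp only [mul_add, mul_one, Finset.sum_add_distrib, mul_ite, mul_zero, Finset.sum_ite_eq, Finset.mem_univ, if_true,
      Finset.mul_sum, Finset.sum_mul]
    congr 1
    · ring
    · exact Finset.sum_congr rfl fun d _ => by ring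
  have hsum1 : ∑ c : Fˣ, ((μ c⁻¹ : ℂˣ) : ℂ) * ((ν c : ℂˣ) : ℂ) = ∑ c : Fˣ, (((μ⁻¹ * ν) c : ℂˣ) : ℂ) := by
    refine Finset.sum_congr rfl fun c _ => ?_
    rw [MonoidHom.mul_apply, MonoidHom.inv_apply, Units.val_mul, map_inv]
  have hsum2 : ∑ c : Fˣ, ((μ c⁻¹ : ℂˣ) : ℂ) = ∑ c : Fˣ, ((μ c : ℂˣ) : ℂ) :=
    Fintype.sum_equiv (Equiv.inv Fˣ) _ _ fun c => rfl
  rw [Cfsg.classInner, Nat.card_eq_fintype_card, h, hsum1, hsum2, sum_mu, sum_mu, sum_mu]
  change (Fintype.card G : ℂ)⁻¹ * _ = _
  by_cases hμν : μ = ν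
  · subst hμν
    rw [if_pos (inv_mul_cancel μ), if_pos rfl]
    split_ifs <;> field_simp <;> ring
  · rw [if_neg (fun h => hμν (inv_mul_eq_one.1 h)), if_neg hμν]
    split_ifs <;> field_simp <;> ring

/-- The irreducible constituents. -/
noncomputable def psiChar [DecidableEq (Fˣ →* ℂˣ)] (μ : Fˣ →* ℂˣ) :
    Matrix.SpecialLinearGroup (Fin n) F → ℂ :=
  piChar μ - (if μ = 1 then (1 : ℂ) else 0) • (fun _ => (1 : ℂ))

theorem inner_psiChar (hn : 3 ≤ n) [DecidableEq (Fˣ →* ℂˣ)] (μ ν : Fˣ →* ℂˣ) :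
    Cfsg.classInner (psiChar (n := n) μ) (psiChar ν) = if μ = ν then 1 else 0 := by
  classical
  have h11 : Cfsg.classInner (fun _ : Matrix.SpecialLinearGroup (Fin n) F => (1 : ℂ)) (fun _ => 1) = 1 := by
    simp [Cfsg.classInner]
  have h1p : Cfsg.classInner (fun _ : Matrix.SpecialLinearGroup (Fin n) F => (1 : ℂ)) (piChar ν) =
      if ν = 1 then 1 else 0 := by
    rw [classInner_comm, inner_piChar_one hn]
    split_ifs <;> simp
  simp only [psiChar, classInner_sub_left, classInner_sub_right, classInner_smul_left, classInner_smul_right,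
    h11, h1p, inner_piChar hn, inner_piChar_one hn]
  split_ifs <;> simp

theorem psiChar_irr (hn : 3 ≤ n) [DecidableEq (Fˣ →* ℂˣ)] (μ : Fˣ →* ℂˣ) :
    Cfsg.IsIrrCharacter (Matrix.SpecialLinearGroup (Fin n) F) (psiChar μ) := by
  classical
  have hgen : Cfsg.IsGeneralizedCharacter (Matrix.SpecialLinearGroup (Fin n) F) (psiChar μ) := by
    rw [psiChar]
    split_ifs
    · rw [one_smul]
      exact H57.gen_sub (H57.gen_of_char (isCharacter_piChar μ)) (H57.gen_of_irr (oneIrr _).2)
    · rw [zero_smul, sub_zero]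
      exact H57.gen_of_char (isCharacter_piChar μ)
  refine (H57.gen_norm_one hgen (by rw [inner_psiChar hn, if_pos rfl])).resolve_right fun h => ?_
  obtain ⟨k, hk, hk1⟩ := H57.irr_degree h
  have heig : ∀ c : Fˣ, (eig c (1 : Matrix.SpecialLinearGroup (Fin n) F)).card =
      if c = 1 then (nz F n).card else 0 := by
    intro c
    split_ifs with hc
    · subst hc
      rw [eig, Finset.filter_true_of_mem fun v _ => by simp [act_one]]
    · refine Finset.card_eq_zero.2 (Finset.filter_eq_empty_iff.2 fun v hv h => hc ?_)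
      rw [act_one] at h
      exact Units.ext (smul_left_injective F (mem_nz.1 hv) (by simpa using h.symm))
  have hcard : Fintype.card Fˣ + 1 ≤ (nz F n).card := by
    have hj0 : (⟨0, by omega⟩ : Fin n) ≠ ⟨1, by omega⟩ := by simp
    let T : Option Fˣ → (Fin n → F) := fun o => o.elim (Pi.single ⟨1, by omega⟩ 1) (fun c => Pi.single ⟨0, by omega⟩ (c : F))
    have hT : Function.Injective T := by
      rintro (_ | a) (_ | b) h
      · rfl
      · exact absurd (congrFun h ⟨1, by omega⟩) (by simp [T, hj0.symm])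
      · exact absurd (congrFun h ⟨1, by omega⟩) (by simp [T, hj0.symm])
      · simpa [T, Units.ext_iff] using congrFun h ⟨0, by omega⟩
    have h' := Finset.card_le_card_of_injOn (s := Finset.univ) (t := nz F n) T
      (fun o _ => mem_nz.2 (by cases o <;> simp [T])) hT.injOn
    simpa [Fintype.card_option] using h'
  have h1 : psiChar μ (1 : Matrix.SpecialLinearGroup (Fin n) F) =
      (Fintype.card Fˣ : ℂ)⁻¹ * (nz F n).card - if μ = 1 then 1 else 0 := by
    by_cases hμ : μ = 1 <;> simp [psiChar, piChar, heig, hμ]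
  rw [Pi.neg_apply, h1] at hk1
  have hU : (0 : ℝ) < Fintype.card Fˣ := Nat.cast_pos.2 Fintype.card_pos
  have hre := congrArg Complex.re hk1
  have hkpos : (0 : ℝ) < k := Nat.cast_pos.2 hk
  have hge : (1 : ℝ) < (Fintype.card Fˣ : ℝ)⁻¹ * (nz F n).card := by
    rw [← div_eq_inv_mul, one_lt_div hU]
    exact_mod_cast hcard
  split_ifs at hre <;>
    simp [← Complex.ofReal_natCast, ← Complex.ofReal_inv, ← Complex.ofReal_mul] at hre <;> nlinarith

theorem sum_psiChar [Fintype (Fˣ →* ℂˣ)] [DecidableEq (Fˣ →* ℂˣ)] (g : Matrix.SpecialLinearGroup (Fin n) F) :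
    (((nz F n).filter fun v => act g v = v).card : ℂ) = 1 + ∑ μ : Fˣ →* ℂˣ, psiChar μ g := by
  classical
  have : NeZero ((Monoid.exponent Fˣ : ℕ) : ℂ) := ⟨Nat.cast_ne_zero.2 Monoid.exponent_ne_zero_of_finite⟩
  have hU : (Fintype.card Fˣ : ℂ) ≠ 0 := Nat.cast_ne_zero.2 Fintype.card_ne_zero
  have horth : ∀ c : Fˣ, ∑ μ : Fˣ →* ℂˣ, ((μ c⁻¹ : ℂˣ) : ℂ) =
      if c = 1 then (Fintype.card Fˣ : ℂ) else 0 := by
    intro c
    split_ifs with hc
    · subst hc
      simp [← Nat.card_eq_fintype_card, CommGroup.card_monoidHom_of_hasEnoughRootsOfUnity]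
    · obtain ⟨φ, hφ⟩ := CommGroup.exists_apply_ne_one_of_hasEnoughRootsOfUnity Fˣ ℂ (a := c⁻¹) (by simpa using hc)
      have h : ((φ c⁻¹ : ℂˣ) : ℂ) * ∑ μ : Fˣ →* ℂˣ, ((μ c⁻¹ : ℂˣ) : ℂ) = ∑ μ : Fˣ →* ℂˣ, ((μ c⁻¹ : ℂˣ) : ℂ) := by
        rw [Finset.mul_sum]
        exact Fintype.sum_equiv (Equiv.mulLeft φ) _ _ fun μ => by simp
      rcases eq_or_ne (∑ μ : Fˣ →* ℂˣ, ((μ c⁻¹ : ℂˣ) : ℂ)) 0 with h0 | h0
      · exact h0
      · exact absurd (Units.ext (mul_right_cancel₀ h0 (h.trans (one_mul _).symm)) : φ c⁻¹ = 1) hφ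
  simp only [psiChar, Pi.sub_apply, Pi.smul_apply, smul_eq_mul, mul_one, Finset.sum_sub_distrib,
    Finset.sum_ite_eq', Finset.mem_univ, if_true, piChar]
  rw [← Finset.mul_sum, Finset.sum_comm]
  simp only [← Finset.sum_mul, horth, ite_mul, zero_mul, Finset.sum_ite_eq', Finset.mem_univ, if_true]
  rw [inv_mul_cancel_left₀ hU, add_sub_cancel]
  simp [eig]

/-- The decomposition. -/
theorem exists_decomposition (hn : 3 ≤ n) :
    ∃ χ : Fin (Fintype.card F - 1) → (Matrix.SpecialLinearGroup (Fin n) F → ℂ),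
      (∀ i, Cfsg.IsIrrCharacter (Matrix.SpecialLinearGroup (Fin n) F) (χ i)) ∧ Function.Injective χ ∧
      ∀ g : Matrix.SpecialLinearGroup (Fin n) F,
        (Nat.card {v : Fin n → F // v ≠ 0 ∧ (g : Matrix (Fin n) (Fin n) F).mulVec v = v} : ℂ) = 1 + ∑ i, χ i g := by
  classical
  have : NeZero ((Monoid.exponent Fˣ : ℕ) : ℂ) := ⟨Nat.cast_ne_zero.2 Monoid.exponent_ne_zero_of_finite⟩
  have : Finite (Fˣ →* ℂˣ) :=
    Finite.of_equiv Fˣ (CommGroup.monoidHom_mulEquiv_of_hasEnoughRootsOfUnity Fˣ ℂ).some.symm.toEquiv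
  have := Fintype.ofFinite (Fˣ →* ℂˣ)
  have hc : Fintype.card (Fˣ →* ℂˣ) = Fintype.card F - 1 := by
    rw [← Nat.card_eq_fintype_card, CommGroup.card_monoidHom_of_hasEnoughRootsOfUnity,
      Nat.card_eq_fintype_card, Fintype.card_units]
  let e := (Fintype.equivFinOfCardEq hc).symm
  refine ⟨fun i => psiChar (e i), fun i => psiChar_irr hn _, fun i j h => e.injective ?_, fun g => ?_⟩
  · by_contra hne
    have h1 := inner_psiChar (n := n) hn (e i) (e j)
    rw [if_neg hne] at h1
    have h2 := inner_psiChar (n := n) hn (e i) (e i)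
    rw [if_pos rfl] at h2
    rw [show psiChar (n := n) (e j) = psiChar (e i) from h.symm, h2] at h1
    exact one_ne_zero h1
  · have h2 : Nat.card {v : Fin n → F // v ≠ 0 ∧ (g : Matrix (Fin n) (Fin n) F).mulVec v = v} =
        ((nz F n).filter fun v => act g v = v).card := by
      rw [Nat.card_eq_fintype_card, Fintype.card_subtype, nz, Finset.filter_filter]
      rfl
    rw [h2, sum_psiChar g]
    congr 1
    exact (Fintype.sum_equiv e _ _ fun i => rfl).symm

end Cfsg.Agent.H66.VecChar
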